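import Mathlib.Data.List.Basic

/-!
A check on a long list cut into pieces.
-/

set_option autoImplicit false

namespace CfsgLib.Golay

/-- `p` holds on the piece number `i` of length `n` -/
def chunkOK {α : Type} (n : ℕ) (l : List α) (p : α → Bool) (i : ℕ) : Bool :=
  ((l.drop (n * i)).take n).all p

theorem all_of_four_chunks {α : Type} {n : ℕ} {l : List α} {p : α → Bool} (hn : 0 < n)
    (hlen : l.length ≤ n * 4) (h0 : chunkOK n l p 0 = true) (h1 : chunkOK n l p 1 = true)
    (h2 : chunkOK n l p 2 = true) (h3 : chunkOK n l p 3 = true) : l.all p = true := by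
  rw [List.all_eq_true]
  intro x hx
  obtain ⟨j, hj, rfl⟩ := List.getElem_of_mem hx
  have hi : j / n < 4 := Nat.div_lt_of_lt_mul (Nat.lt_of_lt_of_le hj hlen)
  have h : chunkOK n l p (j / n) = true := by
    generalize j / n = d at hi ⊢
    obtain e | e | e | e : d = 0 ∨ d = 1 ∨ d = 2 ∨ d = 3 := by omega
    all_goals rw [e]
    exacts [h0, h1, h2, h3]
  refine List.all_eq_true.1 h _ (List.mem_iff_getElem?.2 ⟨j % n, ?_⟩)
  rw [List.getElem?_take_of_lt (Nat.mod_lt _ hn), List.getElem?_drop, Nat.div_add_mod,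
    List.getElem?_eq_getElem hj]

end CfsgLib.Golay
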