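import Cfsg.Agent.Lib.Golay.CodeLists
import Cfsg.Agent.Lib.Golay.Systems.SextetData
import Cfsg.Agent.Lib.Golay.Systems.Pieces

/-!
Kernel checks of the list of sextets.
-/

set_option autoImplicit false
-- the checks run one after another, which keeps the peak memory low
set_option Elab.async false
set_option maxRecDepth 20000

namespace CfsgLib.Golay

/-- checks of one packed sextet -/
def sextOK (u : List ℕ) : Bool :=
  u.length == 6 && u.headI.testBit 23 && u.all (fun a => pop 24 a == 4) &&
    u.all (fun a => a == u.headI || inC (u.headI ||| a)) &&
    u.all fun a => u.all fun b => a == b || (a &&& b == 0 &&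
      (a == u.headI || b == u.headI || (u.headI ||| a) ^^^ (u.headI ||| b) == a ||| b))

/-- the syndrome of a mask, shifted down -/
def synd (m : ℕ) : ℕ := (m ^^^ comb rows m) >>> 12

/-- every tetrad through the last point has the syndrome of a listed sextet -/
def sextCover (t : STree) : Bool :=
  let acc := (t.items.map fun e => e.1.headI).foldl (fun a m => a ||| (1 <<< synd m)) 0
  (List.range 23).all fun i => (List.range i).all fun j => (List.range j).all fun k =>
    acc.testBit (synd (2 ^ 23 ||| 2 ^ i ||| 2 ^ j ||| 2 ^ k))

theorem sextTree_ok : sextTree.ok 1771 = true := by decide +kernel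

theorem sextTree_items_0 : chunkOK 443 (sextTree.items) (fun e => sextOK e.1) 0 = true := by
  decide +kernel

theorem sextTree_items_1 : chunkOK 443 (sextTree.items) (fun e => sextOK e.1) 1 = true := by
  decide +kernel

theorem sextTree_items_2 : chunkOK 443 (sextTree.items) (fun e => sextOK e.1) 2 = true := by
  decide +kernel

theorem sextTree_items_3 : chunkOK 443 (sextTree.items) (fun e => sextOK e.1) 3 = true := by
  decide +kernel

theorem sextTree_items : sextTree.items.all (fun e => sextOK e.1) = true :=
  all_of_four_chunks (n := 443) (by decide) (by decide +kernel) sextTree_items_0 sextTree_items_1 sextTree_items_2 sextTree_items_3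

theorem sextTree_cover : sextCover sextTree = true := by decide +kernel

end CfsgLib.Golay
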