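import Cfsg.Agent.Lib.Golay.Systems.Engine

/-!
Orbits of the stabilizer of one system on a family of systems, told apart by intersection numbers.
-/

set_option autoImplicit false
set_option maxRecDepth 10000

namespace CfsgLib.Golay

open Cfsg
open scoped Pointwise

/-- intersection signature of two packed systems -/
def sigL (R X : List ℕ) : ℕ := (R.map fun r => (X.map fun t => 8 ^ pop 24 (r &&& t)).sum ^ 2).sum

/-- intersection signature of two systems -/
def sigF (R X : Finset (Finset GolayPt)) : ℕ := ∑ r ∈ R, (∑ t ∈ X, 8 ^ (r ∩ t).card) ^ 2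

/-- the members of a family with a given signature against `R` -/
def setS (𝒰 : Set (Finset (Finset GolayPt))) (R : Finset (Finset GolayPt)) (c : ℕ) :
    Set (Finset (Finset GolayPt)) := {X | X ∈ 𝒰 ∧ sigF R X = c}

/-- the elements of the group of the code fixing every listed system -/
noncomputable def fixRefs (Rs : List (List ℕ)) : Subgroup (Equiv.Perm GolayPt) where
  carrier := {g | g ∈ M24 ∧ ∀ R ∈ Rs, g • objF R = objF R}
  one_mem' := ⟨one_mem _, fun _ _ => one_smul _ _⟩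
  mul_mem' := fun {a b} ha hb => ⟨mul_mem ha.1 hb.1, fun o ho => by rw [mul_smul, hb.2 o ho, ha.2 o ho]⟩
  inv_mem' := fun {a} ha => ⟨inv_mem ha.1, fun o ho => by rw [inv_smul_eq_iff, ha.2 o ho]⟩

theorem mem_fixRefs {Rs : List (List ℕ)} {g : Equiv.Perm GolayPt} :
    g ∈ fixRefs Rs ↔ g ∈ M24 ∧ ∀ R ∈ Rs, g • objF R = objF R := Iff.rfl

/-- test that generators fix every listed system -/
def refsOK (Rs : List (List ℕ)) (gens : List ℕ) : Bool :=
  gens.all fun P => inM24 P && Rs.all fun R => setEq (R.map fun m => mimgB 24 m P) R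

theorem refsOK_mem {Rs : List (List ℕ)} {gens : List ℕ} (h : refsOK Rs gens = true) :
    ∀ P ∈ gens, validP P = true ∧ toPerm P ∈ fixRefs Rs := by
  intro P hP
  simp only [refsOK, List.all_eq_true, Bool.and_eq_true] at h
  obtain ⟨hM, hR⟩ := h P hP
  have hv : validP P = true := by simp only [inM24, Bool.and_eq_true] at hM; exact hM.1
  exact ⟨hv, mem_fixRefs.2 ⟨toPerm_mem_M24 hM, fun R hR' => by rw [smul_objF hv, setEq_objF (hR R hR')]⟩⟩

theorem objF_inj_on {l : List ℕ} (hl : ∀ m ∈ l, m < 2 ^ 24) (hn : l.Nodup) :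
    (l.map dec).Nodup := hn.map_on fun a ha b hb e => dec_inj (hl a ha) (hl b hb) e

theorem sum_objF {l : List ℕ} (hl : ∀ m ∈ l, m < 2 ^ 24) (hn : l.Nodup) (f : Finset GolayPt → ℕ) :
    ∑ s ∈ objF l, f s = (l.map fun m => f (dec m)).sum := by
  rw [objF, List.sum_toFinset _ (objF_inj_on hl hn), List.map_map]
  rfl

theorem sigF_objF {R X : List ℕ} (hR : ∀ m ∈ R, m < 2 ^ 24) (hR' : R.Nodup)
    (hX : ∀ m ∈ X, m < 2 ^ 24) (hX' : X.Nodup) : sigF (objF R) (objF X) = sigL R X := by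
  simp only [sigF, sigL, sum_objF hR hR', sum_objF hX hX', card_inter_dec]

theorem sigF_smul (g : Equiv.Perm GolayPt) (R X : Finset (Finset GolayPt)) :
    sigF (g • R) (g • X) = sigF R X := by
  have h : ∀ (S : Finset (Finset GolayPt)) (f : Finset GolayPt → ℕ),
      ∑ x ∈ g • S, f x = ∑ x ∈ S, f (g • x) := fun S f =>
    Finset.sum_image fun a _ b _ e => MulAction.injective g e
  simp only [sigF, h, smul_card_inter]

/-- a family of systems with its search tree -/
structure Family where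
  /-- the family -/
  sets : Set (Finset (Finset GolayPt))
  /-- the tree -/
  tree : STree
  /-- the number of systems -/
  size : ℕ
  ok : tree.ok size = true
  smul_mem : ∀ g ∈ M24, ∀ X ∈ sets, g • X ∈ sets
  mem_iff : ∀ X, X ∈ sets ↔ ∃ u ∈ tree.objs, objF u = X

theorem Family.ncard_filter (F : Family) {q : Finset (Finset GolayPt) → Prop} (f : List ℕ → Bool)
    (h : ∀ u ∈ F.tree.objs, q (objF u) ↔ f u = true) :
    {X | X ∈ F.sets ∧ q X}.ncard = F.tree.objs.countP f := by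
  have he : {X | X ∈ F.sets ∧ q X} = objF '' {u | u ∈ F.tree.objs.filter f} := by
    ext X
    simp only [Set.mem_setOf_eq, Set.mem_image, F.mem_iff, List.mem_filter]
    constructor
    · rintro ⟨⟨u, hu, rfl⟩, hq⟩; exact ⟨u, ⟨hu, (h u hu).1 hq⟩, rfl⟩
    · rintro ⟨u, ⟨hu, hf⟩, rfl⟩; exact ⟨⟨u, hu, rfl⟩, (h u hu).2 hf⟩
  rw [he, Set.InjOn.ncard_image (s := {u | u ∈ F.tree.objs.filter f}) fun a ha b hb e =>
      STree.objF_inj F.ok (List.mem_filter.1 ha).1 (List.mem_filter.1 hb).1 e,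
    List.countP_eq_length_filter,
    ← List.toFinset_card_of_nodup ((STree.objs_nodup F.ok).filter f), ← Set.ncard_coe_finset]
  congr 1
  ext u
  simp

theorem Family.ncard_sets (F : Family) : F.sets.ncard = F.tree.objs.length := by
  have h := F.ncard_filter (q := fun _ => True) (fun _ => true) (by simp)
  simpa using h

/-- a certificate for the class of signature `c` against `R0`, with `cnt` members -/
def classOK (t : STree) (R0 gens : List ℕ) (w : List ℕ × ℕ × ℕ × ℕ) (c cnt : ℕ) : Bool :=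
  decide R0.Nodup && R0.all (fun m => decide (m < 16777216)) && refsOK [R0] gens &&
    coverOK t gens w (fun u => sigL R0 u == c) && t.objs.countP (fun u => sigL R0 u == c) == cnt &&
    decide (0 < cnt)

/-- all signatures against `R0` are listed -/
def valsOK (t : STree) (R0 : List ℕ) (cs : List ℕ) : Bool :=
  decide R0.Nodup && R0.all (fun m => decide (m < 16777216)) &&
    t.objs.all fun u => cs.contains (sigL R0 u)

variable (F : Family) {R0 gens : List ℕ} {w : List ℕ × ℕ × ℕ × ℕ} {c cnt : ℕ}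

theorem Family.sig_eq (hn : R0.Nodup) (hlt : ∀ m ∈ R0, m < 2 ^ 24) {u : List ℕ}
    (hu : u ∈ F.tree.objs) : sigF (objF R0) (objF u) = sigL R0 u := by
  refine sigF_objF hlt hn (STree.objs_lt hu) ?_
  obtain ⟨e, he, rfl⟩ := List.mem_map.1 hu
  exact (STree.ok_find F.ok he).2

theorem Family.setS_smul {g : Equiv.Perm GolayPt} (hg : g ∈ M24) (R : Finset (Finset GolayPt)) (c : ℕ) :
    setS F.sets (g • R) c = (fun X => g • X) '' setS F.sets R c := by
  ext X
  constructor
  · rintro ⟨hX, hc⟩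
    refine ⟨g⁻¹ • X, ⟨F.smul_mem _ (inv_mem hg) X hX, ?_⟩, smul_inv_smul g X⟩
    rw [← sigF_smul g, smul_inv_smul, hc]
  · rintro ⟨Y, ⟨hY, hc⟩, rfl⟩
    exact ⟨F.smul_mem g hg Y hY, by rw [sigF_smul, hc]⟩

theorem Family.ncard_class (h : classOK F.tree R0 gens w c cnt = true) {g : Equiv.Perm GolayPt}
    (hg : g ∈ M24) : (setS F.sets (g • objF R0) c).ncard = cnt := by
  simp only [classOK, Bool.and_eq_true, decide_eq_true_eq, List.all_eq_true, beq_iff_eq] at h
  obtain ⟨⟨⟨⟨⟨hn, hlt⟩, -⟩, -⟩, hc⟩, -⟩ := h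
  rw [F.setS_smul hg, Set.ncard_image_of_injective _ (MulAction.injective g), setS,
    F.ncard_filter (fun u => sigL R0 u == c) fun u hu => by
      rw [F.sig_eq hn (fun m hm => by norm_num; exact hlt m hm) hu, beq_iff_eq], hc]

theorem Family.exists_mem_class (h : classOK F.tree R0 gens w c cnt = true) {g : Equiv.Perm GolayPt}
    (hg : g ∈ M24) : ∃ X, X ∈ setS F.sets (g • objF R0) c := by
  have := F.ncard_class h hg
  simp only [classOK, Bool.and_eq_true, decide_eq_true_eq] at h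
  exact Set.nonempty_of_ncard_ne_zero (by omega)

theorem Family.trans_class (h : classOK F.tree R0 gens w c cnt = true) {g : Equiv.Perm GolayPt}
    (hg : g ∈ M24) {X Y : Finset (Finset GolayPt)} (hX : X ∈ setS F.sets (g • objF R0) c)
    (hY : Y ∈ setS F.sets (g • objF R0) c) :
    ∃ k ∈ M24, k • (g • objF R0) = g • objF R0 ∧ k • X = Y := by
  simp only [classOK, Bool.and_eq_true, decide_eq_true_eq, List.all_eq_true, beq_iff_eq] at h
  obtain ⟨⟨⟨⟨⟨hn, hlt⟩, hrefs⟩, hcov⟩, -⟩, -⟩ := h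
  have hlt' : ∀ m ∈ R0, m < 2 ^ 24 := fun m hm => by norm_num; exact hlt m hm
  rw [F.setS_smul hg] at hX hY
  obtain ⟨X, ⟨hX, hXc⟩, rfl⟩ := hX
  obtain ⟨Y, ⟨hY, hYc⟩, rfl⟩ := hY
  obtain ⟨u, hu, rfl⟩ := (F.mem_iff X).1 hX
  obtain ⟨v, hv, rfl⟩ := (F.mem_iff Y).1 hY
  rw [F.sig_eq hn hlt' hu] at hXc
  rw [F.sig_eq hn hlt' hv] at hYc
  obtain ⟨a, ha, hau⟩ := exists_of_coverOK F.ok (refsOK_mem hrefs) hcov hu (by simpa using hXc)
  obtain ⟨b, hb, hbv⟩ := exists_of_coverOK F.ok (refsOK_mem hrefs) hcov hv (by simpa using hYc)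
  have hab := mem_fixRefs.1 (mul_mem hb (inv_mem ha))
  refine ⟨g * (b * a⁻¹) * g⁻¹, mul_mem (mul_mem hg hab.1) (inv_mem hg), ?_, ?_⟩
  · rw [mul_smul, inv_smul_smul, mul_smul, hab.2 R0 List.mem_cons_self]
  · show _ • g • objF u = g • objF v
    rw [mul_smul, inv_smul_smul, mul_smul, mul_smul, ← hau, inv_smul_smul, hbv]

theorem Family.orbit_class (h : classOK F.tree R0 gens w c cnt = true) {g : Equiv.Perm GolayPt}
    (hg : g ∈ M24) {X : Finset (Finset GolayPt)} (hX : X ∈ setS F.sets (g • objF R0) c) :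
    MulAction.orbit ↥(MulAction.stabilizer M24 (g • objF R0)) X = setS F.sets (g • objF R0) c := by
  ext Y
  constructor
  · rintro ⟨⟨k, hk⟩, rfl⟩
    refine ⟨F.smul_mem k.1 k.2 X hX.1, ?_⟩
    have hk' : (k : Equiv.Perm GolayPt) • (g • objF R0) = g • objF R0 := hk
    have := sigF_smul (k : Equiv.Perm GolayPt) (g • objF R0) X
    rw [hk', hX.2] at this
    exact this
  · intro hY
    obtain ⟨k, hk, hkR, hkX⟩ := F.trans_class h hg hX hY
    exact ⟨⟨⟨k, hk⟩, hkR⟩, hkX⟩

theorem Family.sig_mem {cs : List ℕ} (h : valsOK F.tree R0 cs = true) {g : Equiv.Perm GolayPt}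
    (hg : g ∈ M24) {X : Finset (Finset GolayPt)} (hX : X ∈ F.sets) :
    ∃ c ∈ cs, X ∈ setS F.sets (g • objF R0) c := by
  simp only [valsOK, Bool.and_eq_true, decide_eq_true_eq, List.all_eq_true, List.contains_iff_mem] at h
  obtain ⟨⟨hn, hlt⟩, hall⟩ := h
  have hlt' : ∀ m ∈ R0, m < 2 ^ 24 := fun m hm => by norm_num; exact hlt m hm
  obtain ⟨u, hu, he⟩ := (F.mem_iff _).1 (F.smul_mem _ (inv_mem hg) X hX)
  refine ⟨_, hall u hu, hX, ?_⟩
  have : X = g • objF u := by rw [he, smul_inv_smul]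
  rw [this, sigF_smul, F.sig_eq hn hlt' hu]

end CfsgLib.Golay
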