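import Cfsg.Prelude.Def_SporadicCombinatorics
import Cfsg.Agent.Lib.Golay.Systems.Orbits
import Cfsg.Agent.Lib.Golay.Systems.SextetChecks

/-!
The family of sextets.
-/

set_option autoImplicit false
set_option maxRecDepth 20000

namespace CfsgLib.Golay

open Cfsg
open scoped Pointwise

theorem exists_map_base_four {t : Finset GolayPt} (ht : t.card = 4) :
    ∃ g ∈ M24, g • dec (2 ^ 23 ||| 1 ||| 2 ||| 4) = t := by
  obtain ⟨q, hq⟩ : ∃ q : GolayPt, q ∉ t := by
    by_contra h
    push Not at h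
    have : t = Finset.univ := Finset.eq_univ_of_forall h
    rw [this, Finset.card_univ] at ht
    simp at ht
  obtain ⟨g, hg, hmap⟩ := exists_map_base5 (t.toList ++ [q]) (by simp [ht]) (by
    rw [List.nodup_append]
    exact ⟨t.nodup_toList, List.nodup_singleton q, fun a ha b hb e =>
      hq (by rw [← List.mem_singleton.1 hb, ← e]; exact Finset.mem_toList.1 ha)⟩)
  refine ⟨g, hg, ?_⟩
  have h4 : t.toList = [23, 0, 1, 2].map fun b => g (pt b) := by
    have := congrArg (List.take 4) hmap
    rw [← List.map_take, List.take_left' (by simp [ht])] at this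
    exact this.symm
  have hd : dec (2 ^ 23 ||| 1 ||| 2 ||| 4) = ([23, 0, 1, 2].map pt).toFinset := by decide +kernel
  ext p
  rw [hd, ← Finset.mem_toList (s := t), h4]
  simp only [Finset.mem_smul_finset, List.mem_toFinset, List.mem_map]
  constructor
  · rintro ⟨_, ⟨b, hb, rfl⟩, rfl⟩; exact ⟨b, hb, rfl⟩
  · rintro ⟨b, hb, rfl⟩; exact ⟨pt b, ⟨b, hb, rfl⟩, rfl⟩

theorem octads_through_four {t : Finset GolayPt} (ht : t.card = 4) :
    {o | o ∈ octads ∧ t ⊆ o}.ncard = 5 := by
  obtain ⟨g, hg, rfl⟩ := exists_map_base_four ht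
  have he : {o | o ∈ octads ∧ g • dec (2 ^ 23 ||| 1 ||| 2 ||| 4) ⊆ o} =
      (fun o => g • o) '' {o | o ∈ octads ∧ dec (2 ^ 23 ||| 1 ||| 2 ||| 4) ⊆ o} := by
    ext o
    constructor
    · rintro ⟨ho, hs⟩
      refine ⟨g⁻¹ • o, ⟨smul_mem_octads (inv_mem hg) ho, ?_⟩, smul_inv_smul g o⟩
      rwa [← Finset.smul_finset_subset_smul_finset_iff (a := g), smul_inv_smul]
    · rintro ⟨u, ⟨hu, hs⟩, rfl⟩
      exact ⟨smul_mem_octads hg hu, Finset.smul_finset_subset_smul_finset_iff.2 hs⟩
  rw [he, Set.ncard_image_of_injective _ (MulAction.injective g)]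
  have h := ncard_code_filter (n := 8) (lit := octLit)
    (q := fun o => dec (2 ^ 23 ||| 1 ||| 2 ||| 4) ⊆ o)
    (by rw [← octList_eq_octLit]; rfl)
    (fun m => (2 ^ 23 ||| 1 ||| 2 ||| 4) &&& m == (2 ^ 23 ||| 1 ||| 2 ||| 4)) (fun m => ?_)
  · exact h.trans (by decide +kernel)
  · rw [beq_iff_eq]
    constructor
    · intro hsub
      have : dec ((2 ^ 23 ||| 1 ||| 2 ||| 4) &&& m) = dec (2 ^ 23 ||| 1 ||| 2 ||| 4) := by
        rw [dec_and, Finset.inter_eq_left]; exact hsub
      exact dec_inj (lt_of_le_of_lt Nat.and_le_left (by decide +kernel)) (by decide +kernel) this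
    · intro e
      rw [← e, dec_and]
      exact Finset.inter_subset_right

theorem sextet_disjoint {S : Finset (Finset GolayPt)} (hS : S ∈ sextets) {t u : Finset GolayPt}
    (ht : t ∈ S) (hu : u ∈ S) (hne : t ≠ u) : Disjoint t u := by
  rw [Finset.disjoint_iff_inter_eq_empty, ← Finset.card_eq_zero]
  have h := Finset.card_union_add_card_inter t u
  have := (hS.2.2 t ht u hu hne).2
  have := hS.2.1 t ht
  have := hS.2.1 u hu
  omega

theorem sextet_unique {S S' : Finset (Finset GolayPt)} (hS : S ∈ sextets) (hS' : S' ∈ sextets)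
    {t : Finset GolayPt} (ht : t ∈ S) (ht' : t ∈ S') : S = S' := by
  classical
  have key : ∀ {T : Finset (Finset GolayPt)}, T ∈ sextets → t ∈ T →
      ∀ u, u ∈ T ↔ (u = t ∨ ∃ o ∈ octads, t ⊆ o ∧ u = o \ t) := by
    intro T hT htT u
    have hfin : {o | o ∈ octads ∧ t ⊆ o}.Finite := Set.toFinite _
    have himg : (fun v => t ∪ v) '' (↑(T.erase t) : Set (Finset GolayPt)) = {o | o ∈ octads ∧ t ⊆ o} := by
      refine Set.eq_of_subset_of_ncard_le ?_ ?_ hfin
      · rintro _ ⟨v, hv, rfl⟩
        obtain ⟨hne, hvT⟩ := Finset.mem_erase.1 hv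
        exact ⟨hT.2.2 t htT v hvT (Ne.symm hne), Finset.subset_union_left⟩
      · rw [octads_through_four (hT.2.1 t htT), Set.InjOn.ncard_image, Set.ncard_coe_finset,
          Finset.card_erase_of_mem htT, hT.1]
        intro a ha b hb e
        obtain ⟨hna, haT⟩ := Finset.mem_erase.1 ha
        obtain ⟨hnb, hbT⟩ := Finset.mem_erase.1 hb
        have h := congrArg (fun x => x \ t) e
        simp only [Finset.union_sdiff_left] at h
        rwa [Finset.sdiff_eq_self_of_disjoint (sextet_disjoint hT haT htT hna),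
          Finset.sdiff_eq_self_of_disjoint (sextet_disjoint hT hbT htT hnb)] at h
    constructor
    · intro hu
      by_cases hut : u = t
      · exact Or.inl hut
      · have hd := sextet_disjoint hT hu htT hut
        exact Or.inr ⟨t ∪ u, hT.2.2 t htT u hu (Ne.symm hut), Finset.subset_union_left,
          by rw [Finset.union_sdiff_left, Finset.sdiff_eq_self_of_disjoint hd]⟩
    · rintro (rfl | ⟨o, ho, hto, rfl⟩)
      · exact htT
      · have : o ∈ {o | o ∈ octads ∧ t ⊆ o} := ⟨ho, hto⟩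
        rw [← himg] at this
        obtain ⟨v, hv, rfl⟩ := this
        obtain ⟨hne, hvT⟩ := Finset.mem_erase.1 hv
        rw [Finset.union_sdiff_left, Finset.sdiff_eq_self_of_disjoint (sextet_disjoint hT hvT htT hne)]
        exact hvT
  ext u
  rw [key hS ht, key hS' ht']

theorem smul_mem_sextets {g : Equiv.Perm GolayPt} (hg : g ∈ M24) {S : Finset (Finset GolayPt)}
    (hS : S ∈ sextets) : g • S ∈ sextets := by
  refine ⟨by rw [Finset.card_smul_finset]; exact hS.1, fun t ht => ?_, fun t ht u hu hne => ?_⟩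
  · obtain ⟨t', ht', rfl⟩ := Finset.mem_smul_finset.1 ht
    rw [Finset.card_smul_finset]; exact hS.2.1 t' ht'
  · obtain ⟨t', ht', rfl⟩ := Finset.mem_smul_finset.1 ht
    obtain ⟨u', hu', rfl⟩ := Finset.mem_smul_finset.1 hu
    rw [← Finset.smul_finset_union]
    exact smul_mem_octads hg (hS.2.2 t' ht' u' hu' fun e => hne (by rw [e]))

theorem objF_mem_sextets {u : List ℕ} (hu : u ∈ sextTree.objs) :
    objF u ∈ sextets ∧ dec u.headI ∈ objF u ∧ none ∈ dec u.headI := by
  obtain ⟨e, he, rfl⟩ := List.mem_map.1 hu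
  have hlt := sextTree.items_lt e he
  have hnd := (STree.ok_find sextTree_ok he).2
  have h := List.all_eq_true.1 sextTree_items e he
  simp only [sextOK, Bool.and_eq_true, beq_iff_eq, List.all_eq_true, Bool.or_eq_true] at h
  obtain ⟨⟨⟨⟨hlen, h23⟩, hpop⟩, hhead⟩, hpair⟩ := h
  refine ⟨⟨?_, ?_, ?_⟩, ?_, ?_⟩
  · rw [objF, List.toFinset_card_of_nodup (objF_inj_on hlt hnd), List.length_map, hlen]
  · intro t ht
    simp only [objF, List.mem_toFinset, List.mem_map] at ht
    obtain ⟨a, ha, rfl⟩ := ht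
    rw [card_dec_eq_pop, hpop a ha]
  · intro t ht s hs hne
    set e_hd := e.1.headI with hhd
    simp only [objF, List.mem_toFinset, List.mem_map] at ht hs
    obtain ⟨a, ha, rfl⟩ := ht
    obtain ⟨b, hb, rfl⟩ := hs
    rcases hpair a ha b hb with hab | hab
    · exact absurd (by rw [hab]) hne
    · have h8 : pop 24 (a ||| b) = 8 := by
        rw [← card_dec_eq_pop, dec_or, Finset.card_union_of_disjoint, card_dec_eq_pop, card_dec_eq_pop,
          hpop a ha, hpop b hb]
        rw [Finset.disjoint_iff_inter_eq_empty, ← dec_and, hab.1, ← Finset.card_eq_zero, card_dec_eq_pop]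
        rfl
      rw [← dec_or]
      refine dec_mem_octads ?_ h8
      rcases hab.2 with (e | e) | e
      · subst e
        exact (hhead b hb).resolve_left fun e' => hne (by rw [e'])
      · subst e
        rw [Nat.or_comm]
        exact (hhead a ha).resolve_left fun e' => hne (by rw [e'])
      · by_cases ea : a = e_hd
        · subst ea; exact (hhead b hb).resolve_left fun e' => hne (by rw [e'])
        · by_cases eb : b = e_hd
          · subst eb; rw [Nat.or_comm]; exact (hhead a ha).resolve_left ea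
          · rw [← e]; exact inC_xor ((hhead a ha).resolve_left ea) ((hhead b hb).resolve_left eb)
  · simp only [objF, List.mem_toFinset]
    refine List.mem_map_of_mem ?_
    cases h1 : e.1 with
    | nil => rw [h1] at hlen; simp at hlen
    | cons a as => simp
  · rw [mem_dec]; exact h23

theorem comb_mod : ∀ (l : List ℕ) (m : ℕ), comb l (m % 2 ^ l.length) = comb l m
  | [], _ => rfl
  | r :: rs, m => by
    have h1 : m % 2 ^ (rs.length + 1) % 2 = m % 2 :=
      Nat.mod_mod_of_dvd _ (dvd_pow_self 2 (by omega))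
    have h2 : m % 2 ^ (rs.length + 1) / 2 = m / 2 % 2 ^ rs.length := by
      rw [pow_succ, mul_comm, Nat.mod_mul_right_div_self]
    simp only [comb, List.length_cons, h1, h2, comb_mod rs]

theorem low_xor_comb (m : ℕ) : (m ^^^ comb rows m) % 4096 = 0 := by
  have h := comb_low (m % 4096) (List.mem_range.2 (Nat.mod_lt _ (by norm_num)))
  have hm : comb rows (m % 4096) = comb rows m := comb_mod rows m
  rw [hm] at h
  apply Nat.eq_of_testBit_eq
  intro i
  have hi := congrArg (fun n : ℕ => n.testBit i) h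
  simp only [show (4096 : ℕ) = 2 ^ 12 from rfl, Nat.testBit_mod_two_pow] at hi ⊢
  simp only [Nat.testBit_xor, Nat.zero_testBit]
  by_cases h12 : i < 12 <;> simp [h12] at hi ⊢
  rw [hi]

theorem inC_xor_of_synd {a b : ℕ} (h : synd a = synd b) : inC (a ^^^ b) = true := by
  have e : a ^^^ comb rows a = b ^^^ comb rows b := by
    have ha := low_xor_comb a
    have hb := low_xor_comb b
    simp only [synd, Nat.shiftRight_eq_div_pow] at h
    omega
  simp only [inC, beq_iff_eq, comb_xor]
  apply Nat.eq_of_testBit_eq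
  intro i
  have := congrArg (fun n : ℕ => n.testBit i) e
  simp only [Nat.testBit_xor] at this ⊢
  revert this
  cases a.testBit i <;> cases b.testBit i <;> cases (comb rows a).testBit i <;>
    cases (comb rows b).testBit i <;> simp

theorem foldl_bit (l : List ℕ) (f : ℕ → ℕ) : ∀ (a i : ℕ),
    (l.foldl (fun a m => a ||| (1 <<< f m)) a).testBit i = true →
      a.testBit i = true ∨ ∃ m ∈ l, f m = i := by
  induction l with
  | nil => intro a i h; exact Or.inl h
  | cons m l ih =>
    intro a i h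
    rw [List.foldl_cons] at h
    rcases ih _ i h with h' | ⟨m', hm', e⟩
    · rw [Nat.testBit_or, Bool.or_eq_true, Nat.one_shiftLeft, Nat.testBit_two_pow, decide_eq_true_eq] at h'
      exact h'.imp id fun e => ⟨m, List.mem_cons_self, e⟩
    · exact Or.inr ⟨m', List.mem_cons_of_mem _ hm', e⟩

theorem sort3 {n : ℕ} {P : ℕ → ℕ → ℕ → Prop} {a b c : ℕ} (hab : a ≠ b) (hac : a ≠ c) (hbc : b ≠ c)
    (ha : a < n) (hb : b < n) (hc : c < n) (h12 : ∀ i j k, P i j k → P j i k)
    (h23 : ∀ i j k, P i j k → P i k j) (h : P a b c) :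
    ∃ i j k, i < n ∧ j < i ∧ k < j ∧ P i j k := by
  rcases Nat.lt_or_gt_of_ne hab with h1 | h1 <;> rcases Nat.lt_or_gt_of_ne hac with h2 | h2 <;>
    rcases Nat.lt_or_gt_of_ne hbc with h3 | h3
  · exact ⟨c, b, a, hc, h3, h1, h12 _ _ _ (h23 _ _ _ (h12 _ _ _ h))⟩
  · exact ⟨b, c, a, hb, h3, h2, h23 _ _ _ (h12 _ _ _ h)⟩
  · omega
  · exact ⟨b, a, c, hb, h1, h2, h12 _ _ _ h⟩
  · exact ⟨c, a, b, hc, h2, h1, h12 _ _ _ (h23 _ _ _ h)⟩
  · omega
  · exact ⟨a, c, b, ha, h2, h3, h23 _ _ _ h⟩
  · exact ⟨a, b, c, ha, h1, h3, h⟩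

theorem exists_listed {S : Finset (Finset GolayPt)} (hS : S ∈ sextets) :
    ∃ u ∈ sextTree.objs, objF u = S := by
  classical
  have hcov : S.biUnion id = Finset.univ := by
    refine Finset.eq_univ_of_card _ ?_
    rw [Finset.card_biUnion (s := S) (t := id) (fun t ht u hu hne => sextet_disjoint hS ht hu hne)]
    simp only [id]
    rw [Finset.sum_congr rfl (fun t ht => hS.2.1 t ht), Finset.sum_const, hS.1]
    simp
  obtain ⟨t, htS, hnone⟩ : ∃ t ∈ S, (none : GolayPt) ∈ t := by
    have : (none : GolayPt) ∈ S.biUnion id := by rw [hcov]; exact Finset.mem_univ _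
    simpa using this
  obtain ⟨m, hm, rfl⟩ := exists_mask t
  have hm4 : pop 24 m = 4 := by rw [← card_dec_eq_pop]; exact hS.2.1 _ htS
  have h23 : m.testBit 23 = true := by rw [mem_dec] at hnone; exact hnone
  have h3 : (dec m \ {none}).card = 3 := by
    rw [Finset.card_sdiff_of_subset (by simpa using hnone), card_dec_eq_pop, hm4, Finset.card_singleton]
  obtain ⟨a, b, c, hab, hac, hbc, he⟩ := Finset.card_eq_three.1 h3
  have hdec : ∀ p q r : GolayPt, dec m \ {none} = {p, q, r} →
      dec m = dec (2 ^ 23 ||| 2 ^ idx p ||| 2 ^ idx q ||| 2 ^ idx r) := by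
    intro p q r hpq
    simp only [dec_or, dec_two_pow (idx_lt _), dec_two_pow (show 23 < 24 by norm_num), pt_idx]
    have e : dec m = {none} ∪ (dec m \ {none}) := by
      rw [Finset.union_sdiff_of_subset (by simpa using hnone)]
    rw [e, hpq]
    have : pt 23 = none := rfl
    rw [this]
    ext x
    simp only [Finset.mem_union, Finset.mem_singleton, Finset.mem_insert, or_assoc]
  have hne : ∀ {p : GolayPt}, p ∈ dec m \ {none} → idx p < 23 := by
    intro p hp
    have h24 := idx_lt p
    rcases Nat.lt_or_ge (idx p) 23 with h | h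
    · exact h
    · exfalso
      have : p = none := by rw [← pt_idx p, show idx p = 23 by omega]; rfl
      simp [this] at hp
  have ha : idx a < 23 := hne (by rw [he]; simp)
  have hb : idx b < 23 := hne (by rw [he]; simp)
  have hc : idx c < 23 := hne (by rw [he]; simp)
  have hsorted : ∃ i j k, i < 23 ∧ j < i ∧ k < j ∧ m = 2 ^ 23 ||| 2 ^ i ||| 2 ^ j ||| 2 ^ k := by
    have hbound : ∀ i < 23, ∀ j < 23, ∀ k < 23, 2 ^ 23 ||| 2 ^ i ||| 2 ^ j ||| 2 ^ k < 2 ^ 24 := by
      intro i hi j hj k hk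
      refine Nat.or_lt_two_pow (Nat.or_lt_two_pow (Nat.or_lt_two_pow ?_ ?_) ?_) ?_ <;>
        exact Nat.pow_lt_pow_right (by norm_num) (by omega)
    have mk : ∀ p q r : GolayPt, dec m \ {none} = {p, q, r} → idx p < 23 → idx q < 23 → idx r < 23 →
        m = 2 ^ 23 ||| 2 ^ idx p ||| 2 ^ idx q ||| 2 ^ idx r :=
      fun p q r hpq h1 h2 h3 => dec_inj hm (hbound _ h1 _ h2 _ h3) (hdec p q r hpq)
    obtain ⟨i, j, k, h1, h2, h3, h4⟩ :=
      sort3 (fun e => hab (idx_injective e)) (fun e => hac (idx_injective e))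
        (fun e => hbc (idx_injective e)) ha hb hc
        (P := fun i j k => m = 2 ^ 23 ||| 2 ^ i ||| 2 ^ j ||| 2 ^ k)
        (fun i j k e => by rw [e, Nat.or_assoc (2 ^ 23), Nat.or_comm (2 ^ i) (2 ^ j), ← Nat.or_assoc])
        (fun i j k e => by rw [e, Nat.or_assoc (2 ^ 23 ||| 2 ^ i), Nat.or_comm (2 ^ j) (2 ^ k), ← Nat.or_assoc])
        (mk a b c he ha hb hc)
    exact ⟨i, j, k, h1, h2, h3, h4⟩
  obtain ⟨i, j, k, hi, hj, hk, hmeq⟩ := hsorted
  have hcv := sextTree_cover
  simp only [sextCover, List.all_eq_true, List.mem_range] at hcv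
  rcases foldl_bit _ _ _ _ (hcv i hi j hj k hk) with h | ⟨h0, hh0, hsyn⟩
  · simp at h
  rw [← hmeq] at hsyn
  obtain ⟨e, heT, rfl⟩ := List.mem_map.1 hh0
  have hu : e.1 ∈ sextTree.objs := List.mem_map_of_mem heT
  obtain ⟨hUS, hheadU, hheadnone⟩ := objF_mem_sextets hu
  refine ⟨e.1, hu, sextet_unique hUS hS hheadU ?_⟩
  suffices m = e.1.headI by rw [← this]; exact htS
  set h := e.1.headI with hh
  have hlt : h < 2 ^ 24 := by
    cases h1 : e.1 with
    | nil => simp [hh, h1]
    | cons a as => rw [hh, h1]; exact sextTree.items_lt e heT a (by rw [h1]; simp)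
  have hh4 : pop 24 h = 4 := by
    rw [← card_dec_eq_pop]; exact hUS.2.1 _ hheadU
  have hc : inC (m ^^^ h) = true := inC_xor_of_synd hsyn.symm
  have hnone' : (none : GolayPt) ∈ dec m ∩ dec h := Finset.mem_inter.2 ⟨hnone, hheadnone⟩
  have hcard : (symmDiff (dec m) (dec h)).card ≤ 6 := by
    have hd : (symmDiff (dec m) (dec h)).card = (dec m \ dec h).card + (dec h \ dec m).card :=
      Finset.card_union_of_disjoint disjoint_sdiff_sdiff
    have e1 := Finset.card_sdiff_add_card_inter (dec m) (dec h)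
    have e2 := Finset.card_sdiff_add_card_inter (dec h) (dec m)
    have e3 : (dec h ∩ dec m).card = (dec m ∩ dec h).card := by rw [Finset.inter_comm]
    have : 0 < (dec m ∩ dec h).card := Finset.card_pos.2 ⟨_, hnone'⟩
    rw [card_dec_eq_pop, hm4] at e1
    rw [card_dec_eq_pop, hh4] at e2
    omega
  have hsd : symmDiff (dec m) (dec h) = dec (m ^^^ h) := by
    ext p
    simp only [Finset.mem_symmDiff, mem_dec, Nat.testBit_xor]
    cases m.testBit (idx p) <;> cases h.testBit (idx p) <;> simp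
  rw [hsd, card_dec_eq_pop] at hcard
  have hw := codeList_weight (inC_iff_mem_codeList.1 hc)
  have : dec (m ^^^ h) = ∅ := Finset.card_eq_zero.1 (by rw [card_dec_eq_pop]; omega)
  rw [← hsd] at this
  exact dec_inj hm hlt (symmDiff_eq_bot.1 this)

/-- the family of sextets -/
def sextFam : Family where
  sets := sextets
  tree := sextTree
  size := 1771
  ok := sextTree_ok
  smul_mem := fun _ hg _ hX => smul_mem_sextets hg hX
  mem_iff := fun _ => ⟨exists_listed, fun ⟨_, hu, e⟩ => e ▸ (objF_mem_sextets hu).1⟩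

end CfsgLib.Golay
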