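import Cfsg.Agent.Lib.Golay.CodeLists
import Cfsg.Agent.Lib.Golay.Systems.TrioData
import Cfsg.Agent.Lib.Golay.Systems.SingletonData
import Cfsg.Agent.Lib.Golay.Systems.Pieces

/-!
Kernel checks of the lists of trios, octads and dodecads.
-/

set_option autoImplicit false
-- the checks run one after another, which keeps the peak memory low
set_option Elab.async false
set_option maxRecDepth 20000

namespace CfsgLib.Golay

/-- checks of one packed trio -/
def trioOK (u : List ℕ) : Bool :=
  u.length == 3 && u.all (fun a => inC a && pop 24 a == 8) &&
    u.all fun a => u.all fun b => a == b || a &&& b == 0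

/-- checks of one word as a system -/
def oneOK (n : ℕ) (u : List ℕ) : Bool := u.length == 1 && u.all fun a => inC a && pop 24 a == n

theorem trioTree_ok : trioTree.ok 3795 = true := by decide +kernel

theorem trioTree_items_0 : chunkOK 949 (trioTree.items) (fun e => trioOK e.1) 0 = true := by
  decide +kernel

theorem trioTree_items_1 : chunkOK 949 (trioTree.items) (fun e => trioOK e.1) 1 = true := by
  decide +kernel

theorem trioTree_items_2 : chunkOK 949 (trioTree.items) (fun e => trioOK e.1) 2 = true := by
  decide +kernel

theorem trioTree_items_3 : chunkOK 949 (trioTree.items) (fun e => trioOK e.1) 3 = true := by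
  decide +kernel

theorem trioTree_items : trioTree.items.all (fun e => trioOK e.1) = true :=
  all_of_four_chunks (n := 949) (by decide) (by decide +kernel) trioTree_items_0 trioTree_items_1 trioTree_items_2 trioTree_items_3

theorem trioTree_cover_0 : chunkOK 64 (octLit.filter fun o => o.testBit 23) (fun o => octLit.all fun a =>
    o &&& a != 0 || (trioTree.find [o, a, 16777215 ^^^ (o ||| a)]).isSome) 0 = true := by
  decide +kernel

theorem trioTree_cover_1 : chunkOK 64 (octLit.filter fun o => o.testBit 23) (fun o => octLit.all fun a =>
    o &&& a != 0 || (trioTree.find [o, a, 16777215 ^^^ (o ||| a)]).isSome) 1 = true := by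
  decide +kernel

theorem trioTree_cover_2 : chunkOK 64 (octLit.filter fun o => o.testBit 23) (fun o => octLit.all fun a =>
    o &&& a != 0 || (trioTree.find [o, a, 16777215 ^^^ (o ||| a)]).isSome) 2 = true := by
  decide +kernel

theorem trioTree_cover_3 : chunkOK 64 (octLit.filter fun o => o.testBit 23) (fun o => octLit.all fun a =>
    o &&& a != 0 || (trioTree.find [o, a, 16777215 ^^^ (o ||| a)]).isSome) 3 = true := by
  decide +kernel

theorem trioTree_cover : ((octLit.filter fun o => o.testBit 23).all fun o => octLit.all fun a =>
    o &&& a != 0 || (trioTree.find [o, a, 16777215 ^^^ (o ||| a)]).isSome) = true :=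
  all_of_four_chunks (n := 64) (by decide) (by decide +kernel) trioTree_cover_0 trioTree_cover_1 trioTree_cover_2 trioTree_cover_3

theorem octTree_checks : octTree.ok 759 = true ∧
    (octTree.items.all fun e => oneOK 8 e.1) = true ∧
    (octLit.all fun a => (octTree.find [a]).isSome) = true := by decide +kernel

theorem dodTree_checks : dodTree.ok 2576 = true ∧
    (dodTree.items.all fun e => oneOK 12 e.1) = true ∧
    (dodLit.all fun a => (dodTree.find [a]).isSome) = true := by decide +kernel

end CfsgLib.Golay
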