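import Cfsg.Agent.Lib.Golay.Systems.Sextets
import Cfsg.Agent.Lib.Golay.Systems.TrioChecks

/-!
The families of trios, octads and dodecads.
-/

set_option autoImplicit false
set_option maxRecDepth 20000

namespace CfsgLib.Golay

open Cfsg
open scoped Pointwise

theorem objF_singleton (m : ℕ) : objF [m] = {dec m} := by simp [objF]

theorem objF_pair (a b : ℕ) : objF [a, b] = {dec a, dec b} := by simp [objF]

theorem objF_triple (a b c : ℕ) : objF [a, b, c] = {dec a, dec b, dec c} := by simp [objF]

theorem find_mem {t : STree} {v : List ℕ} (h : (t.find v).isSome = true) :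
    ∃ u ∈ t.objs, objF u = objF v := by
  obtain ⟨i, hi⟩ := Option.isSome_iff_exists.1 h
  obtain ⟨u, hu, e⟩ := STree.findC_some t _ _ _ hi
  exact ⟨u, List.mem_map_of_mem hu, e.symm⟩

theorem smul_mem_trios {g : Equiv.Perm GolayPt} (hg : g ∈ M24) {T : Finset (Finset GolayPt)}
    (hT : T ∈ trios) : g • T ∈ trios := by
  refine ⟨by rw [Finset.card_smul_finset]; exact hT.1, fun o ho => ?_, fun o ho o' ho' hne => ?_⟩
  · obtain ⟨a, ha, rfl⟩ := Finset.mem_smul_finset.1 ho
    exact smul_mem_octads hg (hT.2.1 a ha)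
  · obtain ⟨a, ha, rfl⟩ := Finset.mem_smul_finset.1 ho
    obtain ⟨b, hb, rfl⟩ := Finset.mem_smul_finset.1 ho'
    rw [Finset.disjoint_iff_inter_eq_empty, ← Finset.smul_finset_inter,
      Finset.disjoint_iff_inter_eq_empty.1 (hT.2.2 a ha b hb fun e => hne (by rw [e])),
      Finset.smul_finset_empty]

theorem objF_mem_trios {u : List ℕ} (hu : u ∈ trioTree.objs) : objF u ∈ trios := by
  obtain ⟨e, he, rfl⟩ := List.mem_map.1 hu
  have hlt := trioTree.items_lt e he
  have hnd := (STree.ok_find trioTree_ok he).2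
  have h := List.all_eq_true.1 trioTree_items e he
  simp only [trioOK, Bool.and_eq_true, beq_iff_eq, List.all_eq_true, Bool.or_eq_true] at h
  obtain ⟨⟨hlen, hoct⟩, hpair⟩ := h
  refine ⟨?_, ?_, ?_⟩
  · rw [objF, List.toFinset_card_of_nodup (objF_inj_on hlt hnd), List.length_map, hlen]
  · intro t ht
    simp only [objF, List.mem_toFinset, List.mem_map] at ht
    obtain ⟨a, ha, rfl⟩ := ht
    exact dec_mem_octads (hoct a ha).1 (hoct a ha).2
  · intro t ht s hs hne
    simp only [objF, List.mem_toFinset, List.mem_map] at ht hs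
    obtain ⟨a, ha, rfl⟩ := ht
    obtain ⟨b, hb, rfl⟩ := hs
    rcases hpair a ha b hb with hab | hab
    · exact absurd (by rw [hab]) hne
    · rw [Finset.disjoint_iff_inter_eq_empty, ← dec_and, hab, ← Finset.card_eq_zero, card_dec_eq_pop]
      rfl

theorem exists_listed_trio {T : Finset (Finset GolayPt)} (hT : T ∈ trios) :
    ∃ u ∈ trioTree.objs, objF u = T := by
  classical
  have hcov : T.biUnion id = Finset.univ := by
    refine Finset.eq_univ_of_card _ ?_
    rw [Finset.card_biUnion (s := T) (t := id) (fun t ht u hu hne => hT.2.2 t ht u hu hne)]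
    simp only [id]
    rw [Finset.sum_congr rfl (fun t ht => (hT.2.1 t ht).2), Finset.sum_const, hT.1]
    simp
  obtain ⟨o, hoT, hnone⟩ : ∃ o ∈ T, (none : GolayPt) ∈ o := by
    have : (none : GolayPt) ∈ T.biUnion id := by rw [hcov]; exact Finset.mem_univ _
    simpa using this
  have h2 : (T.erase o).card = 2 := by rw [Finset.card_erase_of_mem hoT, hT.1]
  obtain ⟨a, b, hab, he⟩ := Finset.card_eq_two.1 h2
  have haT : a ∈ T ∧ a ≠ o := by
    have : a ∈ T.erase o := by rw [he]; simp
    exact ⟨(Finset.mem_erase.1 this).2, (Finset.mem_erase.1 this).1⟩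
  have hTe : T = {o, a, b} := by rw [← Finset.insert_erase hoT, he]
  obtain ⟨om, hom, -, rfl⟩ := octad_mask (hT.2.1 o hoT)
  obtain ⟨am, ham, -, rfl⟩ := octad_mask (hT.2.1 a haT.1)
  have hb : b = dec (16777215 ^^^ (om ||| am)) := by
    ext p
    have hmem : p ∈ T.biUnion id := by rw [hcov]; exact Finset.mem_univ _
    have hbT : b ∈ T := by rw [hTe]; simp
    have hbo : b ≠ dec om := by
      have : b ∈ T.erase (dec om) := by rw [he]; simp
      exact (Finset.mem_erase.1 this).1
    have d1 : p ∈ b → p ∉ dec om := fun h => Finset.disjoint_left.1 (hT.2.2 b hbT _ hoT hbo) h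
    have d2 : p ∈ b → p ∉ dec am := fun h => Finset.disjoint_left.1 (hT.2.2 b hbT _ haT.1 (Ne.symm hab)) h
    rw [hTe] at hmem
    simp only [Finset.mem_biUnion, Finset.mem_insert, Finset.mem_singleton, id, exists_eq_or_imp,
      exists_eq_left] at hmem
    simp only [mem_dec, Nat.testBit_xor, Nat.testBit_or] at d1 d2 hmem ⊢
    rw [show (16777215 : ℕ) = fullMask from rfl, testBit_fullMask, decide_eq_true (idx_lt p)]
    constructor
    · intro hp
      have := d1 hp
      have := d2 hp
      simp_all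
    · intro hx
      rcases hmem with h | h | h
      · simp [h] at hx
      · simp [h] at hx
      · exact h
  have hchk := trioTree_cover
  simp only [List.all_eq_true, List.mem_filter, Bool.or_eq_true, bne_iff_ne] at hchk
  have h23 : om.testBit 23 = true := by rw [mem_dec] at hnone; exact hnone
  have h0 : om &&& am = 0 := by
    refine dec_inj (lt_of_le_of_lt Nat.and_le_left (codeList_lt (octLit_sub om hom))) (by norm_num) ?_
    rw [dec_and, Finset.disjoint_iff_inter_eq_empty.1 (hT.2.2 _ hoT _ haT.1 (Ne.symm haT.2))]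
    exact (Finset.card_eq_zero.1 (by rw [card_dec_eq_pop]; rfl)).symm
  obtain ⟨u, hu, hue⟩ := find_mem ((hchk om ⟨hom, h23⟩ am ham).resolve_left fun h => h h0)
  exact ⟨u, hu, by rw [hue, objF_triple, ← hb, hTe]⟩

/-- the family of trios -/
def trioFam : Family where
  sets := trios
  tree := trioTree
  size := 3795
  ok := trioTree_ok
  smul_mem := fun _ hg _ hX => smul_mem_trios hg hX
  mem_iff := fun _ => ⟨exists_listed_trio, fun ⟨_, hu, e⟩ => e ▸ objF_mem_trios hu⟩

theorem exists_singleton {u : List ℕ} {n : ℕ} (h : oneOK n u = true) :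
    ∃ m, u = [m] ∧ inC m = true ∧ pop 24 m = n := by
  simp only [oneOK, Bool.and_eq_true, beq_iff_eq, List.all_eq_true] at h
  obtain ⟨hlen, hall⟩ := h
  obtain ⟨m, rfl⟩ := List.length_eq_one_iff.1 hlen
  exact ⟨m, rfl, hall m (by simp)⟩

/-- the family of octads, each as a system with one member -/
def octFam : Family where
  sets := {X | ∃ o ∈ octads, X = {o}}
  tree := octTree
  size := 759
  ok := octTree_checks.1
  smul_mem := fun g hg X ⟨o, ho, e⟩ => ⟨g • o, smul_mem_octads hg ho, by rw [e, Finset.smul_finset_singleton]⟩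
  mem_iff := fun X => by
    constructor
    · rintro ⟨o, ho, rfl⟩
      obtain ⟨m, hm, -, rfl⟩ := octad_mask ho
      obtain ⟨u, hu, e⟩ := find_mem (List.all_eq_true.1 octTree_checks.2.2 m hm)
      exact ⟨u, hu, by rw [e, objF_singleton]⟩
    · rintro ⟨u, hu, rfl⟩
      obtain ⟨e, he, rfl⟩ := List.mem_map.1 hu
      obtain ⟨m, hm, h1, h2⟩ := exists_singleton (List.all_eq_true.1 octTree_checks.2.1 e he)
      exact ⟨dec m, dec_mem_octads h1 h2, by rw [hm, objF_singleton]⟩

/-- the family of dodecads, each as a system with one member -/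
def dodFam : Family where
  sets := {X | ∃ d ∈ dodecads, X = {d}}
  tree := dodTree
  size := 2576
  ok := dodTree_checks.1
  smul_mem := fun g hg X ⟨o, ho, e⟩ => ⟨g • o, smul_mem_dodecads hg ho, by rw [e, Finset.smul_finset_singleton]⟩
  mem_iff := fun X => by
    constructor
    · rintro ⟨d, hd, rfl⟩
      obtain ⟨m, hm, -, rfl⟩ := dodecad_mask hd
      obtain ⟨u, hu, e⟩ := find_mem (List.all_eq_true.1 dodTree_checks.2.2 m hm)
      exact ⟨u, hu, by rw [e, objF_singleton]⟩
    · rintro ⟨u, hu, rfl⟩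
      obtain ⟨e, he, rfl⟩ := List.mem_map.1 hu
      obtain ⟨m, hm, h1, h2⟩ := exists_singleton (List.all_eq_true.1 dodTree_checks.2.1 e he)
      exact ⟨dec m, ⟨⟨wd m, wd_mem_of_inC h1, support_wd m⟩, by rw [card_dec_eq_pop, h2]⟩,
        by rw [hm, objF_singleton]⟩

end CfsgLib.Golay
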