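import Mathlib.Data.Nat.Notation

/-!
Orbit of the stabilizer of an octad and a trio on trios.
-/

set_option autoImplicit false

namespace CfsgLib.Golay

/-- generators fixing the systems -/
def oTGens : List ℕ := [219668879873483379565560236047666734, 723324349172709388357096802137902240, 89186159822657337193163852035622435, 221220586249940360394067091814122210]

/-- the system fixed -/
def oTRef : List ℕ := [8536111]

/-- a walk -/
def oTW0 : List ℕ × ℕ × ℕ × ℕ :=
  ([8536111, 628112, 7612992], 26, 0x81402008b080118109, 0x4000000000000000200000000000000000000000000000000000000000000000000000100000000000000000000000000400000000000000000000000000000000000200000000000000000000000000000000000000000000000000000080000000000000000000000000002000000000000000000000000400000000000000000000000000010000000000010000000000000000000020000000000800000004002000000000000)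

end CfsgLib.Golay
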