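import Cfsg.Agent.Lib.Golay.Systems.Bundles
import Cfsg.Agent.Lib.Golay.Systems.FixData
import Cfsg.Agent.Lib.Golay.Systems.TwoTransWalks

/-!
Pointwise stabilizers as lists: six-sets, pairs of octads, and the trios through an octad.
-/

set_option autoImplicit false
set_option maxRecDepth 20000

namespace CfsgLib.Golay

open Cfsg
open scoped Pointwise

attribute [local irreducible] octTree dodTree trioTree sextTree

theorem perm_apply_inv (g : Equiv.Perm GolayPt) (x : GolayPt) : g (g⁻¹ x) = x := by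
  rw [← Equiv.Perm.mul_apply, mul_inv_cancel, Equiv.Perm.one_apply]

theorem perm_inv_apply (g : Equiv.Perm GolayPt) (x : GolayPt) : g⁻¹ (g x) = x := by
  rw [← Equiv.Perm.mul_apply, inv_mul_cancel, Equiv.Perm.one_apply]

/-- test that a list exhausts the pointwise stabilizer of `F` -/
def fixListOK (F b : ℕ) (inv L : List ℕ) (St : List (List ℕ × List ℕ)) : Bool :=
  decide (b < 24) && !F.testBit b && inv.all (octFor F) &&
    L.all (fun P => inM24 P && fixes P F) &&
    decide (L.map fun P => ap P b).Nodup &&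
    (List.range 24).all (fun i => !(atom F inv b).testBit i || L.any fun P => ap P b == i) &&
    stagesOK (F ||| 2 ^ b) St

theorem fixList_mem {F b : ℕ} {inv L : List ℕ} {St : List (List ℕ × List ℕ)}
    (h : fixListOK F b inv L St = true) {g : Equiv.Perm GolayPt} (hg : g ∈ M24)
    (hF : ∀ p ∈ dec F, g p = p) : ∃ P ∈ L, g = toPerm P := by
  simp only [fixListOK, Bool.and_eq_true, decide_eq_true_eq, Bool.not_eq_true', List.all_eq_true,
    List.mem_range, Bool.or_eq_true, List.any_eq_true, beq_iff_eq] at h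
  obtain ⟨⟨⟨⟨⟨⟨hb, hbF⟩, hinv⟩, hL⟩, -⟩, hcov⟩, hst⟩ := h
  have hp : pt b ∉ dec F := by simp [mem_dec, idx_pt _ hb, hbF]
  have hmem := mem_atom hF inv (fun o ho => octFor_preserved hg (hinv o ho) hF) hp
  rw [idx_pt _ hb, mem_dec] at hmem
  rcases hcov (idx (g (pt b))) (idx_lt _) with h' | ⟨P, hP, hPb⟩
  · rw [hmem] at h'; simp at h'
  · obtain ⟨hPM, hPF⟩ := hL P hP
    have hv : validP P = true := by simp only [inM24, Bool.and_eq_true] at hPM; exact hPM.1
    refine ⟨P, hP, (inv_mul_eq_one.1 ?_).symm⟩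
    refine eq_one_of_stages (mul_mem (inv_mem (toPerm_mem_M24 hPM)) hg) St _ hst fun p hp' => ?_
    rw [Equiv.Perm.mul_apply, Equiv.Perm.inv_eq_iff_eq]
    rcases mem_dec_or.1 hp' with hp' | hp'
    · rw [hF p hp', fixes_apply hv hPF hp']
    · rw [(mem_dec_two_pow hb).1 hp', toPerm_apply hv, idx_pt _ hb, hPb, pt_idx]

theorem fixList_spec {F b : ℕ} {inv L : List ℕ} {St : List (List ℕ × List ℕ)}
    (h : fixListOK F b inv L St = true) {P : ℕ} (hP : P ∈ L) :
    validP P = true ∧ toPerm P ∈ M24 ∧ ∀ p ∈ dec F, toPerm P p = p := by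
  simp only [fixListOK, Bool.and_eq_true, List.all_eq_true] at h
  obtain ⟨hPM, hPF⟩ := h.1.1.1.2 P hP
  have hv : validP P = true := by simp only [inM24, Bool.and_eq_true] at hPM; exact hPM.1
  exact ⟨hv, toPerm_mem_M24 hPM, fun p hp => fixes_apply hv hPF hp⟩

theorem fixList_card {F b : ℕ} {inv L : List ℕ} {St : List (List ℕ × List ℕ)}
    (h : fixListOK F b inv L St = true) :
    {g : Equiv.Perm GolayPt | g ∈ M24 ∧ ∀ p ∈ dec F, g p = p}.ncard = L.length := by
  have he : {g : Equiv.Perm GolayPt | g ∈ M24 ∧ ∀ p ∈ dec F, g p = p} = toPerm '' {P | P ∈ L} := by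
    ext g
    constructor
    · rintro ⟨hg, hF⟩
      obtain ⟨P, hP, rfl⟩ := fixList_mem h hg hF
      exact ⟨P, hP, rfl⟩
    · rintro ⟨P, hP, rfl⟩
      exact (fixList_spec h hP).2
  have hnd := h
  simp only [fixListOK, Bool.and_eq_true, decide_eq_true_eq, List.all_eq_true] at hnd
  obtain ⟨⟨⟨⟨⟨⟨hb, -⟩, -⟩, -⟩, hnd⟩, -⟩, -⟩ := hnd
  have hinj : Set.InjOn toPerm {P | P ∈ L} := by
    intro P hP Q hQ e
    refine List.inj_on_of_nodup_map hnd hP hQ ?_
    have e' := congrArg (fun s : Equiv.Perm GolayPt => idx (s (pt b))) e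
    simpa [idx_toPerm (fixList_spec h hP).1, idx_toPerm (fixList_spec h hQ).1, idx_pt _ hb] using e'
  rw [he, hinj.ncard_image, ← List.toFinset_card_of_nodup (List.Nodup.of_map _ hnd),
    ← Set.ncard_coe_finset]
  congr 1
  ext P
  simp

theorem listFive_ok : (listFive.all fun P => inM24 P && fixes P five0) = true ∧
    ((List.range 24).all fun i => five0.testBit i || listFive.any fun P =>
      ap P (if oct0.testBit i then sixIn else sixOut) == i) = true ∧
    five0 = 2 ^ 23 ||| 1 ||| 2 ||| 4 ||| 8 ∧ oct0.testBit sixIn = true ∧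
    oct0.testBit sixOut = false ∧ five0 &&& oct0 = five0 := by decide +kernel

theorem listOct_ok : fixListOK oct0 outPt [oct0] listOct stOct = true ∧ listOct.length = 16 := by
  decide +kernel

theorem listIn_ok : fixListOK (five0 ||| 2 ^ sixIn) outPt [oct0] listOct stIn = true := by decide +kernel

theorem listSix_ok : fixListOK (five0 ||| 2 ^ sixOut) movPt invSix listSix stSix = true ∧
    listSix.length = 3 := by decide +kernel

theorem listPair_ok : fixListOK sixPair outPt [oct0] listOct stPair = true ∧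
    sixPair = oct0 &&& (16777215 ^^^ oct02) ∧
    (listOct.all fun P => mimg P oct02 != oct02 ||
      (List.range 24).all fun i => ap P i == i) = true ∧
    inC oct02 = true ∧ pop 24 oct02 = 8 ∧ pop 24 (oct0 &&& oct02) = 2 := by decide +kernel

/-- translate a point list -/
theorem exists_map_six {E : Finset GolayPt} (hE : E.card = 6) :
    ∃ g ∈ M24, ∃ q : GolayPt, q ∉ dec five0 ∧ g • insert q (dec five0) = E ∧
      ((∃ o ∈ octads, E ⊆ o) ↔ q ∈ dec oct0) := by
  classical
  obtain ⟨-, -, h5, -, -, h5o⟩ := listFive_ok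
  obtain ⟨A, hAE, hA⟩ := Finset.exists_subset_card_eq (s := E) (n := 5) (by omega)
  obtain ⟨g, hg, hmap⟩ := exists_map_base5 A.toList (by simp [hA]) A.nodup_toList
  have hgA : g • dec five0 = A := by
    have hd : dec five0 = (base5.map pt).toFinset := by decide +kernel
    ext p
    rw [hd, ← Finset.mem_toList (s := A), ← hmap]
    simp only [Finset.mem_smul_finset, List.mem_toFinset, List.mem_map]
    constructor
    · rintro ⟨_, ⟨b, hb, rfl⟩, rfl⟩; exact ⟨b, hb, rfl⟩
    · rintro ⟨b, hb, rfl⟩; exact ⟨pt b, ⟨b, hb, rfl⟩, rfl⟩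
  obtain ⟨x, hx⟩ := Finset.card_eq_one.1 (show (E \ A).card = 1 by
    rw [Finset.card_sdiff_of_subset hAE, hE, hA])
  have hxE : x ∈ E ∧ x ∉ A := Finset.mem_sdiff.1 (by rw [hx]; simp)
  have hins : E = insert x A := by
    rw [Finset.insert_eq, ← hx, Finset.sdiff_union_of_subset hAE]
  have hsub : dec five0 ⊆ dec oct0 := by
    rw [← h5o, dec_and]; exact Finset.inter_subset_right
  refine ⟨g, hg, g⁻¹ x, fun h => hxE.2 ?_, ?_, ?_⟩
  · rw [← hgA]
    exact Finset.mem_smul_finset.2 ⟨_, h, by simp⟩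
  · rw [Finset.smul_finset_insert, hgA, hins]
    simp
  constructor
  · rintro ⟨o, ho, hEo⟩
    have h : g • dec oct0 = o := by
      refine octad_eq_of_five (smul_mem_octads hg oct0_mem) ho ?_
      rw [← hA]
      refine Finset.card_le_card (Finset.subset_inter ?_ (hAE.trans hEo))
      rw [← hgA]; exact Finset.smul_finset_subset_smul_finset hsub
    rw [← mem_smul_iff g, h, perm_apply_inv]
    exact hEo hxE.1
  · intro h
    refine ⟨g • dec oct0, smul_mem_octads hg oct0_mem, ?_⟩
    rw [hins, Finset.insert_subset_iff, ← hgA]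
    exact ⟨by
      have := (mem_smul_iff g (g⁻¹ x) (dec oct0)).2 h
      rwa [perm_apply_inv] at this, Finset.smul_finset_subset_smul_finset hsub⟩

theorem exists_fix_five {u v : GolayPt} (hu : u ∉ dec five0) (hv : v ∉ dec five0)
    (h : u ∈ dec oct0 ↔ v ∈ dec oct0) :
    ∃ g ∈ M24, (∀ p ∈ dec five0, g p = p) ∧ g u = v := by
  obtain ⟨hL, hcov, -, hin, hout, -⟩ := listFive_ok
  simp only [List.all_eq_true, Bool.and_eq_true, List.mem_range, Bool.or_eq_true, List.any_eq_true,
    beq_iff_eq] at hL hcov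
  have key : ∀ w : GolayPt, w ∉ dec five0 → ∃ g ∈ M24, (∀ p ∈ dec five0, g p = p) ∧
      g (pt (if oct0.testBit (idx w) then sixIn else sixOut)) = w := by
    intro w hw
    rcases hcov (idx w) (idx_lt w) with hb | ⟨P, hP, hPb⟩
    · exact absurd (mem_dec.2 hb) hw
    · obtain ⟨hPM, hPF⟩ := hL P hP
      have hv : validP P = true := by simp only [inM24, Bool.and_eq_true] at hPM; exact hPM.1
      refine ⟨toPerm P, toPerm_mem_M24 hPM, fun p hp => fixes_apply hv hPF hp, ?_⟩
      have h1 : sixIn < 24 := by decide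
      have h2 : sixOut < 24 := by decide
      rw [toPerm_apply hv, idx_pt _ (by split_ifs <;> assumption), hPb, pt_idx]
  obtain ⟨a, ha, haf, hau⟩ := key u hu
  obtain ⟨b, hb, hbf, hbv⟩ := key v hv
  refine ⟨b * a⁻¹, mul_mem hb (inv_mem ha), fun p hp => ?_, ?_⟩
  · rw [Equiv.Perm.mul_apply, show a⁻¹ p = p from Equiv.Perm.inv_eq_iff_eq.2 (haf p hp).symm, hbf p hp]
  · have hsame : oct0.testBit (idx u) = oct0.testBit (idx v) := by
      rw [Bool.eq_iff_iff, ← mem_dec, ← mem_dec]; exact h
    rw [Equiv.Perm.mul_apply, show a⁻¹ u = pt (if oct0.testBit (idx u) then sixIn else sixOut) from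
      Equiv.Perm.inv_eq_iff_eq.2 hau.symm, hsame, hbv]

theorem six_symmetric {E : Finset GolayPt} (hE : E.card = 6) (σ : Equiv.Perm ↥E) :
    ∃ g ∈ M24, ∀ p : ↥E, g p = σ p := by
  classical
  obtain ⟨e⟩ : Nonempty (Fin 6 ≃ ↥E) := ⟨(Finset.equivFinOfCardEq hE).symm⟩
  -- send five of the points, in either order, to the base points
  have htup : ∀ f : Fin 6 ≃ ↥E, ∃ a ∈ M24, (∀ i : Fin 5, a (pt (base5.getD i 0)) = f i.castSucc) ∧
      a⁻¹ (f (Fin.last 5)) ∉ dec five0 ∧
      ((∃ o ∈ octads, E ⊆ o) ↔ a⁻¹ (f (Fin.last 5) : GolayPt) ∈ dec oct0) := by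
    intro f
    have hnd : (List.ofFn fun i : Fin 5 => ((f i.castSucc : ↥E) : GolayPt)).Nodup :=
      List.nodup_ofFn.2 fun i j h => Fin.castSucc_injective _ (f.injective (Subtype.ext h))
    obtain ⟨a, ha, hmap⟩ := exists_map_base5 _ (List.length_ofFn ..) hnd
    have hi : ∀ i : Fin 5, a (pt (base5.getD i 0)) = f i.castSucc := by
      intro i
      have := congrArg (fun l => l.getD i.val none) hmap
      rw [List.getD_eq_getElem _ _ (by rw [List.length_map]; exact i.isLt), List.getElem_map,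
        List.getD_eq_getElem _ _ (by rw [List.length_ofFn]; exact i.isLt), List.getElem_ofFn] at this
      rw [List.getD_eq_getElem _ _ (show i.val < base5.length from i.isLt)]
      exact this
    have hfive : ∀ p, p ∈ dec five0 ↔ ∃ i : Fin 5, p = pt (base5.getD i 0) := by decide +kernel
    have hlast : a⁻¹ (f (Fin.last 5)) ∉ dec five0 := by
      intro h
      obtain ⟨i, hi'⟩ := (hfive _).1 h
      have := congrArg a hi'
      rw [perm_apply_inv, hi i] at this
      exact Fin.ne_of_lt (Fin.castSucc_lt_last i) (f.injective (Subtype.ext this.symm))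
    refine ⟨a, ha, hi, hlast, ?_⟩
    have hsub : dec five0 ⊆ dec oct0 := by decide +kernel
    have hA : ∀ p ∈ dec five0, a p ∈ E := fun p hp => by
      obtain ⟨i, rfl⟩ := (hfive p).1 hp
      rw [hi i]; exact (f i.castSucc).2
    constructor
    · rintro ⟨o, ho, hEo⟩
      have h : a • dec oct0 = o := by
        refine octad_eq_of_five (smul_mem_octads ha oct0_mem) ho ?_
        refine le_trans (le_of_eq ?_) (Finset.card_le_card (s := a • dec five0)
          (Finset.subset_inter (Finset.smul_finset_subset_smul_finset hsub) fun p hp => ?_))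
        · rw [Finset.card_smul_finset]; decide +kernel
        · obtain ⟨q, hq, rfl⟩ := Finset.mem_smul_finset.1 hp
          exact hEo (hA q hq)
      rw [← mem_smul_iff a, h, perm_apply_inv]
      exact hEo (f (Fin.last 5)).2
    · intro h
      refine ⟨a • dec oct0, smul_mem_octads ha oct0_mem, fun p hp => ?_⟩
      obtain ⟨j, hj⟩ := f.surjective ⟨p, hp⟩
      have hp' : p = (f j : GolayPt) := by rw [hj]
      rw [hp']
      induction j using Fin.lastCases with
      | last =>
        have := (mem_smul_iff a _ _).2 h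
        rwa [perm_apply_inv] at this
      | cast i =>
        rw [← hi i]
        exact (mem_smul_iff a _ _).2 (hsub ((hfive _).2 ⟨i, rfl⟩))
  obtain ⟨a, ha, hai, hal, hao⟩ := htup e
  obtain ⟨b, hb, hbi, hbl, hbo⟩ := htup (e.trans σ)
  obtain ⟨k, hk, hkf, hkl⟩ := exists_fix_five hal hbl (hao.symm.trans hbo)
  refine ⟨b * k * a⁻¹, mul_mem (mul_mem hb hk) (inv_mem ha), fun p => ?_⟩
  obtain ⟨j, rfl⟩ := e.surjective p
  induction j using Fin.lastCases with
  | last =>
    rw [Equiv.Perm.mul_apply, Equiv.Perm.mul_apply, hkl, perm_apply_inv]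
    rfl
  | cast i =>
    have h5 : pt (base5.getD i 0) ∈ dec five0 := by
      revert i; decide +kernel
    rw [Equiv.Perm.mul_apply, Equiv.Perm.mul_apply, ← hai i, perm_inv_apply, hkf _ h5, hbi i]
    rfl

theorem fix_conj {E : Finset GolayPt} {g : Equiv.Perm GolayPt} (hg : g ∈ M24) :
    {k : Equiv.Perm GolayPt | k ∈ M24 ∧ ∀ p ∈ g • E, k p = p}.ncard =
      {k : Equiv.Perm GolayPt | k ∈ M24 ∧ ∀ p ∈ E, k p = p}.ncard := by
  have he : {k : Equiv.Perm GolayPt | k ∈ M24 ∧ ∀ p ∈ g • E, k p = p} =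
      (fun k => g * k * g⁻¹) '' {k : Equiv.Perm GolayPt | k ∈ M24 ∧ ∀ p ∈ E, k p = p} := by
    ext k
    constructor
    · rintro ⟨hk, hfix⟩
      refine ⟨g⁻¹ * k * g, ⟨mul_mem (mul_mem (inv_mem hg) hk) hg, fun p hp => ?_⟩, by group⟩
      rw [Equiv.Perm.mul_apply, Equiv.Perm.mul_apply, hfix _ ((mem_smul_iff g p E).2 hp),
        perm_inv_apply]
    · rintro ⟨k, ⟨hk, hfix⟩, rfl⟩
      refine ⟨mul_mem (mul_mem hg hk) (inv_mem hg), fun p hp => ?_⟩
      obtain ⟨q, hq, rfl⟩ := Finset.mem_smul_finset.1 hp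
      exact conj_point rfl (hfix q hq)
  rw [he, Set.ncard_image_of_injective _ fun a b e => mul_left_cancel (mul_right_cancel e)]

theorem six_orders {E : Finset GolayPt} (hE : E.card = 6) :
    ((∃ o ∈ octads, E ⊆ o) →
      Nat.card {g : Equiv.Perm GolayPt // g ∈ M24 ∧ ∀ p ∈ E, g p = p} = 16) ∧
    ((¬ ∃ o ∈ octads, E ⊆ o) →
      Nat.card {g : Equiv.Perm GolayPt // g ∈ M24 ∧ ∀ p ∈ E, g p = p} = 3 ∧
      Nat.card ↥(MulAction.stabilizer M24 E) = 2160) := by
  classical
  obtain ⟨g, hg, q, hq, hgE, hoct⟩ := exists_map_six hE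
  obtain ⟨-, -, -, hin, hout, -⟩ := listFive_ok
  -- move the sixth point to a standard one
  have std : ∀ u : ℕ, u < 24 → pt u ∉ dec five0 → (q ∈ dec oct0 ↔ pt u ∈ dec oct0) →
      ∃ a ∈ M24, a • dec (five0 ||| 2 ^ u) = E := by
    intro u hu hu5 hiff
    obtain ⟨k, hk, hkf, hku⟩ := exists_fix_five hu5 hq hiff.symm
    refine ⟨g * k, mul_mem hg hk, ?_⟩
    rw [mul_smul, ← hgE, dec_or, dec_two_pow hu, Finset.union_comm, ← Finset.insert_eq,
      Finset.smul_finset_insert, show k • pt u = q from hku]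
    congr 2
    ext p
    rw [Finset.mem_smul_finset]
    exact ⟨fun ⟨r, hr, e⟩ => by rw [← e, show k • r = r from hkf r hr]; exact hr,
      fun hp => ⟨p, hp, hkf p hp⟩⟩
  have cardEq : Nat.card {g : Equiv.Perm GolayPt // g ∈ M24 ∧ ∀ p ∈ E, g p = p} =
      {g : Equiv.Perm GolayPt | g ∈ M24 ∧ ∀ p ∈ E, g p = p}.ncard := Nat.card_coe_set_eq _
  refine ⟨fun h => ?_, fun h => ?_⟩
  · obtain ⟨a, ha, rfl⟩ := std sixIn (by decide) (by decide +kernel)
      (iff_of_true (hoct.1 h) (by decide +kernel))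
    rw [cardEq, fix_conj ha, fixList_card listIn_ok, listOct_ok.2]
  · obtain ⟨a, ha, rfl⟩ := std sixOut (by decide) (by decide +kernel)
      (iff_of_false (fun h' => h (hoct.2 h')) (by decide +kernel))
    have h3 : Nat.card {g : Equiv.Perm GolayPt // g ∈ M24 ∧ ∀ p ∈ a • dec (five0 ||| 2 ^ sixOut), g p = p} = 3 := by
      rw [cardEq, fix_conj ha, fixList_card listSix_ok.1, listSix_ok.2]
    refine ⟨h3, ?_⟩
    generalize a • dec (five0 ||| 2 ^ sixOut) = E at hE h3
    let f : ↥(MulAction.stabilizer M24 E) →* Equiv.Perm ↥E :=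
      { toFun := fun k => (k.1.1 : Equiv.Perm GolayPt).subtypePerm fun p => by
          have hk : (k.1.1 : Equiv.Perm GolayPt) • E = E := k.2
          have h := mem_smul_iff (k.1.1 : Equiv.Perm GolayPt) p E
          rwa [hk] at h
        map_one' := by ext; rfl
        map_mul' := fun a b => by ext; rfl }
    have hsurj : Function.Surjective f := by
      intro σ
      obtain ⟨k, hk, hkp⟩ := six_symmetric hE σ
      refine ⟨⟨⟨k, hk⟩, ?_⟩, Equiv.ext fun p => Subtype.ext (hkp p)⟩
      show k • E = E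
      refine Finset.eq_of_subset_of_card_le (fun p hp => ?_) (by rw [Finset.card_smul_finset])
      obtain ⟨r, hr, rfl⟩ := Finset.mem_smul_finset.1 hp
      show k r ∈ E
      rw [hkp ⟨r, hr⟩]
      exact (σ _).2
    have hker : Nat.card f.ker = 3 := by
      rw [← h3]
      refine Nat.card_congr
        { toFun := fun k => ⟨k.1.1.1, k.1.1.2, fun p hp => ?_⟩
          invFun := fun k => ⟨⟨⟨k.1, k.2.1⟩, ?_⟩, ?_⟩
          left_inv := fun _ => rfl
          right_inv := fun _ => rfl }
      · exact congrArg Subtype.val (DFunLike.congr_fun (MonoidHom.mem_ker.1 k.2) ⟨p, hp⟩)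
      · show k.1 • E = E
        refine Finset.eq_of_subset_of_card_le (fun p hp => ?_) (by rw [Finset.card_smul_finset])
        obtain ⟨r, hr, rfl⟩ := Finset.mem_smul_finset.1 hp
        show k.1 r ∈ E
        rw [k.2.2 r hr]; exact hr
      · exact MonoidHom.mem_ker.2 (Equiv.ext fun p => Subtype.ext (k.2.2 p.1 p.2))
    rw [Subgroup.card_eq_card_quotient_mul_card_subgroup f.ker,
      Nat.card_congr (QuotientGroup.quotientKerEquivOfSurjective f hsurj).toEquiv, hker,
      Nat.card_eq_fintype_card, Fintype.card_perm, Fintype.card_coe, hE]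
    rfl

end CfsgLib.Golay
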