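import Cfsg.Agent.Lib.Golay.Systems.TriadChecks
import Cfsg.Agent.Lib.Golay.Systems.Families

/-!
The orbits of the stabilizer of a triad on triads.
-/

set_option autoImplicit false
set_option maxRecDepth 20000
set_option maxHeartbeats 400000

namespace CfsgLib.Golay

open Cfsg
open scoped Pointwise

attribute [local irreducible] triadTree trioTree sextTree

/-- the base triad -/
def triadBase : Finset GolayPt := dec 8388611

open Classical in
/-- the label of a triad against another -/
noncomputable def triadClass (T U : Finset GolayPt) : ℕ :=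
  2 * (T ∩ U).card + if (T ∩ U).card = 0 ∧ ∃ o ∈ octads, T ∪ U ⊆ o then 1 else 0

/-- the label of a one-element system -/
noncomputable def triadPhi (X : Finset (Finset GolayPt)) : ℕ := ∑ t ∈ X, triadClass triadBase t

theorem octad_over_smul {g : Equiv.Perm GolayPt} (hg : g ∈ M24) (T U : Finset GolayPt) :
    (∃ o ∈ octads, g • T ∪ g • U ⊆ o) ↔ ∃ o ∈ octads, T ∪ U ⊆ o := by
  constructor
  · rintro ⟨o, ho, hsub⟩
    refine ⟨g⁻¹ • o, smul_mem_octads (inv_mem hg) ho, ?_⟩
    rw [← Finset.smul_finset_union] at hsub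
    have := Finset.smul_finset_subset_smul_finset (a := g⁻¹) hsub
    rwa [inv_smul_smul] at this
  · rintro ⟨o, ho, hsub⟩
    exact ⟨g • o, smul_mem_octads hg ho, by
      rw [← Finset.smul_finset_union]; exact Finset.smul_finset_subset_smul_finset hsub⟩

theorem triadClass_smul {g : Equiv.Perm GolayPt} (hg : g ∈ M24) (T U : Finset GolayPt) :
    triadClass (g • T) (g • U) = triadClass T U := by
  classical
  rw [triadClass, triadClass, smul_card_inter]
  congr 1
  exact if_congr (and_congr_right fun _ => octad_over_smul hg T U) rfl rfl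

theorem triadPhi_smul {g : Equiv.Perm GolayPt} (hg : g ∈ fixRefs [[8388611]]) (X : Finset (Finset GolayPt)) :
    triadPhi (g • X) = triadPhi X := by
  obtain ⟨hM, hR⟩ := mem_fixRefs.1 hg
  have hB : g • triadBase = triadBase := by
    have := hR [8388611] List.mem_cons_self
    rw [objF_singleton, Finset.smul_finset_singleton] at this
    exact Finset.singleton_injective this
  show ∑ t ∈ g • X, triadClass triadBase t = ∑ t ∈ X, triadClass triadBase t
  refine (Finset.sum_image fun a _ b _ e => MulAction.injective g e).trans (Finset.sum_congr rfl fun t _ => ?_)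
  conv_lhs => rw [← hB]
  exact triadClass_smul hM _ _

theorem triadClass_dec {m : ℕ} (hm : m < 2 ^ 24) : triadClass triadBase (dec m) = triadKey m := by
  classical
  have hsub : ∀ a b : ℕ, b < 2 ^ 24 → (dec b ⊆ dec a ↔ a &&& b = b) := fun a b hb => by
    constructor
    · intro h
      refine dec_inj (lt_of_le_of_lt Nat.and_le_right hb) hb ?_
      rw [dec_and, Finset.inter_eq_right.2 h]
    · intro h p hp
      rw [← h, dec_and] at hp
      exact (Finset.mem_inter.1 hp).1
  rw [triadClass, triadKey, triadBase, card_inter_dec]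
  refine congrArg₂ (· + ·) rfl (if_congr ?_ rfl rfl)
  simp only [Bool.and_eq_true, beq_iff_eq, List.any_eq_true]
  refine and_congr_right fun _ => ?_
  constructor
  · rintro ⟨o, ho, hsub'⟩
    obtain ⟨om, hom, -, rfl⟩ := octad_mask ho
    obtain ⟨h1, h2⟩ := Finset.union_subset_iff.1 hsub'
    exact ⟨om, (triadOcts_eq.mem_iff).1 (List.mem_filter.2 ⟨hom, beq_iff_eq.2 ((hsub _ _ (by norm_num)).1 h1)⟩),
      (hsub _ _ hm).1 h2⟩
  · rintro ⟨o, ho, hom⟩
    obtain ⟨hoct, hb⟩ := List.mem_filter.1 ((triadOcts_eq.mem_iff).2 ho)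
    obtain ⟨hc, h8⟩ := mem_octLit_iff.1 hoct
    exact ⟨dec o, dec_mem_octads (inC_iff_mem_codeList.2 hc) h8,
      Finset.union_subset ((hsub _ _ (by norm_num)).2 (beq_iff_eq.1 hb)) ((hsub _ _ hm).2 hom)⟩

theorem triad_rep : ∀ p ∈ triadPs, triadPhi (objF p.1.1) = p.2.1 := by
  intro p hp
  have h := List.all_eq_true.1 triad_reps p hp
  simp only [Bool.and_eq_true, beq_iff_eq, List.all_eq_true, decide_eq_true_eq] at h
  obtain ⟨hlen, hall⟩ := h
  obtain ⟨m, hm⟩ := List.length_eq_one_iff.1 hlen
  obtain ⟨hlt, hk⟩ := hall m (by simp [hm])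
  rw [hm, triadPhi, objF_singleton, Finset.sum_singleton, triadClass_dec (by norm_num; exact hlt), hk]

theorem triad_listed {t : Finset GolayPt} : t.card = 3 ↔ ∃ u ∈ triadTree.objs, objF u = {t} := by
  constructor
  · intro h3
    obtain ⟨a, b, c, hab, hac, hbc, rfl⟩ := Finset.card_eq_three.1 h3
    obtain ⟨i, j, k, hi, hj, hk, he⟩ :=
      sort3 (fun e => hab (idx_injective e)) (fun e => hac (idx_injective e))
        (fun e => hbc (idx_injective e)) (idx_lt a) (idx_lt b) (idx_lt c)
        (P := fun i j k => ({pt i, pt j, pt k} : Finset GolayPt) = {a, b, c})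
        (fun i j k e => by rw [← e, Finset.insert_comm])
        (fun i j k e => by rw [← e, Finset.pair_comm (pt k)])
        (by rw [pt_idx, pt_idx, pt_idx])
    have hc := triadTree_cover
    simp only [List.all_eq_true, List.mem_range] at hc
    obtain ⟨u, hu, hue⟩ := find_mem (hc i hi j hj k hk)
    refine ⟨u, hu, ?_⟩
    rw [hue, objF_singleton, ← he, dec_or, dec_or, dec_two_pow (by omega : i < 24),
      dec_two_pow (by omega : j < 24), dec_two_pow (by omega : k < 24)]
    congr 1
    ext x
    simp [or_assoc]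
  · rintro ⟨u, hu, he⟩
    obtain ⟨e, he', rfl⟩ := List.mem_map.1 hu
    have h := List.all_eq_true.1 triadTree_items e he'
    simp only [Bool.and_eq_true, beq_iff_eq, List.all_eq_true] at h
    obtain ⟨m, hm⟩ := List.length_eq_one_iff.1 h.1
    rw [hm, objF_singleton] at he
    obtain rfl := Finset.singleton_injective he
    rw [card_dec_eq_pop, h.2 m (by simp [hm])]

theorem triad_class_mem {t : Finset GolayPt} (ht : t.card = 3) :
    triadClass triadBase t ∈ [0, 1, 2, 4, 6] := by
  obtain ⟨u, hu, hue⟩ := triad_listed.1 ht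
  have h := keyWalk_mem triadTree_ok triad_walks (fun g hg X => triadPhi_smul hg X) triad_rep hu
  rwa [hue, triadPhi, Finset.sum_singleton] at h

theorem triad_class_ncard {p : (List ℕ × ℕ × ℕ × ℕ) × ℕ × ℕ} (hp : p ∈ triadPs) :
    {t : Finset GolayPt | t.card = 3 ∧ triadClass triadBase t = p.2.1}.ncard = p.2.2 := by
  rw [← keyWalk_count triadTree_ok triad_walks (fun g hg X => triadPhi_smul hg X) triad_rep hp,
    ← Set.ncard_image_of_injective {t : Finset GolayPt | t.card = 3 ∧ triadClass triadBase t = p.2.1}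
      Finset.singleton_injective]
  congr 1
  ext X
  simp only [Set.mem_image, Set.mem_setOf_eq]
  constructor
  · rintro ⟨t, ⟨ht, hc⟩, rfl⟩
    exact ⟨triad_listed.1 ht, by rw [triadPhi, Finset.sum_singleton, hc]⟩
  · rintro ⟨⟨u, hu, rfl⟩, hc⟩
    obtain ⟨e, he, rfl⟩ := List.mem_map.1 hu
    have h := List.all_eq_true.1 triadTree_items e he
    simp only [Bool.and_eq_true, beq_iff_eq, List.all_eq_true] at h
    obtain ⟨m, hm⟩ := List.length_eq_one_iff.1 h.1
    rw [hm, objF_singleton, triadPhi, Finset.sum_singleton] at hc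
    exact ⟨dec m, ⟨by rw [card_dec_eq_pop, h.2 m (by simp [hm])], hc⟩, by rw [hm, objF_singleton]⟩

theorem triad_class_trans {t t' : Finset GolayPt} (ht : t.card = 3) (ht' : t'.card = 3)
    (h : triadClass triadBase t = triadClass triadBase t') :
    ∃ g ∈ M24, g • triadBase = triadBase ∧ g • t = t' := by
  obtain ⟨u, hu, hue⟩ := triad_listed.1 ht
  obtain ⟨v, hv, hve⟩ := triad_listed.1 ht'
  obtain ⟨g, hg, hguv⟩ := keyWalk_trans triadTree_ok triad_walks (fun g hg X => triadPhi_smul hg X) triad_rep hu hv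
    (by rw [hue, hve, triadPhi, triadPhi, Finset.sum_singleton, Finset.sum_singleton, h])
  obtain ⟨hM, hR⟩ := mem_fixRefs.1 hg
  refine ⟨g, hM, ?_, ?_⟩
  · have := hR [8388611] List.mem_cons_self
    rw [objF_singleton, Finset.smul_finset_singleton] at this
    exact Finset.singleton_injective this
  · rw [hue, hve, Finset.smul_finset_singleton] at hguv
    exact Finset.singleton_injective hguv

theorem exists_map_triad {T : Finset GolayPt} (hT : T.card = 3) :
    ∃ g ∈ M24, g • triadBase = T := by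
  classical
  obtain ⟨Z, hZT, hZ⟩ := Finset.exists_subset_card_eq (s := Tᶜ) (n := 2)
    (by rw [Finset.card_compl, hT]; simp)
  obtain ⟨g, hg, hmap⟩ := exists_map_base5 (T.toList ++ Z.toList) (by simp [hT, hZ]) (by
    rw [List.nodup_append]
    exact ⟨T.nodup_toList, Z.nodup_toList, fun a ha b hb e =>
      Finset.mem_compl.1 (hZT (Finset.mem_toList.1 hb)) (e ▸ Finset.mem_toList.1 ha)⟩)
  refine ⟨g, hg, ?_⟩
  have h3 : T.toList = [23, 0, 1].map fun b => g (pt b) := by
    have := congrArg (List.take 3) hmap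
    rw [← List.map_take, List.take_left' (by simp [hT])] at this
    exact this.symm
  have hd : triadBase = ([23, 0, 1].map pt).toFinset := by decide +kernel
  ext p
  rw [hd, ← Finset.mem_toList (s := T), h3]
  simp only [Finset.mem_smul_finset, List.mem_toFinset, List.mem_map]
  constructor
  · rintro ⟨_, ⟨b, hb, rfl⟩, rfl⟩; exact ⟨b, hb, rfl⟩
  · rintro ⟨b, hb, rfl⟩; exact ⟨pt b, ⟨b, hb, rfl⟩, rfl⟩

theorem disjoint_triads {T : Finset GolayPt} (hT : T.card = 3) :
    {U : Finset GolayPt | U.card = 3 ∧ Disjoint T U ∧ (∃ o ∈ octads, T ∪ U ⊆ o)}.ncard = 210 ∧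
    {U : Finset GolayPt | U.card = 3 ∧ Disjoint T U ∧ ¬ (∃ o ∈ octads, T ∪ U ⊆ o)}.ncard = 1120 ∧
    ∀ U U' : Finset GolayPt, U.card = 3 → U'.card = 3 → Disjoint T U → Disjoint T U' →
      ((∃ o ∈ octads, T ∪ U ⊆ o) ↔ (∃ o ∈ octads, T ∪ U' ⊆ o)) →
      ∃ g : Equiv.Perm GolayPt, g ∈ M24 ∧ g • T = T ∧ g • U = U' := by
  classical
  obtain ⟨g, hg, rfl⟩ := exists_map_triad hT
  have key : ∀ c n, (∃ p ∈ triadPs, p.2.1 = c ∧ p.2.2 = n) →
      {U : Finset GolayPt | U.card = 3 ∧ triadClass (g • triadBase) U = c}.ncard = n := by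
    rintro c n ⟨p, hp, rfl, rfl⟩
    rw [← triad_class_ncard hp,
      ← Set.ncard_image_of_injective {t : Finset GolayPt | t.card = 3 ∧ triadClass triadBase t = p.2.1}
        (MulAction.injective g)]
    congr 1
    ext U
    obtain ⟨V, rfl⟩ := MulAction.surjective g U
    simp only [Set.mem_image, Set.mem_setOf_eq, Finset.card_smul_finset, triadClass_smul hg]
    exact ⟨fun h => ⟨V, h, rfl⟩, fun ⟨W, hW, e⟩ => MulAction.injective g e ▸ hW⟩
  refine ⟨?_, ?_, fun U U' hU hU' hd hd' hiff => ?_⟩
  · rw [← key 1 210 ⟨_, List.mem_cons_of_mem _ List.mem_cons_self, rfl, rfl⟩]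
    congr 1
    ext U
    simp only [Set.mem_setOf_eq, triadClass, Finset.disjoint_iff_inter_eq_empty, ← Finset.card_eq_zero]
    by_cases h0 : (g • triadBase ∩ U).card = 0 <;> by_cases ho : ∃ o ∈ octads, g • triadBase ∪ U ⊆ o <;>
      simp [h0, ho] <;> omega
  · rw [← key 0 1120 ⟨_, List.mem_cons_self, rfl, rfl⟩]
    congr 1
    ext U
    simp only [Set.mem_setOf_eq, triadClass, Finset.disjoint_iff_inter_eq_empty, ← Finset.card_eq_zero]
    by_cases h0 : (g • triadBase ∩ U).card = 0 <;> by_cases ho : ∃ o ∈ octads, g • triadBase ∪ U ⊆ o <;>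
      simp [h0, ho]
  · obtain ⟨V, rfl⟩ := MulAction.surjective g U
    obtain ⟨V', rfl⟩ := MulAction.surjective g U'
    simp only [Finset.card_smul_finset] at hU hU'
    have hc : triadClass (g • triadBase) (g • V) = triadClass (g • triadBase) (g • V') := by
      rw [triadClass, triadClass, Finset.disjoint_iff_inter_eq_empty.1 hd,
        Finset.disjoint_iff_inter_eq_empty.1 hd']
      congr 1
      exact if_congr (and_congr_right fun _ => hiff) rfl rfl
    rw [triadClass_smul hg, triadClass_smul hg] at hc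
    obtain ⟨k, hk, hkB, hkV⟩ := triad_class_trans hU hU' hc
    exact ⟨g * k * g⁻¹, mul_mem (mul_mem hg hk) (inv_mem hg), conj_set rfl rfl hkB, conj_set rfl rfl hkV⟩

end CfsgLib.Golay
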