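import Cfsg.Agent.Lib.Golay.Systems.Coatom
import Cfsg.Agent.Lib.Golay.Systems.Triads
import Cfsg.Agent.Lib.Golay.OrbitFacts

/-!
The stabilizers of duads, triads, octads and pairs of dodecads are maximal.
-/

set_option autoImplicit false
set_option maxRecDepth 20000

namespace CfsgLib.Golay

open Cfsg
open scoped Pointwise

attribute [local irreducible] triadTree trioTree sextTree

theorem m24_smul_def (g : ↥M24) (s : Finset GolayPt) : g • s = (g : Equiv.Perm GolayPt) • s := rfl

theorem triad_isCoatom {s : Finset GolayPt} (hs : s.card = 3) :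
    IsCoatom (MulAction.stabilizer M24 s) := by
  obtain ⟨g, hg, rfl⟩ := exists_map_triad hs
  refine isCoatom_stabilizer_smul (⟨g, hg⟩ : ↥M24) ?_
  have hB : triadBase.card = 3 := by decide +kernel
  refine isCoatom_stabilizer_of_classes (N := 2024) triadBase (U := {t : Finset GolayPt | t.card = 3})
    ?_ (Set.toFinite _) (triadClass triadBase) [0, 1, 2, 4, 6] (fun c => [1120, 210, 630, 0, 63, 0, 1].getD c 0)
    (by decide) (fun t ht => triad_class_mem ht) ?_ (by norm_num) (fun c hc => ?_) ?_ ?_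
  · ext t
    constructor
    · rintro ⟨k, rfl⟩
      show ((k : Equiv.Perm GolayPt) • triadBase).card = 3
      rw [Finset.card_smul_finset, hB]
    · intro ht
      obtain ⟨k, hk, rfl⟩ := exists_map_triad ht
      exact ⟨⟨k, hk⟩, rfl⟩
  · have he : {t : Finset GolayPt | t.card = 3} =
        ((Finset.univ : Finset GolayPt).powersetCard 3 : Set (Finset GolayPt)) := by
      ext t; simp
    rw [he, Set.ncard_coe_finset, Finset.card_powersetCard]
    decide +kernel
  · simp only [List.mem_cons, List.not_mem_nil, or_false] at hc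
    have hp : ∀ p ∈ triadPs, {t : Finset GolayPt | t ∈ {t : Finset GolayPt | t.card = 3} ∧
        triadClass triadBase t = p.2.1}.ncard = p.2.2 := fun p hp => triad_class_ncard hp
    rcases hc with rfl | rfl | rfl | rfl | rfl
    · exact hp (triadW0, 0, 1120) (by simp [triadPs])
    · exact hp (triadW1, 1, 210) (by simp [triadPs])
    · exact hp (triadW2, 2, 630) (by simp [triadPs])
    · exact hp (triadW4, 4, 63) (by simp [triadPs])
    · exact hp (triadW6, 6, 1) (by simp [triadPs])
  · intro t ht t' ht' he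
    obtain ⟨k, hk, hkB, hkt⟩ := triad_class_trans ht ht' he
    exact ⟨⟨k, hk⟩, hkB, hkt⟩
  · have hx : triadClass triadBase triadBase = 6 := by
      rw [triadClass, Finset.inter_self, hB]
      simp
    rw [hx]
    decide +kernel

theorem exists_map_four {a1 a2 a3 a4 b1 b2 b3 b4 : GolayPt} (ha : [a1, a2, a3, a4].Nodup)
    (hb : [b1, b2, b3, b4].Nodup) :
    ∃ g ∈ M24, g a1 = b1 ∧ g a2 = b2 ∧ g a3 = b3 ∧ g a4 = b4 := by
  classical
  have ext5 : ∀ l : List GolayPt, l.length = 4 → l.Nodup →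
      ∃ e, (l ++ [e]).Nodup := by
    intro l hl hn
    obtain ⟨e, he⟩ : ∃ e : GolayPt, e ∉ l.toFinset := by
      by_contra h
      push Not at h
      have := (Finset.card_le_card fun p _ => h p : (Finset.univ : Finset GolayPt).card ≤ _).trans
        (List.toFinset_card_le l)
      simp [hl] at this
    exact ⟨e, List.nodup_append.2 ⟨hn, List.nodup_singleton e, fun x hx y hy exy =>
      he (List.mem_toFinset.2 (by rw [← List.mem_singleton.1 hy, ← exy]; exact hx))⟩⟩
  obtain ⟨e, he⟩ := ext5 _ rfl ha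
  obtain ⟨e', he'⟩ := ext5 _ rfl hb
  obtain ⟨g, hg, hgl⟩ := exists_map_base5 _ rfl he
  obtain ⟨k, hk, hkl⟩ := exists_map_base5 _ rfl he'
  simp only [base5, List.map_cons, List.map_nil, List.cons_append, List.nil_append, List.cons.injEq,
    and_true] at hgl hkl
  obtain ⟨g1, g2, g3, g4, -⟩ := hgl
  obtain ⟨k1, k2, k3, k4, -⟩ := hkl
  have move : ∀ {i : ℕ} {p q : GolayPt}, g (pt i) = p → k (pt i) = q → (k * g⁻¹) p = q := by
    intro i p q hp hq
    rw [Equiv.Perm.mul_apply, Equiv.Perm.inv_eq_iff_eq.2 hp.symm, hq]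
  exact ⟨k * g⁻¹, mul_mem hk (inv_mem hg), move g1 k1, move g2 k2, move g3 k3, move g4 k4⟩

theorem exists_third {a b c : GolayPt} : ∃ e : GolayPt, e ≠ a ∧ e ≠ b ∧ e ≠ c := by
  classical
  obtain ⟨e, he⟩ : ∃ e : GolayPt, e ∉ ({a, b, c} : Finset GolayPt) := by
    by_contra h
    push Not at h
    have := (Finset.card_le_card fun p _ => h p : (Finset.univ : Finset GolayPt).card ≤ _).trans Finset.card_le_three
    simp at this
  simp only [Finset.mem_insert, Finset.mem_singleton, not_or] at he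
  exact ⟨e, he⟩

theorem duad_isCoatom {s : Finset GolayPt} (hs : s.card = 2) :
    IsCoatom (MulAction.stabilizer M24 s) := by
  classical
  obtain ⟨a, b, hab, rfl⟩ := Finset.card_eq_two.1 hs
  obtain ⟨g, hg, hga, hgb⟩ := exists_map_pair hab
  have hgs : g • ({pt 23, pt 0} : Finset GolayPt) = {a, b} := by
    rw [Finset.smul_finset_insert, Finset.smul_finset_singleton, Equiv.Perm.smul_def, Equiv.Perm.smul_def, hga, hgb]
  rw [← hgs]
  refine isCoatom_stabilizer_smul (⟨g, hg⟩ : ↥M24) ?_
  set p := pt 23 with hp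
  set q := pt 0 with hq
  have hpq : p ≠ q := by decide +kernel
  refine isCoatom_stabilizer_of_classes (N := 276) ({p, q} : Finset GolayPt)
    (U := {t : Finset GolayPt | t.card = 2}) ?_ (Set.toFinite _) (fun t => (({p, q} : Finset GolayPt) ∩ t).card)
    [2, 1, 0] (fun c => [231, 44, 1].getD c 0) (by decide) ?_ ?_ (by norm_num) (fun c hc => ?_) ?_ ?_
  · ext t
    constructor
    · rintro ⟨k, rfl⟩
      show ((k : Equiv.Perm GolayPt) • ({p, q} : Finset GolayPt)).card = 2
      rw [Finset.card_smul_finset, Finset.card_pair hpq]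
    · intro ht
      obtain ⟨c, d, hcd, rfl⟩ := Finset.card_eq_two.1 ht
      obtain ⟨k, hk, hk1, hk2⟩ := exists_map_pair hcd
      refine ⟨⟨k, hk⟩, ?_⟩
      show k • ({p, q} : Finset GolayPt) = {c, d}
      rw [Finset.smul_finset_insert, Finset.smul_finset_singleton, Equiv.Perm.smul_def, Equiv.Perm.smul_def, hk1, hk2]
  · intro t ht
    have : (({p, q} : Finset GolayPt) ∩ t).card ≤ 2 :=
      le_trans (Finset.card_le_card Finset.inter_subset_right) (le_of_eq ht)
    simp only [List.mem_cons, List.not_mem_nil, or_false]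
    omega
  · have he : {t : Finset GolayPt | t.card = 2} =
        ((Finset.univ : Finset GolayPt).powersetCard 2 : Set (Finset GolayPt)) := by
      ext t; simp
    rw [he, Set.ncard_coe_finset, Finset.card_powersetCard]
    decide +kernel
  · have he : {t : Finset GolayPt | t ∈ {t : Finset GolayPt | t.card = 2} ∧ (({p, q} : Finset GolayPt) ∩ t).card = c} =
        (((Finset.univ : Finset GolayPt).powersetCard 2).filter fun t => (({p, q} : Finset GolayPt) ∩ t).card = c :
          Set (Finset GolayPt)) := by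
      ext t; simp
    rw [he, Set.ncard_coe_finset]
    simp only [List.mem_cons, List.not_mem_nil, or_false] at hc
    rcases hc with rfl | rfl | rfl <;> decide +kernel
  · intro t ht t' ht' he
    have mk : ∀ k ∈ M24, k • ({p, q} : Finset GolayPt) = {p, q} → k • t = t' →
        ∃ h ∈ MulAction.stabilizer M24 ({p, q} : Finset GolayPt), h • t = t' :=
      fun k hk h1 h2 => ⟨⟨k, hk⟩, h1, h2⟩
    have two : ∀ {k : Equiv.Perm GolayPt} {x y : GolayPt},
        k • ({x, y} : Finset GolayPt) = {k x, k y} := fun {k x y} => by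
      rw [Finset.smul_finset_insert, Finset.smul_finset_singleton]; rfl
    -- a duad meeting the base in one point, written with that point first
    have one : ∀ t : Finset GolayPt, t.card = 2 → (({p, q} : Finset GolayPt) ∩ t).card = 1 →
        ∃ u w v, ({p, q} : Finset GolayPt) = {u, w} ∧ t = {u, v} ∧ u ≠ w ∧ u ≠ v ∧ w ≠ v := by
      intro t ht h1
      obtain ⟨u, hu⟩ := Finset.card_eq_one.1 h1
      have hut : u ∈ ({p, q} : Finset GolayPt) ∩ t := by rw [hu]; simp
      rw [Finset.mem_inter] at hut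
      obtain ⟨x, y, hxy, rfl⟩ := Finset.card_eq_two.1 ht
      obtain ⟨v, huv, htv⟩ : ∃ v, u ≠ v ∧ ({x, y} : Finset GolayPt) = {u, v} := by
        rcases Finset.mem_insert.1 hut.2 with rfl | h
        · exact ⟨y, hxy, rfl⟩
        · rw [Finset.mem_singleton] at h
          subst h
          exact ⟨x, Ne.symm hxy, Finset.pair_comm _ _⟩
      obtain ⟨w, huw, hsw⟩ : ∃ w, u ≠ w ∧ ({p, q} : Finset GolayPt) = {u, w} := by
        rcases Finset.mem_insert.1 hut.1 with rfl | h
        · exact ⟨q, hpq, rfl⟩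
        · rw [Finset.mem_singleton] at h
          subst h
          exact ⟨p, Ne.symm hpq, Finset.pair_comm _ _⟩
      refine ⟨u, w, v, hsw, htv, huw, huv, fun e => huw ?_⟩
      have : w ∈ ({p, q} : Finset GolayPt) ∩ {x, y} := by rw [hsw, htv, e]; simp
      rw [hu, Finset.mem_singleton] at this
      exact this.symm
    have hle : (({p, q} : Finset GolayPt) ∩ t).card ≤ 2 :=
      le_trans (Finset.card_le_card Finset.inter_subset_right) (le_of_eq ht)
    rcases (show (({p, q} : Finset GolayPt) ∩ t).card = 2 ∨ (({p, q} : Finset GolayPt) ∩ t).card = 1 ∨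
        (({p, q} : Finset GolayPt) ∩ t).card = 0 by omega) with h | h | h
    · have e : ∀ t : Finset GolayPt, t.card = 2 → (({p, q} : Finset GolayPt) ∩ t).card = 2 → t = {p, q} := fun t ht h => by
        refine Finset.eq_of_subset_of_card_le ?_ (by rw [Finset.card_pair hpq, ht])
        exact Finset.inter_eq_right.1 (Finset.eq_of_subset_of_card_le Finset.inter_subset_right (by rw [ht, h]))
      exact mk 1 (one_mem _) (one_smul _ _) (by rw [one_smul, e t ht h, e t' ht' (he ▸ h)])
    · obtain ⟨u, w, v, hs1, rfl, h1, h2, h3⟩ := one t ht h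
      obtain ⟨u', w', v', hs2, rfl, h1', h2', h3'⟩ := one t' ht' (he ▸ h)
      obtain ⟨e1, he1, he1', he1''⟩ := exists_third (a := u) (b := w) (c := v)
      obtain ⟨e2, he2, he2', he2''⟩ := exists_third (a := u') (b := w') (c := v')
      obtain ⟨k, hk, k1, k2, k3, -⟩ := exists_map_four (a1 := u) (a2 := w) (a3 := v) (a4 := e1)
        (b1 := u') (b2 := w') (b3 := v') (b4 := e2)
        (by simp [h1, h2, h3, Ne.symm he1, Ne.symm he1', Ne.symm he1''])
        (by simp [h1', h2', h3', Ne.symm he2, Ne.symm he2', Ne.symm he2''])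
      exact mk k hk (by conv_lhs => rw [hs1, two, k1, k2, ← hs2]) (by rw [two, k1, k3])
    · obtain ⟨c, d, hcd, rfl⟩ := Finset.card_eq_two.1 ht
      obtain ⟨c', d', hcd', rfl⟩ := Finset.card_eq_two.1 ht'
      have hd1 := Finset.card_eq_zero.1 h
      have hd2 := Finset.card_eq_zero.1 (he ▸ h)
      rw [← Finset.disjoint_iff_inter_eq_empty] at hd1 hd2
      simp only [Finset.disjoint_insert_left, Finset.disjoint_singleton_left, Finset.mem_insert,
        Finset.mem_singleton, not_or] at hd1 hd2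
      obtain ⟨k, hk, k1, k2, k3, k4⟩ := exists_map_four (a1 := p) (a2 := q) (a3 := c) (a4 := d)
        (b1 := p) (b2 := q) (b3 := c') (b4 := d')
        (by simp [hpq, hcd, hd1.1.1, hd1.1.2, hd1.2.1, hd1.2.2])
        (by simp [hpq, hcd', hd2.1.1, hd2.1.2, hd2.2.1, hd2.2.2])
      exact mk k hk (by rw [two, k1, k2]) (by rw [two, k3, k4])
  · rw [show (({p, q} : Finset GolayPt) ∩ {p, q}).card = 2 by rw [Finset.inter_self, Finset.card_pair hpq]]
    decide +kernel

theorem octad_isCoatom {o : Finset GolayPt} (ho : o ∈ octads) :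
    IsCoatom (MulAction.stabilizer M24 o) := by
  obtain ⟨g, hg, rfl⟩ := exists_smul_oct0 ho
  refine isCoatom_stabilizer_smul (⟨g, hg⟩ : ↥M24) ?_
  refine isCoatom_stabilizer_of_classes (N := 759) (dec oct0) (U := octads) ?_ (Set.toFinite _)
    (fun x => (dec oct0 ∩ x).card) [8, 4, 2, 0] (fun c => [30, 0, 448, 0, 280, 0, 0, 0, 1].getD c 0)
    (by decide) ?_ ncard_octads (by norm_num) (fun c hc => ?_) ?_ ?_
  · ext x
    constructor
    · rintro ⟨k, rfl⟩; exact smul_mem_octads k.2 oct0_mem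
    · intro hx; exact octad_transitive oct0_mem hx
  · intro x hx
    obtain ⟨m, hm, -, rfl⟩ := octad_mask hx
    show (dec oct0 ∩ dec m).card ∈ [8, 4, 2, 0]
    rw [card_inter_dec]
    have hchk : octLit.all (fun m => [8, 4, 2, 0].contains (pop 24 (oct0 &&& m))) = true := by decide +kernel
    exact List.contains_iff_mem.1 (List.all_eq_true.1 hchk m hm)
  · rw [show {x | x ∈ octads ∧ (dec oct0 ∩ x).card = c} =
      {s | s ∈ wordsOfWeight (golayCode : Set (GolayPt → ZMod 2)) 8 ∧ (dec oct0 ∩ s).card = c} from rfl,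
      ncard_code_filter octList_eq_octLit.symm (q := fun s => (dec oct0 ∩ s).card = c)
        (fun m => pop 24 (oct0 &&& m) == c) (fun m => by rw [card_inter_dec, beq_iff_eq])]
    simp only [List.mem_cons, List.not_mem_nil, or_false] at hc
    rcases hc with rfl | rfl | rfl | rfl <;> decide +kernel
  · intro y hy z hz he
    obtain ⟨k, hk, hko, hky⟩ := octad_pair_orbit oct0_mem hy hz he
    exact ⟨⟨k, hk⟩, hko, hky⟩
  · rw [show (dec oct0 ∩ dec oct0).card = 8 by rw [Finset.inter_self]; exact oct0_mem.2]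
    decide +kernel

/-- the pair of a dodecad and its complement -/
def dodPair (d : Finset GolayPt) : Finset (Finset GolayPt) := {d, dᶜ}

theorem compl_mem_dodecads {d : Finset GolayPt} (hd : d ∈ dodecads) : dᶜ ∈ dodecads :=
  ⟨compl_mem_supports hd.1, by rw [Finset.card_compl, hd.2]; simp⟩

theorem dodPair_smul (g : Equiv.Perm GolayPt) (d : Finset GolayPt) : g • dodPair d = dodPair (g • d) := by
  rw [dodPair, dodPair, Finset.smul_finset_insert, Finset.smul_finset_singleton,
    Finset.compl_eq_univ_sdiff, Finset.smul_finset_sdiff, Finset.smul_finset_univ, ← Finset.compl_eq_univ_sdiff]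

theorem dodPair_compl (d : Finset GolayPt) : dodPair dᶜ = dodPair d := by
  rw [dodPair, dodPair, compl_compl, Finset.pair_comm]

theorem dodPair_inj_none {d e : Finset GolayPt} (hd : none ∈ d) (he : none ∈ e)
    (h : dodPair d = dodPair e) : d = e := by
  have : d ∈ dodPair e := by rw [← h]; simp [dodPair]
  simp only [dodPair, Finset.mem_insert, Finset.mem_singleton] at this
  rcases this with h' | h'
  · exact h'
  · rw [h', Finset.mem_compl] at hd; exact absurd he hd

theorem exists_rep_none {d : Finset GolayPt} (hd : d ∈ dodecads) :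
    ∃ e ∈ dodecads, none ∈ e ∧ dodPair d = dodPair e := by
  by_cases h : none ∈ d
  · exact ⟨d, hd, h, rfl⟩
  · exact ⟨dᶜ, compl_mem_dodecads hd, Finset.mem_compl.2 h, (dodPair_compl d).symm⟩

/-- the label of a pair against the pair of `d` -/
def pairClass (d : Finset GolayPt) (Y : Finset (Finset GolayPt)) : ℕ := sigF (dodPair d) Y

theorem pairClass_eq {d e : Finset GolayPt} (hd : d ∈ dodecads) (he : e ∈ dodecads) :
    pairClass d (dodPair e) = 2 * (8 ^ (d ∩ e).card + 8 ^ (12 - (d ∩ e).card)) ^ 2 := by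
  have hne : ∀ {x : Finset GolayPt}, x ∈ dodecads → x ≠ xᶜ := fun {x} _ h => by
    have : (none : GolayPt) ∈ x ↔ none ∈ xᶜ := by rw [← h]
    rw [Finset.mem_compl] at this
    tauto
  have e1 := Finset.card_inter_add_card_sdiff d e
  have e2 := Finset.card_inter_add_card_sdiff e d
  have h1 : (d ∩ eᶜ).card = 12 - (d ∩ e).card := by
    rw [← Finset.sdiff_eq_inter_compl]; rw [hd.2] at e1; omega
  have h2 : (dᶜ ∩ e).card = 12 - (d ∩ e).card := by
    rw [Finset.inter_comm dᶜ, ← Finset.sdiff_eq_inter_compl]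
    rw [he.2, Finset.inter_comm e d] at e2; omega
  have h3 : (dᶜ ∩ eᶜ).card = (d ∩ e).card := by
    rw [← Finset.compl_union, Finset.card_compl, Finset.card_union, hd.2, he.2]
    have : (d ∩ e).card ≤ 12 := hd.2 ▸ Finset.card_le_card Finset.inter_subset_left
    simp
    omega
  rw [pairClass, sigF, dodPair, dodPair, Finset.sum_pair (hne hd), Finset.sum_pair (hne he),
    Finset.sum_pair (hne he), h1, h2, h3]
  ring

theorem dodecad_pair_isCoatom {d : Finset GolayPt} (hd : d ∈ dodecads) :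
    IsCoatom (MulAction.stabilizer M24 (dodPair d)) := by
  classical
  obtain ⟨g, hg, rfl⟩ := exists_smul_dod0 hd
  rw [← dodPair_smul]
  refine isCoatom_stabilizer_smul (⟨g, hg⟩ : ↥M24) ?_
  have hD := dod0_mem
  refine isCoatom_stabilizer_of_classes (N := 1288) (dodPair (dec dod0))
    (U := dodPair '' {e | e ∈ dodecads ∧ none ∈ e}) ?_ ((Set.toFinite _).image _) (pairClass (dec dod0))
    [2 * (8 ^ 12 + 1) ^ 2, 2 * (8 ^ 8 + 8 ^ 4) ^ 2, 2 * (8 ^ 6 + 8 ^ 6) ^ 2]
    (fun c => if c = 2 * (8 ^ 12 + 1) ^ 2 then 1 else if c = 2 * (8 ^ 8 + 8 ^ 4) ^ 2 then 495 else 792)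
    (by decide +kernel) ?_ ?_ (by norm_num) (fun c hc => ?_) ?_ ?_
  · ext Y
    constructor
    · rintro ⟨k, rfl⟩
      obtain ⟨e, he, hn, hpe⟩ := exists_rep_none (smul_mem_dodecads k.2 hD)
      exact ⟨e, ⟨he, hn⟩, by rw [← hpe, ← dodPair_smul]; rfl⟩
    · rintro ⟨e, ⟨he, -⟩, rfl⟩
      obtain ⟨k, hk, rfl⟩ := exists_smul_dod0 he
      exact ⟨⟨k, hk⟩, dodPair_smul k _⟩
  · rintro _ ⟨e, ⟨he, -⟩, rfl⟩
    obtain ⟨m, hm, -, rfl⟩ := dodecad_mask he
    rw [pairClass_eq hD he, card_inter_dec]
    have hchk : dodLit.all (fun m => [12, 8, 6, 4, 0].contains (pop 24 (dod0 &&& m))) = true := by decide +kernel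
    have := List.contains_iff_mem.1 (List.all_eq_true.1 hchk m hm)
    simp only [List.mem_cons, List.not_mem_nil, or_false] at this
    rcases this with h | h | h | h | h <;> rw [h] <;> simp [Nat.add_comm]
  · rw [Set.InjOn.ncard_image fun a ha b hb h => dodPair_inj_none ha.2 hb.2 h]
    show {e | e ∈ wordsOfWeight (golayCode : Set (GolayPt → ZMod 2)) 12 ∧ none ∈ e}.ncard = 1288
    rw [ncard_code_filter dodList_eq_dodLit.symm (q := fun e => none ∈ e) (fun m => m.testBit 23)
      (fun m => by rw [mem_dec]; rfl)]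
    decide +kernel
  · have he : {Y | Y ∈ dodPair '' {e | e ∈ dodecads ∧ none ∈ e} ∧ pairClass (dec dod0) Y = c} =
        dodPair '' {e | e ∈ dodecads ∧ (none ∈ e ∧
          2 * (8 ^ (dec dod0 ∩ e).card + 8 ^ (12 - (dec dod0 ∩ e).card)) ^ 2 = c)} := by
      ext Y
      constructor
      · rintro ⟨⟨e, ⟨he, hn⟩, rfl⟩, hc'⟩
        exact ⟨e, ⟨he, hn, (pairClass_eq hD he).symm.trans hc'⟩, rfl⟩
      · rintro ⟨e, ⟨he, hn, hc'⟩, rfl⟩
        exact ⟨⟨e, ⟨he, hn⟩, rfl⟩, (pairClass_eq hD he).trans hc'⟩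
    rw [he, Set.InjOn.ncard_image fun a ha b hb h => dodPair_inj_none ha.2.1 hb.2.1 h]
    show {e | e ∈ wordsOfWeight (golayCode : Set (GolayPt → ZMod 2)) 12 ∧ (none ∈ e ∧
      2 * (8 ^ (dec dod0 ∩ e).card + 8 ^ (12 - (dec dod0 ∩ e).card)) ^ 2 = c)}.ncard = _
    rw [ncard_code_filter dodList_eq_dodLit.symm
      (q := fun e => none ∈ e ∧ 2 * (8 ^ (dec dod0 ∩ e).card + 8 ^ (12 - (dec dod0 ∩ e).card)) ^ 2 = c)
      (fun m => m.testBit 23 &&
        2 * (8 ^ pop 24 (dod0 &&& m) + 8 ^ (12 - pop 24 (dod0 &&& m))) ^ 2 == c)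
      (fun m => by rw [card_inter_dec, mem_dec, Bool.and_eq_true, beq_iff_eq]; rfl)]
    simp only [List.mem_cons, List.not_mem_nil, or_false] at hc
    rcases hc with rfl | rfl | rfl <;> decide +kernel
  · rintro _ ⟨e, ⟨he, -⟩, rfl⟩ _ ⟨f, ⟨hf, -⟩, rfl⟩ h
    rw [pairClass_eq hD he, pairClass_eq hD hf] at h
    have hb : ∀ x ∈ dodecads, (dec dod0 ∩ x).card ≤ 12 := fun x _ =>
      hD.2 ▸ Finset.card_le_card Finset.inter_subset_left
    have hchk : ∀ a < 13, ∀ b < 13, 2 * (8 ^ a + 8 ^ (12 - a)) ^ 2 = 2 * (8 ^ b + 8 ^ (12 - b)) ^ 2 →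
        a = b ∨ a = 12 - b := by decide +kernel
    obtain ⟨f', hf', hfp, hcard⟩ : ∃ f' ∈ dodecads, dodPair f' = dodPair f ∧
        (dec dod0 ∩ e).card = (dec dod0 ∩ f').card := by
      rcases hchk _ (Nat.lt_succ_of_le (hb e he)) _ (Nat.lt_succ_of_le (hb f hf)) h with h' | h'
      · exact ⟨f, hf, rfl, h'⟩
      · refine ⟨fᶜ, compl_mem_dodecads hf, dodPair_compl f, ?_⟩
        have e1 := Finset.card_inter_add_card_sdiff (dec dod0) f
        rw [← Finset.sdiff_eq_inter_compl]
        rw [hD.2] at e1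
        omega
    obtain ⟨k, hk, hkd, hke⟩ := dodecad_pair_orbit hD he hf' hcard
    refine ⟨⟨k, hk⟩, ?_, ?_⟩
    · show k • dodPair (dec dod0) = dodPair (dec dod0)
      rw [dodPair_smul, hkd]
    · show k • dodPair e = dodPair f
      rw [dodPair_smul, hke, hfp]
  · rw [pairClass_eq hD hD, Finset.inter_self, hD.2]
    decide +kernel

end CfsgLib.Golay
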