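import Cfsg.Agent.Lib.Golay.Systems.FixLists

/-!
Pairs of octads: stabilizers and distances; the trios through an octad.
-/

set_option autoImplicit false
set_option maxRecDepth 20000

namespace CfsgLib.Golay

open Cfsg
open scoped Pointwise

attribute [local irreducible] octTree dodTree trioTree sextTree

theorem natCard_stab_octad {o : Finset GolayPt} (ho : o ∈ octads) :
    Nat.card ↥(MulAction.stabilizer M24 o) = 322560 := by
  have h := Nat.card_congr (MulAction.orbitProdStabilizerEquivGroup M24 o)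
  rw [Nat.card_prod, natCard_M24, Nat.card_coe_set_eq] at h
  have horb : MulAction.orbit M24 o = octads := by
    ext x
    constructor
    · rintro ⟨g, rfl⟩; exact smul_mem_octads g.2 ho
    · intro hx; exact octad_transitive ho hx
  rw [horb, ncard_octads] at h
  omega

theorem pair_checks :
    (octLit.countP fun m => pop 24 (oct0 &&& m) == 0) = 30 ∧
    (octLit.countP fun m => pop 24 (oct0 &&& m) == 4) = 280 ∧
    (octLit.countP fun m => pop 24 (oct0 &&& m) == 2) = 448 := by decide +kernel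

theorem natCard_pair_octads {o o' : Finset GolayPt} (ho : o ∈ octads) (ho' : o' ∈ octads) {k n m : ℕ}
    (hk : (o ∩ o').card = k) (hn : (octLit.countP fun m => pop 24 (oct0 &&& m) == k) = n)
    (hm : n * m = 322560) (hpos : 0 < n) :
    Nat.card ↥(MulAction.stabilizer M24 o ⊓ MulAction.stabilizer M24 o') = m := by
  set H := MulAction.stabilizer M24 o
  have h := Nat.card_congr (MulAction.orbitProdStabilizerEquivGroup H o')
  rw [Nat.card_prod, natCard_stab_octad ho] at h
  have horb : MulAction.orbit H o' = {x | x ∈ octads ∧ (o ∩ x).card = k} := by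
    ext x
    constructor
    · rintro ⟨⟨g, hg⟩, rfl⟩
      refine ⟨smul_mem_octads g.2 ho', ?_⟩
      have := smul_card_inter (g : Equiv.Perm GolayPt) o o'
      rw [show (g : Equiv.Perm GolayPt) • o = o from hg, hk] at this
      exact this
    · rintro ⟨hx, hxk⟩
      obtain ⟨g, hg, hgo, hgx⟩ := octad_pair_orbit ho ho' hx (hk.trans hxk.symm)
      exact ⟨⟨⟨g, hg⟩, hgo⟩, hgx⟩
  have hnc : {x | x ∈ octads ∧ (o ∩ x).card = k}.ncard = n := by
    obtain ⟨g, hg, rfl⟩ := exists_smul_oct0 ho
    have he : {x | x ∈ octads ∧ (g • dec oct0 ∩ x).card = k} =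
        (fun x => g • x) '' {x | x ∈ octads ∧ (dec oct0 ∩ x).card = k} := by
      ext x
      constructor
      · rintro ⟨hx, hc⟩
        refine ⟨g⁻¹ • x, ⟨smul_mem_octads (inv_mem hg) hx, ?_⟩, smul_inv_smul g x⟩
        rw [← smul_card_inter g, smul_inv_smul, hc]
      · rintro ⟨y, ⟨hy, hc⟩, rfl⟩
        exact ⟨smul_mem_octads hg hy, by rw [smul_card_inter, hc]⟩
    rw [he, Set.ncard_image_of_injective _ (MulAction.injective g)]
    have h' := ncard_code_filter (n := 8) (lit := octLit) (q := fun x => (dec oct0 ∩ x).card = k)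
      (by rw [← octList_eq_octLit]; rfl) (fun m => pop 24 (oct0 &&& m) == k)
      (fun m => by rw [card_inter_dec, beq_iff_eq])
    rw [List.countP_eq_length_filter] at hn
    exact h'.trans hn
  rw [Nat.card_coe_set_eq, horb, hnc] at h
  have hst : Nat.card (MulAction.stabilizer H o') =
      Nat.card ↥(H ⊓ MulAction.stabilizer M24 o') :=
    Nat.card_congr
      { toFun := fun g => ⟨g.1.1, g.1.2, g.2⟩
        invFun := fun g => ⟨⟨g.1, g.2.1⟩, g.2.2⟩
        left_inv := fun _ => rfl
        right_inv := fun _ => rfl }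
  rw [hst] at h
  exact Nat.eq_of_mul_eq_mul_left hpos (h.trans hm.symm)

theorem pair_orders {o o' : Finset GolayPt} (ho : o ∈ octads) (ho' : o' ∈ octads) :
    ((o ∩ o').card = 0 → Nat.card ↥(MulAction.stabilizer M24 o ⊓ MulAction.stabilizer M24 o') = 10752) ∧
    ((o ∩ o').card = 4 → Nat.card ↥(MulAction.stabilizer M24 o ⊓ MulAction.stabilizer M24 o') = 1152) ∧
    ((o ∩ o').card = 2 → Nat.card ↥(MulAction.stabilizer M24 o ⊓ MulAction.stabilizer M24 o') = 720) :=
  ⟨fun h => natCard_pair_octads ho ho' h pair_checks.1 (by norm_num) (by norm_num),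
    fun h => natCard_pair_octads ho ho' h pair_checks.2.1 (by norm_num) (by norm_num),
    fun h => natCard_pair_octads ho ho' h pair_checks.2.2 (by norm_num) (by norm_num)⟩

theorem std_pair : dec oct02 ∈ octads ∧ (dec oct0 ∩ dec oct02).card = 2 := by
  obtain ⟨-, -, -, h1, h2, h3⟩ := listPair_ok
  exact ⟨dec_mem_octads h1 h2, by rw [card_inter_dec, h3]⟩

theorem pair_faithful {g : Equiv.Perm GolayPt} (hg : g ∈ M24) (hg2 : g • dec oct02 = dec oct02)
    (hfix : ∀ p ∈ dec oct0 \ dec oct02, g p = p) : g = 1 := by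
  obtain ⟨hok, hsix, hall, -⟩ := listPair_ok
  simp only [List.all_eq_true, List.mem_range, Bool.or_eq_true, bne_iff_ne, beq_iff_eq] at hall
  obtain ⟨P, hP, rfl⟩ := fixList_mem hok hg fun p hp => hfix p (by
    rw [hsix, dec_and, Finset.mem_inter] at hp
    refine Finset.mem_sdiff.2 ⟨hp.1, fun h => ?_⟩
    have h2 := hp.2
    rw [mem_dec, Nat.testBit_xor, show (16777215 : ℕ) = fullMask from rfl, testBit_fullMask,
      decide_eq_true (idx_lt p), mem_dec.1 h] at h2
    simp at h2)
  have hv := (fixList_spec hok hP).1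
  rcases hall P hP with h | h
  · refine absurd ?_ h
    rw [smul_dec hv] at hg2
    exact dec_inj (mimg_lt hv _) (by decide +kernel) hg2
  · ext p
    rw [toPerm_apply hv, h (idx p) (idx_lt p), pt_idx, Equiv.Perm.one_apply]

theorem pair_six {o o' : Finset GolayPt} (ho : o ∈ octads) (ho' : o' ∈ octads)
    (h2 : (o ∩ o').card = 2) :
    Nonempty (↥(MulAction.stabilizer M24 o ⊓ MulAction.stabilizer M24 o') ≃* Equiv.Perm (Fin 6)) := by
  classical
  obtain ⟨a, ha, hao⟩ := exists_smul_oct0 ho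
  obtain ⟨k, hk, hko, hkx⟩ := octad_pair_orbit ho (smul_mem_octads ha std_pair.1) ho'
    (by rw [← hao, smul_card_inter, std_pair.2, hao, h2])
  -- both octads at once
  set g := k * a with hgdef
  have hg : g ∈ M24 := mul_mem hk ha
  have hgo : g • dec oct0 = o := by rw [hgdef, mul_smul, hao, hko]
  have hgo' : g • dec oct02 = o' := by rw [hgdef, mul_smul, hkx]
  have hcard : Fintype.card ↥(o \ o') = 6 := by
    rw [Fintype.card_coe, Finset.card_sdiff, Finset.inter_comm, h2, ho.2]
  let f : ↥(MulAction.stabilizer M24 o ⊓ MulAction.stabilizer M24 o') →* Equiv.Perm ↥(o \ o') :=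
    { toFun := fun s => (s.1.1 : Equiv.Perm GolayPt).subtypePerm fun p => by
        obtain ⟨h1, h2⟩ := Subgroup.mem_inf.1 s.2
        have e1 : (s.1.1 : Equiv.Perm GolayPt) • o = o := h1
        have e2 : (s.1.1 : Equiv.Perm GolayPt) • o' = o' := h2
        have i1 := mem_smul_iff (s.1.1 : Equiv.Perm GolayPt) p o
        have i2 := mem_smul_iff (s.1.1 : Equiv.Perm GolayPt) p o'
        rw [e1] at i1
        rw [e2] at i2
        simp only [Finset.mem_sdiff, i1, i2]
      map_one' := by ext; rfl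
      map_mul' := fun a b => by ext; rfl }
  have hinj : Function.Injective f := by
    rw [← MonoidHom.ker_eq_bot_iff, Subgroup.eq_bot_iff_forall]
    intro s hs
    obtain ⟨h1, h2'⟩ := Subgroup.mem_inf.1 s.2
    have e2 : (s.1.1 : Equiv.Perm GolayPt) • o' = o' := h2'
    refine Subtype.ext (Subtype.ext ?_)
    show (s.1.1 : Equiv.Perm GolayPt) = 1
    refine (conj_eq_one_iff (a := g⁻¹)).1 (pair_faithful
      (mul_mem (mul_mem (inv_mem hg) s.1.2) (inv_mem (inv_mem hg))) ?_ fun p hp => ?_)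
    · rw [inv_inv, mul_smul, mul_smul, hgo', e2, inv_smul_eq_iff, hgo']
    · obtain ⟨hp1, hp2⟩ := Finset.mem_sdiff.1 hp
      have hmem : g p ∈ o \ o' := by
        rw [Finset.mem_sdiff, ← hgo, ← hgo', mem_smul_iff, mem_smul_iff]; exact ⟨hp1, hp2⟩
      have := congrArg Subtype.val (DFunLike.congr_fun (MonoidHom.mem_ker.1 hs) ⟨g p, hmem⟩)
      rw [inv_inv, Equiv.Perm.mul_apply, Equiv.Perm.mul_apply,
        show (s.1.1 : Equiv.Perm GolayPt) (g p) = g p from this, perm_inv_apply]
  haveI : Finite ↥(MulAction.stabilizer M24 o ⊓ MulAction.stabilizer M24 o') := Finite.of_injective _ hinj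
  have hbij : Function.Bijective f := by
    haveI := Fintype.ofFinite ↥(MulAction.stabilizer M24 o ⊓ MulAction.stabilizer M24 o')
    rw [Fintype.bijective_iff_injective_and_card]
    refine ⟨hinj, ?_⟩
    rw [← Nat.card_eq_fintype_card, (pair_orders ho ho').2.2 h2, Fintype.card_perm, hcard]
    rfl
  exact ⟨(MulEquiv.ofBijective f hbij).trans (Fintype.equivFinOfCardEq hcard).permCongrHom⟩

/-! ### Distances -/

theorem graph_checks :
    (octLit.all fun m => m == oct0 || pop 24 (oct0 &&& m) == 0 || pop 24 (oct0 &&& m) == 2 ||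
      pop 24 (oct0 &&& m) == 4) = true ∧
    (octLit.all fun m => m &&& oct0 != 0 || m &&& oct02 != 0) = true ∧
    (octLit.contains oct04 && octLit.contains nb4 && octLit.contains nb2a && octLit.contains nb2b &&
      pop 24 (oct0 &&& oct04) == 4 && nb4 &&& oct0 == 0 && nb4 &&& oct04 == 0 &&
      oct0 &&& nb2a == 0 && nb2a &&& nb2b == 0 && nb2b &&& oct02 == 0) = true := by decide +kernel

theorem disjoint_dec {a b : ℕ} (h : a &&& b = 0) : Disjoint (dec a) (dec b) := by
  rw [Finset.disjoint_iff_inter_eq_empty, ← dec_and, h, ← Finset.card_eq_zero, card_dec_eq_pop]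
  rfl

theorem octad_cases {o o' : Finset GolayPt} (ho : o ∈ octads) (ho' : o' ∈ octads) (hne : o ≠ o') :
    (o ∩ o').card = 0 ∨ (o ∩ o').card = 2 ∨ (o ∩ o').card = 4 := by
  obtain ⟨g, hg, rfl⟩ := exists_smul_oct0 ho
  obtain ⟨m, hm, -, hme⟩ := octad_mask (smul_mem_octads (inv_mem hg) ho')
  have h := List.all_eq_true.1 graph_checks.1 m hm
  simp only [Bool.or_eq_true, beq_iff_eq] at h
  have e : (g • dec oct0 ∩ o').card = pop 24 (oct0 &&& m) := by
    rw [← card_inter_dec, hme, ← smul_card_inter g (dec oct0), smul_inv_smul]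
  rcases h with ((rfl | h) | h) | h
  · exact absurd (by rw [hme, smul_inv_smul]) hne
  · exact Or.inl (e.trans h)
  · exact Or.inr (Or.inl (e.trans h))
  · exact Or.inr (Or.inr (e.trans h))

theorem blockGraph_adj {a b : octads} : (blockGraph octads).Adj a b ↔
    Disjoint (a : Finset GolayPt) (b : Finset GolayPt) := by
  rw [blockGraph, SimpleGraph.fromRel_adj]
  constructor
  · rintro ⟨-, h | h⟩
    · exact h
    · exact h.symm
  · intro h
    refine ⟨fun e => ?_, Or.inl h⟩
    subst e
    have h8 := a.2.2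
    rw [Finset.disjoint_iff_inter_eq_empty, Finset.inter_self] at h
    rw [h] at h8
    simp at h8

theorem common_nb {o o' : Finset GolayPt} (ho : o ∈ octads) (ho' : o' ∈ octads)
    (h : (o ∩ o').card = 4) : ∃ w ∈ octads, Disjoint o w ∧ Disjoint w o' := by
  obtain ⟨-, -, hc⟩ := graph_checks
  simp only [Bool.and_eq_true, List.contains_iff_mem, beq_iff_eq] at hc
  obtain ⟨⟨⟨⟨⟨⟨⟨⟨⟨h04, h4⟩, -⟩, -⟩, hp⟩, e1⟩, e2⟩, -⟩, -⟩, -⟩ := hc
  obtain ⟨m04, m4⟩ := And.intro (mem_octLit_iff.1 h04) (mem_octLit_iff.1 h4)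
  obtain ⟨a, ha, rfl⟩ := exists_smul_oct0 ho
  have o04 : dec oct04 ∈ octads := dec_mem_octads (inC_iff_mem_codeList.2 m04.1) m04.2
  obtain ⟨k, hk, hko, hkx⟩ := octad_pair_orbit ho (smul_mem_octads ha o04) ho'
    (by rw [smul_card_inter, card_inter_dec, hp, h])
  refine ⟨k • a • dec nb4, smul_mem_octads hk (smul_mem_octads ha
    (dec_mem_octads (inC_iff_mem_codeList.2 m4.1) m4.2)), ?_, ?_⟩
  · rw [← hko, Finset.disjoint_iff_inter_eq_empty, ← Finset.card_eq_zero, smul_card_inter, smul_card_inter,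
      Finset.card_eq_zero, ← Finset.disjoint_iff_inter_eq_empty]
    exact (disjoint_dec e1).symm
  · rw [← hkx, Finset.disjoint_iff_inter_eq_empty, ← Finset.card_eq_zero, smul_card_inter, smul_card_inter,
      Finset.card_eq_zero, ← Finset.disjoint_iff_inter_eq_empty]
    exact disjoint_dec e2

theorem path_three {o o' : Finset GolayPt} (ho : o ∈ octads) (ho' : o' ∈ octads)
    (h : (o ∩ o').card = 2) :
    (∃ u ∈ octads, ∃ w ∈ octads, Disjoint o u ∧ Disjoint u w ∧ Disjoint w o') ∧
      ¬ ∃ w ∈ octads, Disjoint o w ∧ Disjoint w o' := by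
  obtain ⟨-, hno, hc⟩ := graph_checks
  simp only [Bool.and_eq_true, List.contains_iff_mem, beq_iff_eq] at hc
  obtain ⟨⟨⟨⟨⟨⟨⟨⟨⟨-, -⟩, ha'⟩, hb'⟩, -⟩, -⟩, -⟩, e1⟩, e2⟩, e3⟩ := hc
  obtain ⟨ma, mb⟩ := And.intro (mem_octLit_iff.1 ha') (mem_octLit_iff.1 hb')
  obtain ⟨a, ha, rfl⟩ := exists_smul_oct0 ho
  obtain ⟨k, hk, hko, hkx⟩ := octad_pair_orbit ho (smul_mem_octads ha std_pair.1) ho'
    (by rw [smul_card_inter, std_pair.2, h])
  have tr : ∀ {x y : Finset GolayPt}, Disjoint (k • a • x) (k • a • y) ↔ Disjoint x y := by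
    intro x y
    rw [Finset.disjoint_iff_inter_eq_empty, ← Finset.card_eq_zero, smul_card_inter, smul_card_inter,
      Finset.card_eq_zero, ← Finset.disjoint_iff_inter_eq_empty]
  refine ⟨⟨k • a • dec nb2a, smul_mem_octads hk (smul_mem_octads ha
    (dec_mem_octads (inC_iff_mem_codeList.2 ma.1) ma.2)), k • a • dec nb2b,
    smul_mem_octads hk (smul_mem_octads ha (dec_mem_octads (inC_iff_mem_codeList.2 mb.1) mb.2)),
    ?_, tr.2 (disjoint_dec e2), ?_⟩, ?_⟩
  · rw [← hko]; exact tr.2 (disjoint_dec e1)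
  · rw [← hkx]; exact tr.2 (disjoint_dec e3)
  · rintro ⟨w, hw, d1, d2⟩
    obtain ⟨m, hm, -, hme⟩ := octad_mask (smul_mem_octads (inv_mem ha) (smul_mem_octads (inv_mem hk) hw))
    have hw' : w = k • a • dec m := by rw [hme, smul_inv_smul, smul_inv_smul]
    rw [← hko, hw'] at d1
    rw [← hkx, hw'] at d2
    have z : ∀ {x : ℕ}, Disjoint (dec m) (dec x) → m &&& x = 0 := by
      intro x hd
      refine dec_inj (lt_of_le_of_lt Nat.and_le_left (codeList_lt (mem_octLit_iff.1 hm).1)) (by norm_num) ?_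
      rw [dec_and, Finset.disjoint_iff_inter_eq_empty.1 hd]
      exact (Finset.card_eq_zero.1 (by rw [card_dec_eq_pop]; rfl)).symm
    have hz := List.all_eq_true.1 hno m hm
    simp [z (tr.1 d1).symm, z (tr.1 d2)] at hz

theorem graph_distances {o o' : Finset GolayPt} (ho : o ∈ octads) (ho' : o' ∈ octads) (hne : o ≠ o') :
    (blockGraph octads).Connected ∧
    ((blockGraph octads).dist ⟨o, ho⟩ ⟨o', ho'⟩ = 1 ↔ (o ∩ o').card = 0) ∧
    ((blockGraph octads).dist ⟨o, ho⟩ ⟨o', ho'⟩ = 2 ↔ (o ∩ o').card = 4) ∧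
    ((blockGraph octads).dist ⟨o, ho⟩ ⟨o', ho'⟩ = 3 ↔ (o ∩ o').card = 2) := by
  have step : ∀ (x y : octads), x ≠ y →
      ∃ p : (blockGraph octads).Walk x y, p.length ≤ 3 := by
    intro x y hxy
    rcases octad_cases x.2 y.2 (fun e => hxy (Subtype.ext e)) with h | h | h
    · exact ⟨.cons (blockGraph_adj.2 (Finset.disjoint_iff_inter_eq_empty.2 (Finset.card_eq_zero.1 h))) .nil,
        by simp⟩
    · obtain ⟨⟨u, hu, w, hw, d1, d2, d3⟩, -⟩ := path_three x.2 y.2 h
      exact ⟨.cons (v := ⟨u, hu⟩) (blockGraph_adj.2 d1) (.cons (v := ⟨w, hw⟩) (blockGraph_adj.2 d2)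
        (.cons (blockGraph_adj.2 d3) .nil)), by simp⟩
    · obtain ⟨w, hw, d1, d2⟩ := common_nb x.2 y.2 h
      exact ⟨.cons (v := ⟨w, hw⟩) (blockGraph_adj.2 d1) (.cons (blockGraph_adj.2 d2) .nil), by simp⟩
  have hconn : (blockGraph octads).Connected := by
    haveI : Nonempty octads := ⟨⟨o, ho⟩⟩
    refine SimpleGraph.Connected.mk fun x y => ?_
    by_cases h : x = y
    · subst h; exact SimpleGraph.Reachable.refl _
    · obtain ⟨p, -⟩ := step x y h; exact ⟨p⟩
  refine ⟨hconn, ?_⟩
  set x : octads := ⟨o, ho⟩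
  set y : octads := ⟨o', ho'⟩
  have hxy : x ≠ y := fun e => hne (congrArg Subtype.val e)
  have h1 : (blockGraph octads).dist x y = 1 ↔ (o ∩ o').card = 0 := by
    rw [SimpleGraph.dist_eq_one_iff_adj, blockGraph_adj, Finset.card_eq_zero,
      ← Finset.disjoint_iff_inter_eq_empty]
  obtain ⟨p, hp⟩ := hconn.exists_walk_length_eq_dist x y
  have hpos : 0 < (blockGraph octads).dist x y := hconn.pos_dist_of_ne hxy
  have hle : (blockGraph octads).dist x y ≤ 3 := by
    obtain ⟨q, hq⟩ := step x y hxy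
    exact le_trans (SimpleGraph.dist_le q) hq
  have h2 : (blockGraph octads).dist x y = 2 → (o ∩ o').card ≠ 2 := by
    intro hd hc
    refine (path_three ho ho' hc).2 ?_
    rw [hd] at hp
    have a1 := p.adj_getVert_succ (i := 0) (by omega)
    have a2 := p.adj_getVert_succ (i := 1) (by omega)
    rw [SimpleGraph.Walk.getVert_zero] at a1
    rw [show 1 + 1 = p.length by omega, SimpleGraph.Walk.getVert_length] at a2
    exact ⟨_, Subtype.coe_prop _, blockGraph_adj.1 a1, blockGraph_adj.1 a2⟩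
  have h4 : (o ∩ o').card = 4 → (blockGraph octads).dist x y ≤ 2 := by
    intro hc
    obtain ⟨w, hw, d1, d2⟩ := common_nb ho ho' hc
    have a1 : (blockGraph octads).Adj x ⟨w, hw⟩ := blockGraph_adj.2 d1
    have a2 : (blockGraph octads).Adj ⟨w, hw⟩ y := blockGraph_adj.2 d2
    exact SimpleGraph.dist_le (SimpleGraph.Walk.cons a1 (SimpleGraph.Walk.cons a2 .nil))
  have hcases := octad_cases ho ho' hne
  refine ⟨h1, ?_, ?_⟩ <;> constructor <;> intro h
  · have := h2 h
    rcases hcases with c | c | c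
    · rw [h1.2 c] at h; omega
    · exact absurd c this
    · exact c
  · have := h4 h
    by_contra hne2
    have hd1 : (blockGraph octads).dist x y = 1 := by omega
    rw [h1.1 hd1] at h
    omega
  · rcases hcases with c | c | c
    · rw [h1.2 c] at h; omega
    · exact c
    · have := h4 c; omega
  · rcases Nat.lt_or_ge ((blockGraph octads).dist x y) 3 with hlt | hge
    · have hd : (blockGraph octads).dist x y = 1 ∨ (blockGraph octads).dist x y = 2 := by omega
      rcases hd with hd | hd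
      · rw [h1.1 hd] at h; omega
      · exact absurd h (h2 hd)
    · omega

/-! ### The trios through an octad -/

theorem oT_ok : (refsOK [[oct0], trOctRef] oTGens &&
    coverOK trioTree oTGens oTW0 (fun u => u.contains oct0 && !setEq u trOctRef)) = true ∧
    (trioTree.objs.countP fun u => u.contains oct0) = 15 := by decide +kernel

theorem oT_fix_checks :
    (listOct.all fun P => trioTree.items.all fun e => !e.1.contains oct0 ||
      setEq (e.1.map fun m => mimgB 24 m P) e.1) = true ∧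
    (os15.all fun a => inC a && pop 24 a == 8 && a &&& oct0 == 0 && a.testBit outPt) = true ∧
    ((List.range 24).all fun i => oct0.testBit i || i == outPt || atom (2 ^ outPt) os15 i == 2 ^ i) = true ∧
    stagesOK (16777215 ^^^ oct0) stOut = true ∧
    ((List.range 24).all fun i => oct0.testBit i || listOct.any fun P => ap P outPt == i) = true ∧
    oct0.testBit outPt = false := by decide +kernel

theorem trio_partner {a : Finset GolayPt} (ha : a ∈ octads) (hd : Disjoint (dec oct0) a) :
    ({dec oct0, a, (dec oct0 ∪ a)ᶜ} : Finset (Finset GolayPt)) ∈ trios := by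
  classical
  have h8 := oct0_mem.2
  have ha8 := ha.2
  have hc : ((dec oct0 ∪ a)ᶜ : Finset GolayPt).card = 8 := by
    rw [Finset.card_compl, Finset.card_union_of_disjoint hd, h8, ha8]
    simp
  have hco : (dec oct0 ∪ a)ᶜ ∈ octads := by
    refine ⟨compl_mem_supports ?_, hc⟩
    have := symmDiff_mem_supports oct0_mem.1 ha.1
    rwa [hd.symmDiff_eq_sup] at this
  have d2 : Disjoint (dec oct0) (dec oct0 ∪ a)ᶜ :=
    disjoint_compl_right.mono_left Finset.subset_union_left
  have d3 : Disjoint a (dec oct0 ∪ a)ᶜ :=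
    disjoint_compl_right.mono_left Finset.subset_union_right
  have ne_of : ∀ {s t : Finset GolayPt}, s.card = 8 → Disjoint s t → s ≠ t := by
    intro s t hs hst e
    subst e
    rw [disjoint_self, Finset.bot_eq_empty] at hst
    simp [hst] at hs
  refine ⟨?_, ?_, ?_⟩
  · rw [Finset.card_insert_of_notMem (by
        rw [Finset.mem_insert, Finset.mem_singleton]
        rintro (e | e)
        · exact ne_of h8 hd e
        · exact ne_of h8 d2 e),
      Finset.card_insert_of_notMem (by rw [Finset.mem_singleton]; exact ne_of ha8 d3),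
      Finset.card_singleton]
  · simp only [Finset.mem_insert, Finset.mem_singleton]
    rintro x (rfl | rfl | rfl)
    exacts [oct0_mem, ha, hco]
  · simp only [Finset.mem_insert, Finset.mem_singleton]
    rintro x (rfl | rfl | rfl) y (rfl | rfl | rfl) hne <;>
      first
      | exact absurd rfl hne
      | exact hd | exact d2 | exact d3 | exact hd.symm | exact d2.symm | exact d3.symm

theorem trios_fix_iff {g : Equiv.Perm GolayPt} (hg : g ∈ M24) (hgo : g • dec oct0 = dec oct0) :
    (∀ T ∈ trios, dec oct0 ∈ T → g • T = T) ↔ ∀ p ∈ dec oct0, g p = p := by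
  obtain ⟨hfixT, hos, hatom, hstages, hcov, hout⟩ := oT_fix_checks
  simp only [List.all_eq_true, List.mem_range, Bool.or_eq_true, Bool.not_eq_true', List.any_eq_true,
    beq_iff_eq, Bool.and_eq_true] at hfixT hos hatom hcov
  have hfix : ∀ P ∈ listOct, ∀ T ∈ trios, dec oct0 ∈ T → toPerm P • T = T := by
    intro P hP T hT hoT
    obtain ⟨u, hu, rfl⟩ := exists_listed_trio hT
    obtain ⟨e, he, rfl⟩ := List.mem_map.1 hu
    rcases hfixT P hP e he with h | h
    · exfalso
      simp only [objF, List.mem_toFinset, List.mem_map] at hoT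
      obtain ⟨m, hm, hme⟩ := hoT
      obtain rfl := dec_inj (trioTree.items_lt e he m hm) (by decide +kernel) hme
      simp [hm] at h
    · rw [smul_objF (fixList_spec listOct_ok.1 hP).1, setEq_objF h]
  constructor
  · intro hall p hp
    have hb : (outPt : ℕ) < 24 := by decide +kernel
    have hx0 : pt outPt ∉ dec oct0 := by rw [mem_dec, idx_pt _ hb, hout]; simp
    have himg : g (pt outPt) ∉ dec oct0 := by
      rw [← hgo, mem_smul_iff]; exact hx0
    rcases hcov (idx (g (pt outPt))) (idx_lt _) with h | ⟨P, hP, hPb⟩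
    · exact absurd (mem_dec.2 h) himg
    obtain ⟨hv, hPM, hPF⟩ := fixList_spec listOct_ok.1 hP
    set k := (toPerm P)⁻¹ * g with hk
    have hkM : k ∈ M24 := mul_mem (inv_mem hPM) hg
    have hk0 : k (pt outPt) = pt outPt := by
      rw [hk, Equiv.Perm.mul_apply, Equiv.Perm.inv_eq_iff_eq, toPerm_apply hv, idx_pt _ hb, hPb, pt_idx]
    have hkT : ∀ T ∈ trios, dec oct0 ∈ T → k • T = T := fun T hT hoT => by
      rw [hk, mul_smul, hall T hT hoT, inv_smul_eq_iff, hfix P hP T hT hoT]
    have hkos : ∀ a ∈ os15, k • dec a = dec a := by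
      intro a ha
      obtain ⟨⟨⟨hC, h8⟩, hd⟩, hbit⟩ := hos a ha
      have haoct := dec_mem_octads hC h8
      have hdis : Disjoint (dec oct0) (dec a) := (disjoint_dec hd).symm
      have hT := trio_partner haoct hdis
      have hmem : k • dec a ∈ ({dec oct0, dec a, (dec oct0 ∪ dec a)ᶜ} : Finset (Finset GolayPt)) := by
        rw [← hkT _ hT (by simp)]
        exact Finset.smul_mem_smul_finset (by simp)
      have hin : pt outPt ∈ k • dec a := by
        rw [← hk0, mem_smul_iff, mem_dec, idx_pt _ hb]; exact hbit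
      simp only [Finset.mem_insert, Finset.mem_singleton] at hmem
      rcases hmem with h | h | h
      · exact absurd (h ▸ hin) hx0
      · exact h
      · rw [h, Finset.mem_compl, Finset.mem_union] at hin
        exact absurd (Or.inr (by rw [mem_dec, idx_pt _ hb]; exact hbit)) hin
    have hkout : ∀ q ∈ dec (16777215 ^^^ oct0), k q = q := by
      intro q hq
      rw [mem_dec, Nat.testBit_xor, show (16777215 : ℕ) = fullMask from rfl, testBit_fullMask,
        decide_eq_true (idx_lt q)] at hq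
      have hq' : oct0.testBit (idx q) = false := by simpa using hq
      rcases hatom (idx q) (idx_lt q) with (h | h) | h
      · rw [hq'] at h; exact absurd h (by simp)
      · rw [← pt_idx q, h, hk0]
      · by_cases hqb : q = pt outPt
        · rw [hqb, hk0]
        · have := mem_atom (F := 2 ^ outPt) (g := k)
            (fun r hr => by rw [(mem_dec_two_pow hb).1 hr, hk0]) os15 hkos (p := q)
            (by rw [mem_dec_two_pow hb]; exact hqb)
          rw [h, mem_dec_two_pow (idx_lt q), pt_idx] at this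
          exact this
    have hone := eq_one_of_stages hkM stOut _ hstages hkout
    rw [hk, inv_mul_eq_one] at hone
    rw [← hone]
    exact hPF p hp
  · intro hpt T hT hoT
    obtain ⟨P, hP, rfl⟩ := fixList_mem listOct_ok.1 hg hpt
    exact hfix P hP T hT hoT

theorem trios_two_trans {T₁ T₂ T₁' T₂' : Finset (Finset GolayPt)} (h1 : T₁ ∈ trios) (h2 : T₂ ∈ trios)
    (h1' : T₁' ∈ trios) (h2' : T₂' ∈ trios) (o1 : dec oct0 ∈ T₁) (o2 : dec oct0 ∈ T₂)
    (o1' : dec oct0 ∈ T₁') (o2' : dec oct0 ∈ T₂') (hne : T₁ ≠ T₂) (hne' : T₁' ≠ T₂') :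
    ∃ g ∈ M24, g • dec oct0 = dec oct0 ∧ g • T₁ = T₁' ∧ g • T₂ = T₂' := by
  have href : octTrRef = [oct0] := by decide +kernel
  have hcls : ∀ T ∈ trios, dec oct0 ∈ T →
      ∃ a ∈ M24, a • dec oct0 = dec oct0 ∧ a • objF trOctRef = T := by
    intro T hT hoT
    have hR : ((1 : Equiv.Perm GolayPt) • objF octTrRef) = ({dec oct0} : Finset (Finset GolayPt)) := by
      rw [one_smul, href, objF_singleton]
    obtain ⟨a, ha, hao, haT⟩ := trioFam.trans_class octTr_ok.2.2.1 (one_mem M24)
      (X := objF trOctRef) (Y := T)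
      ⟨ref_trio.1, by rw [hR]; exact sigF_trio_of_mem ref_trio.1 ref_trio.2⟩
      ⟨hT, by rw [hR]; exact sigF_trio_of_mem hT hoT⟩
    rw [hR, Finset.smul_finset_singleton, Finset.singleton_inj] at hao
    exact ⟨a, ha, hao, haT⟩
  obtain ⟨a, ha, hao, haT⟩ := hcls T₁ h1 o1
  obtain ⟨b, hb, hbo, hbT⟩ := hcls T₁' h1' o1'
  obtain ⟨hchk, -⟩ := oT_ok
  rw [Bool.and_eq_true] at hchk
  have reach : ∀ c : Equiv.Perm GolayPt, c ∈ M24 → c • dec oct0 = dec oct0 →
      ∀ T ∈ trios, dec oct0 ∈ T → T ≠ c • objF trOctRef →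
      ∃ d ∈ fixRefs [[oct0], trOctRef], c • d • objF oTW0.1 = T := by
    intro c hc hco T hT hoT hTne
    obtain ⟨u, hu, hue⟩ := exists_listed_trio (smul_mem_trios (inv_mem hc) hT)
    have hcont : u.contains oct0 = true := by
      have : dec oct0 ∈ objF u := by
        rw [hue, Finset.mem_inv_smul_finset_iff, hco]; exact hoT
      simp only [objF, List.mem_toFinset, List.mem_map] at this
      obtain ⟨m, hm, hme⟩ := this
      obtain rfl := dec_inj (STree.objs_lt hu m hm) (by decide +kernel) hme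
      exact List.contains_iff_mem.2 hm
    have hne2 : setEq u trOctRef = false := by
      by_contra h
      simp only [Bool.not_eq_false] at h
      apply hTne
      rw [← setEq_objF h, hue, smul_inv_smul]
    obtain ⟨d, hd, hde⟩ := exists_of_coverOK trioTree_ok (refsOK_mem hchk.1) hchk.2 hu
      (by rw [hcont, hne2]; rfl)
    exact ⟨d, hd, by rw [hde, hue, smul_inv_smul]⟩
  obtain ⟨d, hd, hdT⟩ := reach a ha hao T₂ h2 o2 (by rw [haT]; exact hne.symm)
  obtain ⟨e, he, heT⟩ := reach b hb hbo T₂' h2' o2' (by rw [hbT]; exact hne'.symm)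
  obtain ⟨hdM, hdf⟩ := mem_fixRefs.1 hd
  obtain ⟨heM, hef⟩ := mem_fixRefs.1 he
  have hd1 : d • dec oct0 = dec oct0 := by
    have := hdf [oct0] (by simp)
    rwa [objF_singleton, Finset.smul_finset_singleton, Finset.singleton_inj] at this
  have he1 : e • dec oct0 = dec oct0 := by
    have := hef [oct0] (by simp)
    rwa [objF_singleton, Finset.smul_finset_singleton, Finset.singleton_inj] at this
  have back : ∀ {c : Equiv.Perm GolayPt} {x y : Finset (Finset GolayPt)}, c • x = y → c⁻¹ • y = x :=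
    fun {c x y} h => inv_smul_eq_iff.2 h.symm
  refine ⟨b * e * d⁻¹ * a⁻¹, mul_mem (mul_mem (mul_mem hb heM) (inv_mem hdM)) (inv_mem ha), ?_, ?_, ?_⟩
  · rw [mul_smul, mul_smul, mul_smul, inv_smul_eq_iff.2 hao.symm, inv_smul_eq_iff.2 hd1.symm, he1, hbo]
  · rw [mul_smul, mul_smul, mul_smul, back haT, back (hdf trOctRef (by simp)), hef trOctRef (by simp), hbT]
  · rw [mul_smul, mul_smul, mul_smul, back hdT, inv_smul_smul, heT]

theorem fifteen_trios {o : Finset GolayPt} (ho : o ∈ octads) :
    {T : Finset (Finset GolayPt) | T ∈ trios ∧ o ∈ T}.ncard = 15 ∧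
    (∀ T₁ T₂ T₁' T₂' : Finset (Finset GolayPt), T₁ ∈ trios → T₂ ∈ trios → T₁' ∈ trios → T₂' ∈ trios →
      o ∈ T₁ → o ∈ T₂ → o ∈ T₁' → o ∈ T₂' → T₁ ≠ T₂ → T₁' ≠ T₂' →
      ∃ g ∈ M24, g • o = o ∧ g • T₁ = T₁' ∧ g • T₂ = T₂') ∧
    ∀ g ∈ M24, g • o = o → ((∀ T ∈ trios, o ∈ T → g • T = T) ↔ ∀ p ∈ o, g p = p) := by
  obtain ⟨a, ha, rfl⟩ := exists_smul_oct0 ho
  have mem_iff' : ∀ T : Finset (Finset GolayPt), a • dec oct0 ∈ T ↔ dec oct0 ∈ a⁻¹ • T :=
    fun T => (Finset.mem_inv_smul_finset_iff).symm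
  refine ⟨?_, ?_, ?_⟩
  · have he : {T : Finset (Finset GolayPt) | T ∈ trios ∧ a • dec oct0 ∈ T} =
        (fun T => a • T) '' {T : Finset (Finset GolayPt) | T ∈ trioFam.sets ∧ dec oct0 ∈ T} := by
      ext T
      constructor
      · rintro ⟨hT, hoT⟩
        exact ⟨a⁻¹ • T, ⟨smul_mem_trios (inv_mem ha) hT, (mem_iff' T).1 hoT⟩, smul_inv_smul a T⟩
      · rintro ⟨S, ⟨hS, hoS⟩, rfl⟩
        exact ⟨smul_mem_trios ha hS, Finset.smul_mem_smul_finset hoS⟩
    rw [he, Set.ncard_image_of_injective _ (MulAction.injective a),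
      trioFam.ncard_filter (fun u => u.contains oct0) fun u hu => ?_]
    · exact oT_ok.2
    · simp only [objF, List.mem_toFinset, List.mem_map, List.contains_iff_mem]
      constructor
      · rintro ⟨m, hm, hme⟩
        obtain rfl := dec_inj (STree.objs_lt hu m hm) (by decide +kernel) hme
        exact hm
      · exact fun hm => ⟨oct0, hm, rfl⟩
  · intro T₁ T₂ T₁' T₂' h1 h2 h1' h2' o1 o2 o1' o2' hne hne'
    obtain ⟨g, hg, hgo, g1, g2⟩ := trios_two_trans (smul_mem_trios (inv_mem ha) h1)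
      (smul_mem_trios (inv_mem ha) h2) (smul_mem_trios (inv_mem ha) h1') (smul_mem_trios (inv_mem ha) h2')
      ((mem_iff' _).1 o1) ((mem_iff' _).1 o2) ((mem_iff' _).1 o1') ((mem_iff' _).1 o2')
      (fun e => hne (MulAction.injective a⁻¹ e)) (fun e => hne' (MulAction.injective a⁻¹ e))
    refine ⟨a * g * a⁻¹, mul_mem (mul_mem ha hg) (inv_mem ha), ?_, ?_, ?_⟩
    · rw [mul_smul, inv_smul_smul, mul_smul, hgo]
    · rw [mul_smul, mul_smul, g1, smul_inv_smul]
    · rw [mul_smul, mul_smul, g2, smul_inv_smul]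
  · intro g hg hgo
    have hk : (a⁻¹ * g * a) • dec oct0 = dec oct0 := by rw [mul_smul, mul_smul, hgo, inv_smul_smul]
    have h := trios_fix_iff (mul_mem (mul_mem (inv_mem ha) hg) ha) hk
    constructor
    · intro hall p hp
      obtain ⟨q, hq, rfl⟩ := Finset.mem_smul_finset.1 hp
      have := h.1 (fun T hT hoT => by
        rw [mul_smul, mul_smul, hall _ (smul_mem_trios ha hT) (Finset.smul_mem_smul_finset hoT),
          inv_smul_smul]) q hq
      rw [Equiv.Perm.mul_apply, Equiv.Perm.mul_apply, Equiv.Perm.inv_eq_iff_eq] at this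
      exact this
    · intro hpt T hT hoT
      have h' := h.2 (fun q hq => by
        rw [Equiv.Perm.mul_apply, Equiv.Perm.mul_apply,
          hpt (a q) ((mem_smul_iff a q _).2 hq), perm_inv_apply]) _ (smul_mem_trios (inv_mem ha) hT)
        ((mem_iff' T).1 hoT)
      rw [mul_smul, mul_smul, smul_inv_smul] at h'
      exact MulAction.injective a⁻¹ h'

end CfsgLib.Golay
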