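import Cfsg.Agent.Lib.Golay.Systems.OrbitWalk.OctTr
import Cfsg.Agent.Lib.Golay.Systems.OrbitWalk.OctSx
import Cfsg.Agent.Lib.Golay.Systems.OrbitWalk.SxOct
import Cfsg.Agent.Lib.Golay.Systems.OrbitWalk.SxTr
import Cfsg.Agent.Lib.Golay.Systems.OrbitWalk.TrOct
import Cfsg.Agent.Lib.Golay.Systems.OrbitWalk.TrSx
import Cfsg.Agent.Lib.Golay.Systems.OrbitWalk.DpSx
import Cfsg.Agent.Lib.Golay.Systems.OrbitWalk.YSx

/-!
The kernel checks of the orbit walks, one module for each.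
-/
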