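import Cfsg.Agent.Lib.Golay.Systems.Families
import Cfsg.Agent.Lib.Golay.Systems.OrbitChecks

/-!
Orbits of stabilizers of octads, sextets, trios, dodecad pairs and triples on octads, trios and sextets.
-/

set_option autoImplicit false
set_option maxRecDepth 20000

namespace CfsgLib.Golay

open Cfsg
open scoped Pointwise

attribute [local irreducible] octTree dodTree trioTree sextTree

/-- three orbits with given sizes filling a set -/
def Split3 {α : Type*} (orb : α → Set α) (U : Set α) (a b c : ℕ) : Prop :=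
  ∃ X₁ ∈ U, ∃ X₂ ∈ U, ∃ X₃ ∈ U, (orb X₁).ncard = a ∧ (orb X₂).ncard = b ∧ (orb X₃).ncard = c ∧
    U = orb X₁ ∪ orb X₂ ∪ orb X₃

/-- four orbits with given sizes filling a set -/
def Split4 {α : Type*} (orb : α → Set α) (U : Set α) (a b c d : ℕ) : Prop :=
  ∃ X₁ ∈ U, ∃ X₂ ∈ U, ∃ X₃ ∈ U, ∃ X₄ ∈ U, (orb X₁).ncard = a ∧ (orb X₂).ncard = b ∧
    (orb X₃).ncard = c ∧ (orb X₄).ncard = d ∧ U = orb X₁ ∪ orb X₂ ∪ orb X₃ ∪ orb X₄

theorem Family.split3 (F : Family) {R0 : List ℕ} {G1 G2 G3 : List ℕ} {w1 w2 w3 : List ℕ × ℕ × ℕ × ℕ}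
    {c1 c2 c3 n1 n2 n3 : ℕ} (h1 : classOK F.tree R0 G1 w1 c1 n1 = true)
    (h2 : classOK F.tree R0 G2 w2 c2 n2 = true) (h3 : classOK F.tree R0 G3 w3 c3 n3 = true)
    (hv : valsOK F.tree R0 [c1, c2, c3] = true) {g : Equiv.Perm GolayPt} (hg : g ∈ M24)
    {R : Finset (Finset GolayPt)} (hR : g • objF R0 = R) :
    Split3 (fun X => MulAction.orbit ↥(MulAction.stabilizer M24 R) X) F.sets n1 n2 n3 := by
  subst hR
  obtain ⟨X1, hX1⟩ := F.exists_mem_class h1 hg
  obtain ⟨X2, hX2⟩ := F.exists_mem_class h2 hg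
  obtain ⟨X3, hX3⟩ := F.exists_mem_class h3 hg
  refine ⟨X1, hX1.1, X2, hX2.1, X3, hX3.1, ?_⟩
  simp only [F.orbit_class h1 hg hX1, F.orbit_class h2 hg hX2, F.orbit_class h3 hg hX3,
    F.ncard_class h1 hg, F.ncard_class h2 hg, F.ncard_class h3 hg, true_and]
  ext X
  constructor
  · intro hX
    obtain ⟨c, hc, hXc⟩ := F.sig_mem hv hg hX
    simp only [List.mem_cons, List.not_mem_nil, or_false] at hc
    rcases hc with rfl | rfl | rfl
    · exact Or.inl (Or.inl hXc)
    · exact Or.inl (Or.inr hXc)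
    · exact Or.inr hXc
  · rintro ((hX | hX) | hX) <;> exact hX.1

theorem Family.split4 (F : Family) {R0 : List ℕ} {G : List ℕ} {w1 w2 w3 w4 : List ℕ × ℕ × ℕ × ℕ}
    {c1 c2 c3 c4 n1 n2 n3 n4 : ℕ} (h1 : classOK F.tree R0 G w1 c1 n1 = true)
    (h2 : classOK F.tree R0 G w2 c2 n2 = true) (h3 : classOK F.tree R0 G w3 c3 n3 = true)
    (h4 : classOK F.tree R0 G w4 c4 n4 = true)
    (hv : valsOK F.tree R0 [c1, c2, c3, c4] = true) {g : Equiv.Perm GolayPt} (hg : g ∈ M24)
    {R : Finset (Finset GolayPt)} (hR : g • objF R0 = R) :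
    Split4 (fun X => MulAction.orbit ↥(MulAction.stabilizer M24 R) X) F.sets n1 n2 n3 n4 := by
  subst hR
  obtain ⟨X1, hX1⟩ := F.exists_mem_class h1 hg
  obtain ⟨X2, hX2⟩ := F.exists_mem_class h2 hg
  obtain ⟨X3, hX3⟩ := F.exists_mem_class h3 hg
  obtain ⟨X4, hX4⟩ := F.exists_mem_class h4 hg
  refine ⟨X1, hX1.1, X2, hX2.1, X3, hX3.1, X4, hX4.1, ?_⟩
  simp only [F.orbit_class h1 hg hX1, F.orbit_class h2 hg hX2, F.orbit_class h3 hg hX3,
    F.orbit_class h4 hg hX4, F.ncard_class h1 hg, F.ncard_class h2 hg, F.ncard_class h3 hg,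
    F.ncard_class h4 hg, true_and]
  ext X
  constructor
  · intro hX
    obtain ⟨c, hc, hXc⟩ := F.sig_mem hv hg hX
    simp only [List.mem_cons, List.not_mem_nil, or_false] at hc
    rcases hc with rfl | rfl | rfl | rfl
    · exact Or.inl (Or.inl (Or.inl hXc))
    · exact Or.inl (Or.inl (Or.inr hXc))
    · exact Or.inl (Or.inr hXc)
    · exact Or.inr hXc
  · rintro (((hX | hX) | hX) | hX) <;> exact hX.1

/-! ### One-element systems -/

theorem stab_singleton (o : Finset GolayPt) :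
    MulAction.stabilizer M24 ({o} : Finset (Finset GolayPt)) = MulAction.stabilizer M24 o := by
  ext g
  simp only [MulAction.mem_stabilizer_iff]
  rw [show g • ({o} : Finset (Finset GolayPt)) = {g • o} from Finset.smul_finset_singleton o]
  exact Finset.singleton_inj

theorem orbit_singleton (H : Subgroup ↥M24) (o : Finset GolayPt) :
    MulAction.orbit H ({o} : Finset (Finset GolayPt)) = (fun x => {x}) '' MulAction.orbit H o := by
  ext X
  constructor
  · rintro ⟨h, rfl⟩
    exact ⟨h • o, ⟨h, rfl⟩, (Finset.smul_finset_singleton o).symm⟩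
  · rintro ⟨_, ⟨h, rfl⟩, rfl⟩
    exact ⟨h, Finset.smul_finset_singleton o⟩

theorem split3_octads {R : Finset (Finset GolayPt)} {a b c : ℕ}
    (h : Split3 (fun X => MulAction.orbit ↥(MulAction.stabilizer M24 R) X) octFam.sets a b c) :
    Split3 (fun X => MulAction.orbit ↥(MulAction.stabilizer M24 R) X) octads a b c := by
  have hinj : Function.Injective (fun x : Finset GolayPt => ({x} : Finset (Finset GolayPt))) :=
    fun _ _ e => Finset.singleton_inj.1 e
  have hsets : octFam.sets = (fun x : Finset GolayPt => ({x} : Finset (Finset GolayPt))) '' octads := by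
    ext X
    exact ⟨fun ⟨o, ho, e⟩ => ⟨o, ho, e.symm⟩, fun ⟨o, ho, e⟩ => ⟨o, ho, e.symm⟩⟩
  obtain ⟨_, ⟨o1, h1, rfl⟩, _, ⟨o2, h2, rfl⟩, _, ⟨o3, h3, rfl⟩, e1, e2, e3, e⟩ := h
  simp only [orbit_singleton, Set.ncard_image_of_injective _ hinj] at e1 e2 e3
  simp only [orbit_singleton, ← Set.image_union, hsets] at e
  exact ⟨o1, h1, o2, h2, o3, h3, e1, e2, e3, hinj.image_injective e⟩

/-! ### Moving the reference systems -/

theorem exists_smul_ref_octad {o : Finset GolayPt} (ho : o ∈ octads) :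
    ∃ g ∈ M24, g • objF octTrRef = {o} := by
  obtain ⟨g, hg, rfl⟩ := exists_smul_oct0 ho
  exact ⟨g, hg, by rw [show octTrRef = [oct0] by decide +kernel, objF_singleton, Finset.smul_finset_singleton]⟩

theorem ref_sextet : objF sxOctRef ∈ sextets ∧ dec (2 ^ 23 ||| 1 ||| 2 ||| 4) ∈ objF sxOctRef := by
  have h1 : (sextTree.find sxOctRef).isSome = true ∧ sxOctRef.contains (2 ^ 23 ||| 1 ||| 2 ||| 4) = true := by
    decide +kernel
  obtain ⟨u, hu, e⟩ := find_mem h1.1
  refine ⟨e ▸ (objF_mem_sextets hu).1, ?_⟩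
  simp only [objF, List.mem_toFinset]
  exact List.mem_map_of_mem (List.contains_iff_mem.1 h1.2)

theorem exists_smul_ref_sextet {S : Finset (Finset GolayPt)} (hS : S ∈ sextets) :
    ∃ g ∈ M24, g • objF sxOctRef = S := by
  obtain ⟨t, ht⟩ : S.Nonempty := Finset.card_pos.1 (by rw [hS.1]; norm_num)
  obtain ⟨g, hg, rfl⟩ := exists_map_base_four (hS.2.1 t ht)
  exact ⟨g, hg, sextet_unique (smul_mem_sextets hg ref_sextet.1) hS
    (Finset.smul_mem_smul_finset ref_sextet.2) ht⟩

theorem ref_trio : objF trOctRef ∈ trios ∧ dec oct0 ∈ objF trOctRef := by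
  have h1 : (trioTree.find trOctRef).isSome = true ∧ trOctRef.contains oct0 = true := by
    decide +kernel
  obtain ⟨u, hu, e⟩ := find_mem h1.1
  refine ⟨e ▸ objF_mem_trios hu, ?_⟩
  simp only [objF, List.mem_toFinset]
  exact List.mem_map_of_mem (List.contains_iff_mem.1 h1.2)

theorem sigF_trio_of_mem {o : Finset GolayPt} {T : Finset (Finset GolayPt)} (hT : T ∈ trios)
    (ho : o ∈ T) : sigF {o} T = 281475043819524 := by
  rw [sigF, Finset.sum_singleton, ← Finset.insert_erase ho, Finset.sum_insert (Finset.notMem_erase o T)]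
  have h8 : (o ∩ o).card = 8 := by rw [Finset.inter_self]; exact (hT.2.1 o ho).2
  have hrest : ∀ t ∈ T.erase o, 8 ^ (o ∩ t).card = 1 := by
    intro t ht
    obtain ⟨hne, htT⟩ := Finset.mem_erase.1 ht
    rw [Finset.disjoint_iff_inter_eq_empty.1 (hT.2.2 o ho t htT (Ne.symm hne))]
    rfl
  rw [Finset.sum_congr rfl hrest, Finset.sum_const, Finset.card_erase_of_mem ho, hT.1, h8]
  norm_num

theorem exists_smul_ref_trio {T : Finset (Finset GolayPt)} (hT : T ∈ trios) :
    ∃ g ∈ M24, g • objF trOctRef = T := by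
  obtain ⟨o, ho⟩ : T.Nonempty := Finset.card_pos.1 (by rw [hT.1]; norm_num)
  obtain ⟨g, hg, hgo⟩ := exists_smul_oct0 (hT.2.1 o ho)
  have hR : g • objF octTrRef = ({o} : Finset (Finset GolayPt)) := by
    rw [show octTrRef = [oct0] by decide +kernel, objF_singleton, Finset.smul_finset_singleton, hgo]
  have hX : g • objF trOctRef ∈ setS trioFam.sets (g • objF octTrRef) 281475043819524 := by
    refine ⟨smul_mem_trios hg ref_trio.1, ?_⟩
    rw [hR]
    exact sigF_trio_of_mem (smul_mem_trios hg ref_trio.1) (hgo ▸ Finset.smul_mem_smul_finset ref_trio.2)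
  have hY : T ∈ setS trioFam.sets (g • objF octTrRef) 281475043819524 :=
    ⟨hT, by rw [hR]; exact sigF_trio_of_mem hT ho⟩
  obtain ⟨k, hk, -, hkT⟩ := trioFam.trans_class octTr_ok.2.2.1 hg hX hY
  exact ⟨k * g, mul_mem hk hg, by rw [mul_smul, hkT]⟩

theorem exists_smul_ref_pair {d : Finset GolayPt} (hd : d ∈ dodecads) :
    ∃ g ∈ M24, g • objF dpSxRef = {d, Finset.univ \ d} := by
  obtain ⟨g, hg, rfl⟩ := exists_smul_dod0 hd
  refine ⟨g, hg, ?_⟩
  have h : objF dpSxRef = {dec dod0, Finset.univ \ dec dod0} := by decide +kernel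
  rw [h, Finset.smul_finset_insert, Finset.smul_finset_singleton, Finset.smul_finset_sdiff,
    Finset.smul_finset_univ]

theorem exists_smul_ref_triple {Y : Finset GolayPt} (hY : Y.card = 3) :
    ∃ g ∈ M24, g • objF ySxRef = {Y} := by
  classical
  obtain ⟨Z, hZY, hZ⟩ := Finset.exists_subset_card_eq (s := Yᶜ) (n := 2)
    (by rw [Finset.card_compl, hY]; simp)
  obtain ⟨g, hg, hmap⟩ := exists_map_base5 (Y.toList ++ Z.toList) (by simp [hY, hZ]) (by
    rw [List.nodup_append]
    exact ⟨Y.nodup_toList, Z.nodup_toList, fun a ha b hb e =>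
      Finset.mem_compl.1 (hZY (Finset.mem_toList.1 hb)) (e ▸ Finset.mem_toList.1 ha)⟩)
  have h3 : Y.toList = [23, 0, 1].map fun b => g (pt b) := by
    have := congrArg (List.take 3) hmap
    rw [← List.map_take, List.take_left' (by simp [hY])] at this
    exact this.symm
  have hd : dec (2 ^ 23 ||| 1 ||| 2) = ([23, 0, 1].map pt).toFinset := by decide +kernel
  obtain ⟨g0, hg0, hg0'⟩ : ∃ g0 ∈ M24, g0 • objF ySxRef = {dec (2 ^ 23 ||| 1 ||| 2)} := by
    obtain ⟨g0, hg0, hmap0⟩ := exists_map_base5 [pt 0, pt 1, pt 2, pt 3, pt 4] rfl (by decide +kernel)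
    refine ⟨g0⁻¹, inv_mem hg0, ?_⟩
    rw [inv_smul_eq_iff, show ySxRef = [7] by decide +kernel, objF_singleton, Finset.smul_finset_singleton,
      Finset.singleton_inj, hd]
    simp only [base5, List.map_cons, List.map_nil, List.cons.injEq, and_true] at hmap0
    obtain ⟨e0, e1, e2, -, -⟩ := hmap0
    have h7 : dec 7 = {pt 0, pt 1, pt 2} := by decide +kernel
    simp [h7, Finset.smul_finset_insert, e0, e1, e2]
  refine ⟨g * g0, mul_mem hg hg0, ?_⟩
  rw [mul_smul, hg0', Finset.smul_finset_singleton, Finset.singleton_inj, hd]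
  ext p
  rw [← Finset.mem_toList (s := Y), h3]
  simp only [Finset.mem_smul_finset, List.mem_toFinset, List.mem_map]
  constructor
  · rintro ⟨_, ⟨b, hb, rfl⟩, rfl⟩; exact ⟨b, hb, rfl⟩
  · rintro ⟨b, hb, rfl⟩; exact ⟨pt b, ⟨b, hb, rfl⟩, rfl⟩

/-! ### The statements -/

theorem octad_orbits {o : Finset GolayPt} (ho : o ∈ octads) :
    Split3 (fun X => MulAction.orbit ↥(MulAction.stabilizer M24 o) X) trios 15 420 3360 ∧
    Split3 (fun X => MulAction.orbit ↥(MulAction.stabilizer M24 o) X) sextets 35 840 896 := by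
  obtain ⟨g, hg, hgo⟩ := exists_smul_ref_octad ho
  rw [← stab_singleton o]
  obtain ⟨a1, a2, a3, av⟩ := octTr_ok
  obtain ⟨b1, b2, b3, bv⟩ := octSx_ok
  exact ⟨trioFam.split3 a3 a2 a1 av hg hgo, sextFam.split3 b1 b3 b2 bv hg
    (by rw [show octSxRef = octTrRef by decide +kernel]; exact hgo)⟩

theorem sextet_orbits {S : Finset (Finset GolayPt)} (hS : S ∈ sextets) :
    Split3 (fun X => MulAction.orbit ↥(MulAction.stabilizer M24 S) X) octads 15 360 384 ∧
    Split4 (fun X => MulAction.orbit ↥(MulAction.stabilizer M24 S) X) trios 15 180 720 2880 := by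
  obtain ⟨g, hg, hgS⟩ := exists_smul_ref_sextet hS
  obtain ⟨a1, a2, a3, av⟩ := sxOct_ok
  obtain ⟨b1, b2, b3, b4, bv⟩ := sxTr_ok
  exact ⟨split3_octads (octFam.split3 a3 a2 a1 av hg hgS), trioFam.split4 b4 b3 b2 b1 bv hg
    (by rw [show sxTrRef = sxOctRef by decide +kernel]; exact hgS)⟩

theorem trio_orbits {T : Finset (Finset GolayPt)} (hT : T ∈ trios) :
    Split3 (fun X => MulAction.orbit ↥(MulAction.stabilizer M24 T) X) octads 3 84 672 ∧
    Split4 (fun X => MulAction.orbit ↥(MulAction.stabilizer M24 T) X) sextets 7 84 336 1344 := by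
  obtain ⟨g, hg, hgT⟩ := exists_smul_ref_trio hT
  obtain ⟨a1, a2, a3, av⟩ := trOct_ok
  obtain ⟨b1, b2, b3, b4, bv⟩ := trSx_ok
  exact ⟨split3_octads (octFam.split3 a3 a2 a1 av hg hgT), sextFam.split4 b2 b1 b4 b3 bv hg
    (by rw [show trSxRef = trOctRef by decide +kernel]; exact hgT)⟩

theorem dodecad_pair_orbits {d : Finset GolayPt} (hd : d ∈ dodecads) :
    Split3 (fun X => MulAction.orbit
      ↥(MulAction.stabilizer M24 ({d, Finset.univ \ d} : Finset (Finset GolayPt))) X) sextets 396 495 880 := by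
  obtain ⟨g, hg, hgd⟩ := exists_smul_ref_pair hd
  obtain ⟨a1, a2, a3, av⟩ := dpSx_ok
  exact sextFam.split3 a3 a1 a2 av hg hgd

theorem meet_count_eq {u : List ℕ} (hu : u ∈ sextTree.objs) (g : Equiv.Perm GolayPt) :
    ((g • objF u).filter fun t => (t ∩ g • dec 7).Nonempty).card =
      u.countP fun m => m &&& 7 != 0 := by
  classical
  have hlt := STree.objs_lt hu
  have hnd : u.Nodup := by
    obtain ⟨e, he, rfl⟩ := List.mem_map.1 hu
    exact (STree.ok_find sextTree_ok he).2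
  have h1 : ((g • objF u).filter fun t => (t ∩ g • dec 7).Nonempty) =
      g • ((objF u).filter fun t => (t ∩ dec 7).Nonempty) := by
    ext t
    simp only [Finset.mem_filter, Finset.mem_smul_finset]
    constructor
    · rintro ⟨⟨s, hs, rfl⟩, h⟩
      rw [← Finset.smul_finset_inter, Finset.smul_finset_nonempty] at h
      exact ⟨s, ⟨hs, h⟩, rfl⟩
    · rintro ⟨s, ⟨hs, h⟩, rfl⟩
      exact ⟨⟨s, hs, rfl⟩, by rw [← Finset.smul_finset_inter, Finset.smul_finset_nonempty]; exact h⟩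
  have h2 : ((objF u).filter fun t => (t ∩ dec 7).Nonempty) = objF (u.filter fun m => m &&& 7 != 0) := by
    ext t
    simp only [objF, Finset.mem_filter, List.mem_toFinset, List.mem_map, List.mem_filter, bne_iff_ne]
    constructor
    · rintro ⟨⟨m, hm, rfl⟩, h⟩
      refine ⟨m, ⟨hm, fun e => ?_⟩, rfl⟩
      rw [← dec_and, e] at h
      simp [dec] at h
    · rintro ⟨m, ⟨hm, hne⟩, rfl⟩
      refine ⟨⟨m, hm, rfl⟩, ?_⟩
      rw [← dec_and, Finset.nonempty_iff_ne_empty]
      intro e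
      exact hne (dec_inj (lt_of_le_of_lt Nat.and_le_left (hlt m hm)) (by norm_num)
        (e.trans (by decide +kernel)))
  rw [h1, Finset.card_smul_finset, h2, objF, List.toFinset_card_of_nodup
      (objF_inj_on (fun m hm => hlt m (List.mem_filter.1 hm).1) (hnd.filter _)),
    List.length_map, List.countP_eq_length_filter]

theorem meet_checks : (sextTree.objs.all fun u =>
    (u.countP (fun m => m &&& 7 != 0) == 1 && sigL ySxRef u == 267289) ||
    (u.countP (fun m => m &&& 7 != 0) == 2 && sigL ySxRef u == 5776) ||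
    (u.countP (fun m => m &&& 7 != 0) == 3 && sigL ySxRef u == 729)) = true := by decide +kernel

theorem triple_orbits {Y : Finset GolayPt} (hY : Y.card = 3) :
    {S : Finset (Finset GolayPt) | S ∈ sextets ∧ (S.filter fun t => (t ∩ Y).Nonempty).card = 1}.ncard = 21 ∧
    {S : Finset (Finset GolayPt) | S ∈ sextets ∧ (S.filter fun t => (t ∩ Y).Nonempty).card = 2}.ncard = 630 ∧
    {S : Finset (Finset GolayPt) | S ∈ sextets ∧ (S.filter fun t => (t ∩ Y).Nonempty).card = 3}.ncard = 1120 ∧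
    ∀ S S' : Finset (Finset GolayPt), S ∈ sextets → S' ∈ sextets →
      (S.filter fun t => (t ∩ Y).Nonempty).card = (S'.filter fun t => (t ∩ Y).Nonempty).card →
      ∃ g ∈ M24, g • Y = Y ∧ g • S = S' := by
  obtain ⟨g, hg, hgY⟩ := exists_smul_ref_triple hY
  have href : ySxRef = [7] := by decide +kernel
  have hY' : g • dec 7 = Y := by
    rw [href, objF_singleton, Finset.smul_finset_singleton, Finset.singleton_inj] at hgY
    exact hgY
  obtain ⟨c1, c2, c3, cv⟩ := ySx_ok
  have hchk := meet_checks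
  simp only [List.all_eq_true, Bool.or_eq_true, Bool.and_eq_true, beq_iff_eq] at hchk
  have hn : ySxRef.Nodup ∧ ∀ m ∈ ySxRef, m < 2 ^ 24 := by rw [href]; simp
  -- the meeting number in terms of the signature
  have hiff : ∀ S ∈ sextets, ∀ k c : ℕ, (k, c) ∈ [(1, 267289), (2, 5776), (3, 729)] →
      ((S.filter fun t => (t ∩ Y).Nonempty).card = k ↔ S ∈ setS sextFam.sets (g • objF ySxRef) c) := by
    intro S hS k c hkc
    obtain ⟨u, hu, he⟩ := (sextFam.mem_iff _).1 (smul_mem_sextets (inv_mem hg) hS)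
    have hSu : S = g • objF u := by rw [he, smul_inv_smul]
    have hsig : sigF (g • objF ySxRef) S = sigL ySxRef u := by
      rw [hSu, sigF_smul, sextFam.sig_eq hn.1 hn.2 hu]
    have hcnt : (S.filter fun t => (t ∩ Y).Nonempty).card = u.countP fun m => m &&& 7 != 0 := by
      rw [hSu, ← hY']; exact meet_count_eq hu g
    simp only [List.mem_cons, List.not_mem_nil, or_false, Prod.mk.injEq] at hkc
    rw [hcnt]
    constructor
    · intro h
      refine ⟨hS, hsig.trans ?_⟩
      rcases hchk u hu with (⟨a, b⟩ | ⟨a, b⟩) | ⟨a, b⟩ <;>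
        rcases hkc with ⟨rfl, rfl⟩ | ⟨rfl, rfl⟩ | ⟨rfl, rfl⟩ <;> omega
    · rintro ⟨-, h⟩
      rw [hsig] at h
      rcases hchk u hu with (⟨a, b⟩ | ⟨a, b⟩) | ⟨a, b⟩ <;>
        rcases hkc with ⟨rfl, rfl⟩ | ⟨rfl, rfl⟩ | ⟨rfl, rfl⟩ <;> omega
  have hset : ∀ k c : ℕ, (k, c) ∈ [(1, 267289), (2, 5776), (3, 729)] →
      {S : Finset (Finset GolayPt) | S ∈ sextets ∧ (S.filter fun t => (t ∩ Y).Nonempty).card = k} =
        setS sextFam.sets (g • objF ySxRef) c := by
    intro k c hkc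
    ext S
    exact ⟨fun ⟨hS, h⟩ => (hiff S hS k c hkc).1 h, fun h => ⟨h.1, (hiff S h.1 k c hkc).2 h⟩⟩
  refine ⟨?_, ?_, ?_, fun S S' hS hS' heq => ?_⟩
  · rw [hset 1 267289 (by simp)]; exact sextFam.ncard_class c1 hg
  · rw [hset 2 5776 (by simp)]; exact sextFam.ncard_class c2 hg
  · rw [hset 3 729 (by simp)]; exact sextFam.ncard_class c3 hg
  · obtain ⟨c, hc, hSc⟩ := sextFam.sig_mem cv hg hS
    have fin : ∀ {k c : ℕ} {G : List ℕ} {w : List ℕ × ℕ × ℕ × ℕ} {n : ℕ},
        (k, c) ∈ [(1, 267289), (2, 5776), (3, 729)] → classOK sextFam.tree ySxRef G w c n = true →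
        S ∈ setS sextFam.sets (g • objF ySxRef) c → ∃ k ∈ M24, k • Y = Y ∧ k • S = S' := by
      intro k c G w n hkc hcls hSc
      have hk := (hiff S hS k c hkc).2 hSc
      obtain ⟨a, ha, haY, haS⟩ := sextFam.trans_class hcls hg hSc ((hiff S' hS' k c hkc).1 (heq ▸ hk))
      refine ⟨a, ha, ?_, haS⟩
      rw [hgY, Finset.smul_finset_singleton, Finset.singleton_inj] at haY
      exact haY
    simp only [List.mem_cons, List.not_mem_nil, or_false] at hc
    rcases hc with rfl | rfl | rfl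
    · exact fin (k := 1) (by simp) c1 hSc
    · exact fin (k := 2) (by simp) c2 hSc
    · exact fin (k := 3) (by simp) c3 hSc

end CfsgLib.Golay
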