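import Mathlib.GroupTheory.GroupAction.Quotient
import Mathlib.GroupTheory.Index
import Mathlib.Data.Set.Card
import Mathlib.Order.Atoms

/-!
A stabilizer is maximal when no union of its orbits has a proper divisor of the degree as its size.
-/

set_option autoImplicit false

namespace CfsgLib.Golay

open scoped Pointwise

theorem ncard_classes_sum {α : Type*} {U : Set α} (hU : U.Finite) (f : α → ℕ) (n : ℕ → ℕ) :
    ∀ C : List ℕ, C.Nodup → (∀ c ∈ C, {y | y ∈ U ∧ f y = c}.ncard = n c) →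
      {y | y ∈ U ∧ f y ∈ C}.ncard = (C.map n).sum := by
  intro C
  induction C with
  | nil => intro _ _; simp
  | cons c C ih =>
    intro hnd hn
    rw [List.nodup_cons] at hnd
    have he : {y | y ∈ U ∧ f y ∈ c :: C} = {y | y ∈ U ∧ f y = c} ∪ {y | y ∈ U ∧ f y ∈ C} := by
      ext y
      show y ∈ U ∧ f y ∈ c :: C ↔ (y ∈ U ∧ f y = c) ∨ (y ∈ U ∧ f y ∈ C)
      rw [List.mem_cons, and_or_left]
    rw [List.map_cons, List.sum_cons, he, Set.ncard_union_eq ?_ (hU.subset fun y hy => hy.1)
      (hU.subset fun y hy => hy.1), hn c List.mem_cons_self,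
      ih hnd.2 fun d hd => hn d (List.mem_cons_of_mem _ hd)]
    rw [Set.disjoint_left]
    rintro y ⟨-, h1⟩ ⟨-, h2⟩
    exact hnd.1 (h1 ▸ h2)

theorem isCoatom_stabilizer_of_classes {G α : Type*} [Group G] [MulAction G α] (x : α) {U : Set α}
    (hU : MulAction.orbit G x = U) (hUfin : U.Finite) (f : α → ℕ) (cs : List ℕ) (n : ℕ → ℕ) {N : ℕ}
    (hnd : cs.Nodup) (hcs : ∀ y ∈ U, f y ∈ cs) (hN : U.ncard = N) (h1 : 1 < N)
    (hn : ∀ c ∈ cs, {y | y ∈ U ∧ f y = c}.ncard = n c)
    (htrans : ∀ y ∈ U, ∀ z ∈ U, f y = f z → ∃ h ∈ MulAction.stabilizer G x, h • y = z)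
    (hchk : ∀ C ∈ cs.sublists, f x ∈ C → N % (C.map n).sum = 0 →
      (C.map n).sum = 1 ∨ (C.map n).sum = N) :
    IsCoatom (MulAction.stabilizer G x) := by
  classical
  have hidx : (MulAction.stabilizer G x).index = N := by rw [MulAction.index_stabilizer, hU, hN]
  refine ⟨fun h => by rw [h, Subgroup.index_top] at hidx; omega, fun K hK => ?_⟩
  set T := MulAction.orbit K x with hT
  have hTU : T ⊆ U := by
    rintro _ ⟨g, rfl⟩
    rw [← hU]
    exact ⟨g.1, rfl⟩
  set C := cs.filter fun c => decide (∃ y ∈ T, f y = c) with hC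
  have hTC : T = {y | y ∈ U ∧ f y ∈ C} := by
    ext y
    simp only [hC, List.mem_filter, decide_eq_true_eq]
    constructor
    · exact fun hy => ⟨hTU hy, hcs y (hTU hy), y, hy, rfl⟩
    · rintro ⟨hy, -, z, hz, hzy⟩
      obtain ⟨h, hh, rfl⟩ := htrans z (hTU hz) y hy hzy
      obtain ⟨g, rfl⟩ := hz
      exact ⟨⟨h * g.1, mul_mem (hK.le hh) g.2⟩, mul_smul _ _ _⟩
  have hTn : T.ncard = (C.map n).sum := by
    rw [hTC]
    exact ncard_classes_sum hUfin f n C (hnd.filter _) fun c hc => hn c (List.mem_of_mem_filter hc)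
  have hrel : T.ncard = (MulAction.stabilizer G x).relIndex K := by
    have h1 : MulAction.stabilizer K x = (MulAction.stabilizer G x).subgroupOf K := by
      ext g
      rfl
    rw [Subgroup.relIndex, ← h1, MulAction.index_stabilizer]
  have hdvd : T.ncard ∣ N := by
    rw [hrel, ← hidx, ← Subgroup.relIndex_mul_index hK.le]
    exact dvd_mul_right _ _
  have hxC : f x ∈ C := by
    have : x ∈ T := ⟨1, one_smul _ _⟩
    rw [hTC] at this
    exact this.2
  rcases hchk C (List.mem_sublists.2 List.filter_sublist) hxC (Nat.mod_eq_zero_of_dvd (hTn ▸ hdvd)) with h | h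
  · exfalso
    rw [← hTn, hrel, Subgroup.relIndex_eq_one] at h
    exact hK.not_ge h
  · rw [← hTn, hrel] at h
    have h2 := Subgroup.relIndex_mul_index hK.le
    rw [h, hidx] at h2
    exact Subgroup.index_eq_one.1 (Nat.eq_of_mul_eq_mul_left (by omega : 0 < N) (h2.trans (mul_one N).symm))

theorem isCoatom_stabilizer_smul {G α : Type*} [Group G] [MulAction G α] {x : α} (g : G)
    (h : IsCoatom (MulAction.stabilizer G x)) : IsCoatom (MulAction.stabilizer G (g • x)) := by
  rw [MulAction.stabilizer_smul_eq_stabilizer_map_conj]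
  exact (MulEquiv.mapSubgroup (MulAut.conj g)).isCoatom_iff _ |>.2 h

end CfsgLib.Golay
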