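import Mathlib.Data.Nat.Notation

/-!
Orbit walks on quartets and on duads, and elements fixing three points of a dodecad.
-/

set_option autoImplicit false

namespace CfsgLib.Golay

/-- generators of the stabilizer of the dodecad -/
def quartGens : List ℕ := [188798265609131298055377932094266732, 101599232781705275198081669249991685, 217643510187515472581697336300843490]

/-- a walk -/
def quartW : List ℕ × ℕ × ℕ × ℕ :=
  ([8394752, 7, 560, 98312], 438, 0x301205801a4022c008168000b0896000c02580c04806500cb00240a00048065825000309801300a40b00060960140028a04b00000b00a0116006c20114004c02812c000b00260a00265800b08060940068128000a0116006102502580020032500c201844b0000500cb0114004c009a01844a0016006130814006102c040a2500034006cb0006102c040229801b00a0094800c005008a01025801804b00328008944a, 0xfffffffffffffffffffffffffffffffffffffffffffffffffffffff)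

/-- the base quartet -/
def quart0 : List ℕ := [8394752, 7, 560, 98312]

/-- generators of the stabilizer of a quartet -/
def qqGens : List ℕ := [973127918418686708732291768067854505, 401645292777490871775863431328270337, 26863124709284936207085016073086116]

/-- a walk -/
def qqW0 : List ℕ × ℕ × ℕ × ℕ :=
  ([8394752, 7, 560, 98312], 0, 0x0, 0x800000000000000000000000000000000000)

/-- a walk -/
def qqW1 : List ℕ × ℕ × ℕ × ℕ :=
  ([8454160, 7, 2568, 36896], 22, 0x6c0280603402049, 0x40100004040000700000000000000080000041080000080000)

/-- a walk -/
def qqW2 : List ℕ × ℕ × ℕ × ℕ :=
  ([8390672, 11, 4640, 98308], 52, 0x261300260301205200029801b01849000a049, 0x8880100000880400000085042061b00403200800000200020000003)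

/-- a walk -/
def qqW3 : List ℕ × ℕ × ℕ × ℕ :=
  ([8425472, 11, 2564, 65584], 142, 0x130126c00026014c02980184c06102806112800020530030902980130036100ca0180c04502500036c001360140308a002019449, 0x33522000e436001058606ad95b0a4f3a68928601c1a500c00208324)

/-- a walk -/
def qqW4 : List ℕ × ℕ × ℕ × ℕ :=
  ([8454656, 11, 4116, 34848], 214, 0x36c00ca6000d84c060a0180514c000360205301a6000d80c14c00d84814006034c009809201805128000261300301a6022980004980530036034800902500036c000a6100c060a2800c0480611449, 0x442dcbfe1b41bbafa7901022849400c1944571fe3a487f3dfd77cd8)

/-- generators fixing two points and a duad -/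
def duadGens : List ℕ := [959651214246497198509362100744488000, 969220586965854301228399304639022144, 972679049849814778609582601333213216]

/-- a walk -/
def duadW0 : List ℕ × ℕ × ℕ × ℕ :=
  ([6], 0, 0x0, 0x1)

/-- a walk -/
def duadW1 : List ℕ × ℕ × ℕ × ℕ :=
  ([40], 58, 0x961300160301a04a00300a6002c0650013003289, 0x24021001802180000c00c802014201018000500224010100000100100)

/-- a walk -/
def duadW2 : List ℕ × ℕ × ℕ × ℕ :=
  ([10], 78, 0xb08040960308040928000b0182802580180d30194006c00c1680449, 0xc0000c000180006000300030006001800c00c0180603030618cde)

/-- a walk -/
def duadW3 : List ℕ × ℕ × ℕ × ℕ :=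
  ([24], 318, 0x180ca6006100c204b0180894000182802580c04094c000a68001a6004012c144b00001b0812c00014032d800260a25801b0002580ca0004c92800006100812c14c00c200125800160a00340324a0004012c06012800c04580c960340001a6c000b4496000032580034d30030180ca00309960009b289, 0x7dbfd2ffe73de7e7ff39f37cdfe8dfe9e7e7fa3fd1be6f8fcfcf8e7220)

/-- elements fixing three points of the dodecad, carrying a point outside to every other -/
def threeGens : List ℕ := [984818244535754528103549039458486304, 636803592730960518728139575259138080, 191655080657721609818884470928934944, 674447863350972242455556835125594144, 486073779993727295785104656607348768, 479539966697379831563923867680475168, 392568876102998002175655044702111776, 150108100993198697917657114123307040, 509683897186675526072747839173265440, 175593007137152087950620578870888480, 977703716303616298646717701265950752, 216357873600481717532560151321610272]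

/-- three points of the dodecad -/
def threePts : List ℕ := [0, 1, 2]

end CfsgLib.Golay
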