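import Cfsg.Agent.Lib.Golay.Systems.Orbits
import Cfsg.Agent.Lib.Golay.Systems.DuadData
import Cfsg.Agent.Lib.Golay.Systems.QuartetWalks
import Cfsg.Agent.Lib.Golay.CodeLists

/-!
Kernel checks of the duads avoiding two points.
-/

set_option autoImplicit false
-- the checks run one after another, which keeps the peak memory low
set_option Elab.async false
set_option maxRecDepth 20000

namespace CfsgLib.Golay

/-- the octads through the two points and the base duad -/
def octBase : List ℕ := [8536111, 8657159, 9471495, 11010247, 12656663]

/-- the class of a duad against the base duad -/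
def duadKey (m : ℕ) : ℕ :=
  2 * pop 24 (m &&& 6) + if octBase.any (fun o => o &&& m == m) then 1 else 0

/-- the class of a one-element system -/
def duadSel (c : ℕ) (u : List ℕ) : Bool := u.all fun m => duadKey m == c

theorem octBase_eq : (octLit.filter fun o => o &&& 8388615 == 8388615).Perm octBase := by decide +kernel

theorem duadTree_ok : duadTree.ok 231 = true := by decide +kernel

theorem duadTree_items : duadTree.items.all (fun e => e.1.length == 1 &&
    e.1.all fun m => pop 24 m == 2 && !m.testBit 23 && !m.testBit 0) = true := by decide +kernel

theorem duadTree_cover : (List.range 23).all (fun i => i == 0 || (List.range i).all fun j =>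
    j == 0 || (duadTree.find [2 ^ i ||| 2 ^ j]).isSome) = true := by decide +kernel

theorem duad_gens : refsOK [[8388608], [1], [6]] duadGens = true := by decide +kernel

theorem duad_walks : coverOK duadTree duadGens duadW0 (duadSel 5) = true ∧
    coverOK duadTree duadGens duadW1 (duadSel 1) = true ∧
    coverOK duadTree duadGens duadW2 (duadSel 3) = true ∧
    coverOK duadTree duadGens duadW3 (duadSel 0) = true := by decide +kernel

theorem duad_counts : duadTree.objs.countP (duadSel 1) = 30 ∧
    duadTree.objs.countP (duadSel 0) = 160 ∧
    duadTree.objs.all (fun u => duadSel 0 u || duadSel 1 u || duadSel 3 u || duadSel 5 u) = true := by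
  decide +kernel

end CfsgLib.Golay
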