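import Cfsg.Agent.Lib.Golay.Systems.DuadChecks
import Cfsg.Agent.Lib.Golay.Systems.Families

/-!
The stabilizer of two points and a duad on the other duads.
-/

set_option autoImplicit false
set_option maxRecDepth 20000

namespace CfsgLib.Golay

open Cfsg
open scoped Pointwise

attribute [local irreducible] trioTree sextTree duadTree

/-- a duad avoiding the two points -/
def DuadOff (p q : GolayPt) (t : Finset GolayPt) : Prop := t.card = 2 ∧ p ∉ t ∧ q ∉ t

/-- some octad holds the two points and both duads -/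
def InHexad (p q : GolayPt) (s t : Finset GolayPt) : Prop :=
  ∃ o ∈ octads, p ∈ o ∧ q ∈ o ∧ s ∪ t ⊆ o

theorem duadOff_smul {g : Equiv.Perm GolayPt} {p q : GolayPt} {t : Finset GolayPt} :
    DuadOff (g p) (g q) (g • t) ↔ DuadOff p q t := by
  simp only [DuadOff, Finset.card_smul_finset, mem_smul_iff]

theorem inHexad_smul_of {g : Equiv.Perm GolayPt} (hg : g ∈ M24) {p q : GolayPt} {s t : Finset GolayPt}
    (h : InHexad p q s t) : InHexad (g p) (g q) (g • s) (g • t) := by
  obtain ⟨o, ho, hp, hq, hst⟩ := h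
  exact ⟨g • o, smul_mem_octads hg ho, (mem_smul_iff g p o).2 hp, (mem_smul_iff g q o).2 hq,
    by rw [← Finset.smul_finset_union]; exact Finset.smul_finset_subset_smul_finset hst⟩

theorem inHexad_smul {g : Equiv.Perm GolayPt} (hg : g ∈ M24) {p q : GolayPt} {s t : Finset GolayPt} :
    InHexad (g p) (g q) (g • s) (g • t) ↔ InHexad p q s t := by
  refine ⟨fun h => ?_, inHexad_smul_of hg⟩
  have := inHexad_smul_of (inv_mem hg) h
  have e : ∀ x : GolayPt, g⁻¹ (g x) = x := fun x => by rw [Equiv.Perm.inv_eq_iff_eq]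
  rwa [e, e, inv_smul_smul, inv_smul_smul] at this

theorem duad_listed {t : Finset GolayPt} :
    DuadOff (pt 23) (pt 0) t ↔ ∃ u ∈ duadTree.objs, objF u = {t} := by
  constructor
  · rintro ⟨h2, hp, hq⟩
    obtain ⟨a, b, hab, rfl⟩ := Finset.card_eq_two.1 h2
    simp only [Finset.mem_insert, Finset.mem_singleton, not_or] at hp hq
    have bound : ∀ {x : GolayPt}, pt 23 ≠ x → pt 0 ≠ x → idx x < 23 ∧ idx x ≠ 0 := by
      intro x h1 h2
      have := idx_lt x
      constructor
      · by_contra h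
        exact h1 (by rw [← pt_idx x, show idx x = 23 by omega])
      · exact fun h => h2 (by rw [← pt_idx x, h])
    have hne : idx a ≠ idx b := fun e => hab (idx_injective e)
    obtain ⟨i, j, hij, hi, hj, he⟩ : ∃ i j, j < i ∧ (i < 23 ∧ i ≠ 0) ∧ j ≠ 0 ∧
        ({pt i, pt j} : Finset GolayPt) = {a, b} := by
      rcases Nat.lt_or_gt_of_ne hne with h | h
      · exact ⟨idx b, idx a, h, bound hp.2 hq.2, (bound hp.1 hq.1).2,
          by rw [pt_idx, pt_idx, Finset.pair_comm]⟩
      · exact ⟨idx a, idx b, h, bound hp.1 hq.1, (bound hp.2 hq.2).2, by rw [pt_idx, pt_idx]⟩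
    have hc := duadTree_cover
    simp only [List.all_eq_true, List.mem_range, Bool.or_eq_true, beq_iff_eq] at hc
    obtain ⟨u, hu, hue⟩ := find_mem ((((hc i hi.1).resolve_left hi.2) j hij).resolve_left hj)
    refine ⟨u, hu, ?_⟩
    rw [hue, objF_singleton, ← he, dec_or, dec_two_pow (by omega : i < 24), dec_two_pow (by omega : j < 24)]
    simp
  · rintro ⟨u, hu, he⟩
    obtain ⟨e, he', rfl⟩ := List.mem_map.1 hu
    have h := List.all_eq_true.1 duadTree_items e he'
    simp only [Bool.and_eq_true, beq_iff_eq, List.all_eq_true, Bool.not_eq_true'] at h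
    obtain ⟨m, hm⟩ := List.length_eq_one_iff.1 h.1
    rw [hm, objF_singleton] at he
    obtain rfl := Finset.singleton_injective he
    obtain ⟨⟨h2, h23⟩, h0⟩ := h.2 m (by simp [hm])
    refine ⟨by rw [card_dec_eq_pop, h2], ?_, ?_⟩
    · simp [mem_dec, idx_pt, h23]
    · simp [mem_dec, idx_pt, h0]

theorem inHexad_base {m : ℕ} (hm : m < 2 ^ 24) :
    InHexad (pt 23) (pt 0) (dec 6) (dec m) ↔ octBase.any (fun o => o &&& m == m) = true := by
  have hsub : ∀ a b : ℕ, b < 2 ^ 24 → dec b ⊆ dec a → a &&& b = b := by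
    intro a b hb h
    refine dec_inj (lt_of_le_of_lt Nat.and_le_right hb) hb ?_
    rw [dec_and, Finset.inter_eq_right.2 h]
  simp only [List.any_eq_true, beq_iff_eq]
  have hb : (8388615 : ℕ) = 2 ^ 23 ||| 2 ^ 0 ||| 6 := by decide
  constructor
  · rintro ⟨o, ho, hp, hq, hst⟩
    obtain ⟨om, hom, -, rfl⟩ := octad_mask ho
    obtain ⟨h1, h2⟩ := Finset.union_subset_iff.1 hst
    refine ⟨om, ?_, ?_⟩
    · refine (octBase_eq.mem_iff).1 (List.mem_filter.2 ⟨hom, ?_⟩)
      rw [beq_iff_eq]
      refine hsub _ _ (by norm_num) ?_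
      rw [hb, dec_or, dec_or, dec_two_pow (by norm_num : 23 < 24), dec_two_pow (by norm_num : 0 < 24)]
      exact Finset.union_subset (Finset.union_subset (by simpa using hp) (by simpa using hq)) h1
    · exact hsub _ _ hm h2
  · rintro ⟨o, ho, hom⟩
    obtain ⟨hoct, hb'⟩ := List.mem_filter.1 ((octBase_eq.mem_iff).2 ho)
    rw [beq_iff_eq] at hb'
    obtain ⟨hc, h8⟩ := mem_octLit_iff.1 hoct
    have hsub' : ∀ a b : ℕ, a &&& b = b → dec b ⊆ dec a := fun a b h p hp => by
      rw [← h, dec_and] at hp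
      exact (Finset.mem_inter.1 hp).1
    have := hsub' _ _ hb'
    rw [hb, dec_or, dec_or, dec_two_pow (by norm_num : 23 < 24), dec_two_pow (by norm_num : 0 < 24)] at this
    obtain ⟨h1, h3⟩ := Finset.union_subset_iff.1 this
    obtain ⟨h1, h2⟩ := Finset.union_subset_iff.1 h1
    exact ⟨dec o, dec_mem_octads (inC_iff_mem_codeList.2 hc) h8, by simpa using h1, by simpa using h2,
      Finset.union_subset h3 (hsub' _ _ hom)⟩

open Classical in
/-- the class of a duad against `s` -/
noncomputable def duadClass (p q : GolayPt) (s t : Finset GolayPt) : ℕ :=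
  2 * (s ∩ t).card + if InHexad p q s t then 1 else 0

theorem duadClass_dec {m : ℕ} (hm : m < 2 ^ 24) :
    duadClass (pt 23) (pt 0) (dec 6) (dec m) = duadKey m := by
  classical
  rw [duadClass, duadKey, card_inter_dec, Nat.and_comm 6 m]
  congr 1
  exact if_congr (inHexad_base hm) rfl rfl

theorem duadClass_smul {g : Equiv.Perm GolayPt} (hg : g ∈ M24) (p q : GolayPt) (s t : Finset GolayPt) :
    duadClass (g p) (g q) (g • s) (g • t) = duadClass p q s t := by
  classical
  rw [duadClass, duadClass, smul_card_inter]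
  congr 1
  exact if_congr (inHexad_smul hg) rfl rfl

theorem singleton_of_objs {u : List ℕ} (hu : u ∈ duadTree.objs) :
    ∃ m, u = [m] ∧ m < 2 ^ 24 := by
  have hlt := STree.objs_lt hu
  obtain ⟨e, he, rfl⟩ := List.mem_map.1 hu
  have h := List.all_eq_true.1 duadTree_items e he
  simp only [Bool.and_eq_true, beq_iff_eq] at h
  obtain ⟨m, hm⟩ := List.length_eq_one_iff.1 h.1
  exact ⟨m, hm, hlt m (by simp [hm])⟩

theorem base_mask {t : Finset GolayPt} (ht : DuadOff (pt 23) (pt 0) t) :
    ∃ u ∈ duadTree.objs, objF u = {t} ∧ ∀ c, duadSel c u = true ↔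
      duadClass (pt 23) (pt 0) (dec 6) t = c := by
  obtain ⟨u, hu, he⟩ := duad_listed.1 ht
  obtain ⟨m, rfl, hm⟩ := singleton_of_objs hu
  have : t = dec m := by
    rw [objF_singleton] at he
    exact (Finset.singleton_injective he).symm
  subst this
  exact ⟨[m], hu, he, fun c => by simp [duadSel, duadClass_dec hm]⟩

theorem base_trans {t t' : Finset GolayPt} (ht : DuadOff (pt 23) (pt 0) t)
    (ht' : DuadOff (pt 23) (pt 0) t')
    (hc : duadClass (pt 23) (pt 0) (dec 6) t = duadClass (pt 23) (pt 0) (dec 6) t') :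
    ∃ g ∈ M24, g (pt 23) = pt 23 ∧ g (pt 0) = pt 0 ∧ g • dec 6 = dec 6 ∧ g • t = t' := by
  obtain ⟨u, hu, hue, hus⟩ := base_mask ht
  obtain ⟨v, hv, hve, hvs⟩ := base_mask ht'
  have key : ∀ {c : ℕ} {w : List ℕ × ℕ × ℕ × ℕ}, coverOK duadTree duadGens w (duadSel c) = true →
      duadSel c u = true → ∃ g ∈ M24, g (pt 23) = pt 23 ∧ g (pt 0) = pt 0 ∧ g • dec 6 = dec 6 ∧ g • t = t' := by
    intro c w hw hsu
    have hsv : duadSel c v = true := (hvs c).2 (hc.symm.trans ((hus c).1 hsu))
    obtain ⟨a, ha, hau⟩ := exists_of_coverOK duadTree_ok (refsOK_mem duad_gens) hw hu hsu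
    obtain ⟨b, hb, hbv⟩ := exists_of_coverOK duadTree_ok (refsOK_mem duad_gens) hw hv hsv
    obtain ⟨hM, hR⟩ := mem_fixRefs.1 (mul_mem hb (inv_mem ha))
    have single : ∀ m ∈ [8388608, 1, 6], (b * a⁻¹) • dec m = dec m := by
      intro m hm
      have := hR [m] (by simpa using hm)
      rw [objF_singleton, Finset.smul_finset_singleton] at this
      exact Finset.singleton_injective this
    have fixpt : ∀ i, i < 24 → (b * a⁻¹) • dec (2 ^ i) = dec (2 ^ i) → (b * a⁻¹) (pt i) = pt i := by
      intro i hi h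
      rw [dec_two_pow hi, Finset.smul_finset_singleton] at h
      exact Finset.singleton_injective h
    refine ⟨b * a⁻¹, hM, fixpt 23 (by norm_num) (single _ (by simp)), fixpt 0 (by norm_num) (single _ (by simp)),
      single 6 (by simp), ?_⟩
    have : (b * a⁻¹) • objF u = objF v := by rw [mul_smul, ← hau, inv_smul_smul, hbv]
    rw [hue, hve, Finset.smul_finset_singleton] at this
    exact Finset.singleton_injective this
  have hall := List.all_eq_true.1 duad_counts.2.2 u hu
  simp only [Bool.or_eq_true] at hall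
  obtain ⟨w5, w1, w3, w0⟩ := duad_walks
  rcases hall with ((h | h) | h) | h
  exacts [key w0 h, key w1 h, key w3 h, key w5 h]

theorem base_ncard (c : ℕ) :
    {t | DuadOff (pt 23) (pt 0) t ∧ duadClass (pt 23) (pt 0) (dec 6) t = c}.ncard =
      duadTree.objs.countP (duadSel c) := by
  have he : (fun t : Finset GolayPt => ({t} : Finset (Finset GolayPt))) ''
      {t | DuadOff (pt 23) (pt 0) t ∧ duadClass (pt 23) (pt 0) (dec 6) t = c} =
      objF '' {u | u ∈ duadTree.objs.filter (duadSel c)} := by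
    ext X
    simp only [Set.mem_image, Set.mem_setOf_eq, List.mem_filter]
    constructor
    · rintro ⟨t, ⟨ht, hc⟩, rfl⟩
      obtain ⟨u, hu, hue, hus⟩ := base_mask ht
      exact ⟨u, ⟨hu, (hus c).2 hc⟩, hue⟩
    · rintro ⟨u, ⟨hu, hs⟩, rfl⟩
      obtain ⟨m, rfl, hm⟩ := singleton_of_objs hu
      have ht : DuadOff (pt 23) (pt 0) (dec m) := duad_listed.2 ⟨[m], hu, objF_singleton m⟩
      exact ⟨dec m, ⟨ht, by simpa [duadSel, duadClass_dec hm] using hs⟩, (objF_singleton m).symm⟩
  rw [← Set.ncard_image_of_injective _ Finset.singleton_injective, he,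
    Set.InjOn.ncard_image (s := {u | u ∈ duadTree.objs.filter (duadSel c)}) fun a ha b hb e =>
      STree.objF_inj duadTree_ok (List.mem_filter.1 ha).1 (List.mem_filter.1 hb).1 e,
    List.countP_eq_length_filter,
    ← List.toFinset_card_of_nodup ((STree.objs_nodup duadTree_ok).filter _), ← Set.ncard_coe_finset]
  congr 1
  ext u
  simp

theorem exists_map_base_duad {p q : GolayPt} {s : Finset GolayPt} (hpq : p ≠ q) (hs : DuadOff p q s) :
    ∃ g ∈ M24, g (pt 23) = p ∧ g (pt 0) = q ∧ g • dec 6 = s := by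
  obtain ⟨hs2, hp, hq⟩ := hs
  obtain ⟨a, b, hab, rfl⟩ := Finset.card_eq_two.1 hs2
  simp only [Finset.mem_insert, Finset.mem_singleton, not_or] at hp hq
  obtain ⟨e, he⟩ : ∃ e : GolayPt, e ∉ [p, q, a, b] := by
    by_contra h
    push Not at h
    have : (Finset.univ : Finset GolayPt) ⊆ [p, q, a, b].toFinset :=
      fun x _ => List.mem_toFinset.2 (h x)
    have := (Finset.card_le_card this).trans (List.toFinset_card_le _)
    simp at this
  simp only [List.mem_cons, List.not_mem_nil, or_false, not_or] at he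
  obtain ⟨g, hg, hgl⟩ := exists_map_base5 [p, q, a, b, e] rfl (by
    simp [hpq, hp.1, hp.2, hq.1, hq.2, hab, Ne.symm he.1, Ne.symm he.2.1,
      Ne.symm he.2.2.1, Ne.symm he.2.2.2])
  simp only [base5, List.map_cons, List.map_nil, List.cons.injEq, and_true] at hgl
  obtain ⟨g1, g2, g3, g4, -⟩ := hgl
  refine ⟨g, hg, g1, g2, ?_⟩
  rw [show dec 6 = {pt 1, pt 2} by decide +kernel, Finset.smul_finset_insert, Finset.smul_finset_singleton,
    Equiv.Perm.smul_def, Equiv.Perm.smul_def, g3, g4]

theorem ncard_duadClass {p q : GolayPt} {s : Finset GolayPt} (hpq : p ≠ q) (hs : DuadOff p q s) (c : ℕ) :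
    {t | DuadOff p q t ∧ duadClass p q s t = c}.ncard = duadTree.objs.countP (duadSel c) := by
  obtain ⟨g, hg, rfl, rfl, rfl⟩ := exists_map_base_duad hpq hs
  rw [← base_ncard c,
    ← Set.ncard_image_of_injective
      {t | DuadOff (pt 23) (pt 0) t ∧ duadClass (pt 23) (pt 0) (dec 6) t = c} (MulAction.injective g)]
  congr 1
  ext t
  simp only [Set.mem_setOf_eq, Set.mem_image]
  constructor
  · intro h
    obtain ⟨t, rfl⟩ := MulAction.surjective g t
    rw [duadOff_smul, duadClass_smul hg] at h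
    exact ⟨t, h, rfl⟩
  · rintro ⟨t, h, rfl⟩
    rw [duadOff_smul, duadClass_smul hg]
    exact h

theorem duad_rank_four {p q : GolayPt} {s : Finset GolayPt} (hpq : p ≠ q) (hs : DuadOff p q s) :
    {t | DuadOff p q t ∧ Disjoint s t ∧ InHexad p q s t}.ncard = 30 ∧
    {t | DuadOff p q t ∧ Disjoint s t ∧ ¬ InHexad p q s t}.ncard = 160 ∧
    ∀ t t', DuadOff p q t → DuadOff p q t' → (s ∩ t).card = (s ∩ t').card →
      (InHexad p q s t ↔ InHexad p q s t') →
      ∃ g : Equiv.Perm GolayPt, g ∈ M24 ∧ g p = p ∧ g q = q ∧ g • s = s ∧ g • t = t' := by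
  classical
  refine ⟨?_, ?_, fun t t' ht ht' hi hh => ?_⟩
  · rw [← duad_counts.1, ← ncard_duadClass hpq hs]
    congr 1
    ext t
    simp only [Set.mem_setOf_eq, duadClass, Finset.disjoint_iff_inter_eq_empty, ← Finset.card_eq_zero]
    by_cases h : InHexad p q s t <;> simp [h]
  · rw [← duad_counts.2.1, ← ncard_duadClass hpq hs]
    congr 1
    ext t
    simp only [Set.mem_setOf_eq, duadClass, Finset.disjoint_iff_inter_eq_empty, ← Finset.card_eq_zero]
    by_cases h : InHexad p q s t <;> simp [h]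
  · obtain ⟨g, hg, rfl, rfl, rfl⟩ := exists_map_base_duad hpq hs
    obtain ⟨t, rfl⟩ := MulAction.surjective g t
    obtain ⟨t', rfl⟩ := MulAction.surjective g t'
    rw [duadOff_smul] at ht ht'
    rw [smul_card_inter, smul_card_inter] at hi
    rw [inHexad_smul hg, inHexad_smul hg] at hh
    obtain ⟨k, hk, k1, k2, ks, kt⟩ := base_trans ht ht'
      (by simp only [duadClass, hi]; congr 1; exact if_congr hh rfl rfl)
    refine ⟨g * k * g⁻¹, mul_mem (mul_mem hg hk) (inv_mem hg), conj_point rfl k1, conj_point rfl k2,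
      conj_set rfl rfl ks, conj_set rfl rfl kt⟩

end CfsgLib.Golay
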