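import Cfsg.Agent.Lib.Golay.OrbitFacts

/-!
Certified orbits on systems of point sets: an orbit is a spanning tree walked through packed systems,
which are looked up in a search tree of the whole family.
-/

set_option autoImplicit false
set_option maxRecDepth 10000

namespace CfsgLib.Golay

open Cfsg
open scoped Pointwise

/-- the masks packed into one number -/
def unp : ℕ → ℕ → List ℕ
  | 0, _ => []
  | n + 1, k => if k = 0 then [] else (k &&& 16777215) :: unp n (k >>> 24)

/-- a search tree of packed systems -/
inductive STree where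
  | leaf
  | node (l : STree) (code : ℕ) (obj : ℕ) (idx : ℕ) (r : STree)

/-- symmetric code of a list of masks -/
def sqCode : List ℕ → ℕ
  | [] => 0
  | m :: ms => m * m + sqCode ms

/-- equality as sets -/
def setEq (a b : List ℕ) : Bool := a.all (fun m => b.contains m) && b.all fun m => a.contains m

/-- lookup with the code already computed -/
def STree.findC : STree → ℕ → List ℕ → Option ℕ
  | .leaf, _, _ => none
  | .node l c o i r, k, v =>
    if k < c then l.findC k v else if c < k then r.findC k v else
      if setEq v (unp 12 o) then some i else none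

/-- lookup -/
def STree.find (t : STree) (v : List ℕ) : Option ℕ := t.findC (sqCode v) v

/-- the systems with their positions, in order -/
def STree.items : STree → List (List ℕ × ℕ)
  | .leaf => []
  | .node l _ o i r => l.items ++ (unp 12 o, i) :: r.items

/-- the systems in order -/
def STree.objs (t : STree) : List (List ℕ) := t.items.map fun e => e.1

/-- the point sets of a list of masks -/
def objF (l : List ℕ) : Finset (Finset GolayPt) := (l.map dec).toFinset

/-- checks of a tree with `n` systems -/
def STree.ok (t : STree) (n : ℕ) : Bool :=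
  t.items.map (fun e => e.2) == List.range n &&
    t.items.all fun e => decide e.1.Nodup && t.find e.1 == some e.2

/-- the positions met by a walk -/
def walkS (gens : List ℕ) (t : STree) : ℕ → ℕ → List (List ℕ) → ℕ → Option ℕ
  | 0, _, _, acc => some acc
  | _ + 1, _, [], acc => some acc
  | n + 1, c, v :: st, acc =>
    if c &&& 7 = 0 then walkS gens t n (c >>> 3) st acc
    else
      if (c &&& 7) - 1 < gens.length then
        let P := gens.getD ((c &&& 7) - 1) 0
        let v' := v.map fun m => mimgB 24 m P
        match t.find v' with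
        | none => none
        | some i => walkS gens t n (c >>> 3) (v' :: v :: st) (acc ||| (1 <<< i))
      else none

/-- a walk covers the selected systems -/
def coverOK (t : STree) (gens : List ℕ) (w : List ℕ × ℕ × ℕ × ℕ) (sel : List ℕ → Bool) : Bool :=
  (match t.find w.1 with
    | none => false
    | some i => walkS gens t w.2.1 w.2.2.1 [w.1] (1 <<< i) == some w.2.2.2) &&
    t.items.all fun e => !sel e.1 || w.2.2.2.testBit e.2

theorem unp_lt : ∀ n k, ∀ m ∈ unp n k, m < 2 ^ 24 := by
  intro n
  induction n with
  | zero => intro k m hm; simp [unp] at hm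
  | succ n ih =>
    intro k m hm
    rw [unp] at hm
    split at hm
    · simp at hm
    · rcases List.mem_cons.1 hm with rfl | hm
      · exact lt_of_le_of_lt Nat.and_le_right (by norm_num)
      · exact ih _ m hm

theorem STree.items_lt : ∀ (t : STree), ∀ e ∈ t.items, ∀ m ∈ e.1, m < 2 ^ 24 := by
  intro t
  induction t with
  | leaf => intro e he; simp [STree.items] at he
  | node l c o i r ihl ihr =>
    intro e he
    simp only [STree.items, List.mem_append, List.mem_cons] at he
    rcases he with he | rfl | he
    · exact ihl e he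
    · exact unp_lt _ _
    · exact ihr e he

theorem setEq_objF {a b : List ℕ} (h : setEq a b = true) : objF a = objF b := by
  simp only [setEq, Bool.and_eq_true, List.all_eq_true, List.contains_iff_mem] at h
  ext s
  simp only [objF, List.mem_toFinset, List.mem_map]
  constructor
  · rintro ⟨m, hm, rfl⟩; exact ⟨m, h.1 m hm, rfl⟩
  · rintro ⟨m, hm, rfl⟩; exact ⟨m, h.2 m hm, rfl⟩

theorem STree.findC_some : ∀ (t : STree) (k : ℕ) (v : List ℕ) (i : ℕ), t.findC k v = some i →
    ∃ u, (u, i) ∈ t.items ∧ objF v = objF u := by
  intro t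
  induction t with
  | leaf => intro k v i h; simp [STree.findC] at h
  | node l c o j r ihl ihr =>
    intro k v i h
    rw [STree.findC] at h
    split at h
    · obtain ⟨u, hu, e⟩ := ihl k v i h
      exact ⟨u, by simp [STree.items, hu], e⟩
    · split at h
      · obtain ⟨u, hu, e⟩ := ihr k v i h
        exact ⟨u, by simp [STree.items, hu], e⟩
      · split at h
        · next hs =>
          cases h
          exact ⟨_, by simp [STree.items], setEq_objF hs⟩
        · exact absurd h (by simp)

theorem STree.findC_congr : ∀ (t : STree) (k : ℕ) (v v' : List ℕ), (∀ m, m ∈ v ↔ m ∈ v') →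
    t.findC k v = t.findC k v' := by
  intro t
  induction t with
  | leaf => intro k v v' _; rfl
  | node l c o j r ihl ihr =>
    intro k v v' h
    have : setEq v (unp 12 o) = setEq v' (unp 12 o) := by
      rw [Bool.eq_iff_iff]
      simp [setEq, h]
    rw [STree.findC, STree.findC, ihl k v v' h, ihr k v v' h, this]

theorem dec_inj_list {l : List ℕ} (hl : ∀ m ∈ l, m < 2 ^ 24) :
    ∀ a ∈ l, ∀ b ∈ l, dec a = dec b → a = b := fun a ha b hb e => dec_inj (hl a ha) (hl b hb) e

theorem STree.objs_lt {t : STree} {u : List ℕ} (hu : u ∈ t.objs) : ∀ m ∈ u, m < 2 ^ 24 := by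
  obtain ⟨e, he, rfl⟩ := List.mem_map.1 hu
  exact t.items_lt e he

variable {t : STree} {n : ℕ}

theorem STree.ok_find (h : t.ok n = true) {e : List ℕ × ℕ} (he : e ∈ t.items) :
    t.find e.1 = some e.2 ∧ e.1.Nodup := by
  simp only [STree.ok, Bool.and_eq_true, List.all_eq_true, decide_eq_true_eq, beq_iff_eq] at h
  exact ⟨(h.2 e he).2, (h.2 e he).1⟩

theorem STree.idx_inj (h : t.ok n = true) {a b : List ℕ} {i : ℕ} (ha : (a, i) ∈ t.items)
    (hb : (b, i) ∈ t.items) : a = b := by
  simp only [STree.ok, Bool.and_eq_true, beq_iff_eq] at h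
  have hnd : (t.items.map fun e => e.2).Nodup := h.1 ▸ List.nodup_range
  exact congrArg Prod.fst (List.inj_on_of_nodup_map hnd ha hb rfl)

theorem STree.objs_nodup (h : t.ok n = true) : t.objs.Nodup := by
  have h' := h
  simp only [STree.ok, Bool.and_eq_true, beq_iff_eq] at h'
  have hnd : (t.items.map fun e => e.2).Nodup := h'.1 ▸ List.nodup_range
  rw [STree.objs, List.nodup_map_iff_inj_on (List.Nodup.of_map _ hnd)]
  intro a ha b hb e
  have ea := (STree.ok_find h ha).1
  have eb := (STree.ok_find h hb).1
  rw [e, eb] at ea
  exact Prod.ext e (Option.some_injective _ ea.symm)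

theorem STree.objF_inj (h : t.ok n = true) {u v : List ℕ} (hu : u ∈ t.objs) (hv : v ∈ t.objs)
    (e : objF u = objF v) : u = v := by
  obtain ⟨⟨u', i⟩, hi, rfl⟩ := List.mem_map.1 hu
  obtain ⟨⟨v', j⟩, hj, rfl⟩ := List.mem_map.1 hv
  have hmem : ∀ m, m ∈ u' ↔ m ∈ v' := by
    intro m
    have hm : ∀ s, s ∈ objF u' ↔ s ∈ objF v' := fun s => by rw [e]
    constructor
    · intro hm'
      have := (hm (dec m)).1 (by simp only [objF, List.mem_toFinset]; exact List.mem_map_of_mem hm')
      simp only [objF, List.mem_toFinset, List.mem_map] at this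
      obtain ⟨m', hm'', e'⟩ := this
      rwa [← dec_inj (t.items_lt _ hj m' hm'') (t.items_lt _ hi m hm') e']
    · intro hm'
      have := (hm (dec m)).2 (by simp only [objF, List.mem_toFinset]; exact List.mem_map_of_mem hm')
      simp only [objF, List.mem_toFinset, List.mem_map] at this
      obtain ⟨m', hm'', e'⟩ := this
      rwa [← dec_inj (t.items_lt _ hi m' hm'') (t.items_lt _ hj m hm') e']
  have hp : u'.Perm v' :=
    (List.perm_ext_iff_of_nodup (STree.ok_find h hi).2 (STree.ok_find h hj).2).2 hmem
  have hcode : ∀ {a b : List ℕ}, a.Perm b → sqCode a = sqCode b := by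
    intro a b hab
    induction hab with
    | nil => rfl
    | cons x _ ih => simp [sqCode, ih]
    | swap x y l => simp [sqCode]; ring
    | trans _ _ ih1 ih2 => exact ih1.trans ih2
  have ea := (STree.ok_find h hi).1
  have eb := (STree.ok_find h hj).1
  simp only [STree.find] at ea eb
  rw [hcode hp, t.findC_congr _ _ _ hmem, eb] at ea
  exact STree.idx_inj h hi (by simpa using (Option.some_injective _ ea) ▸ hj)

theorem smul_objF {P : ℕ} (h : validP P = true) (l : List ℕ) :
    toPerm P • objF l = objF (l.map fun m => mimgB 24 m P) := by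
  ext s
  simp only [Finset.mem_smul_finset, objF, List.mem_toFinset, List.mem_map, List.map_map,
    Function.comp_apply, mimgB_eq]
  constructor
  · rintro ⟨_, ⟨m, hm, rfl⟩, rfl⟩
    exact ⟨m, hm, (smul_dec h m).symm⟩
  · rintro ⟨m, hm, rfl⟩
    exact ⟨dec m, ⟨m, hm, rfl⟩, smul_dec h m⟩

theorem walkS_sound {H : Subgroup (Equiv.Perm GolayPt)} {gens : List ℕ} {x : Finset (Finset GolayPt)}
    (hgens : ∀ P ∈ gens, validP P = true ∧ toPerm P ∈ H) :
    ∀ n c st acc r, walkS gens t n c st acc = some r →
      (∀ v ∈ st, ∃ g ∈ H, g • x = objF v) →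
      (∀ i, acc.testBit i = true → ∃ u, (u, i) ∈ t.items ∧ ∃ g ∈ H, g • x = objF u) →
      ∀ i, r.testBit i = true → ∃ u, (u, i) ∈ t.items ∧ ∃ g ∈ H, g • x = objF u := by
  intro n
  induction n with
  | zero =>
    intro c st acc r h _ hacc
    simp only [walkS, Option.some.injEq] at h
    exact h ▸ hacc
  | succ n ih =>
    intro c st acc r h hst hacc
    cases st with
    | nil => simp only [walkS, Option.some.injEq] at h; exact h ▸ hacc
    | cons v st =>
      simp only [List.mem_cons, forall_eq_or_imp] at hst
      rw [walkS] at h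
      split at h
      · exact ih _ _ _ _ h hst.2 hacc
      · split at h
        · next hlt =>
          dsimp only at h
          set P := gens.getD ((c &&& 7) - 1) 0 with hP
          have hmem : P ∈ gens := by
            rw [hP, List.getD_eq_getElem _ _ hlt]; exact List.getElem_mem hlt
          split at h
          · exact absurd h (by simp)
          · next i hi =>
            obtain ⟨g, hg, hgx⟩ := hst.1
            have hv : toPerm P * g ∈ H ∧ (toPerm P * g) • x = objF (v.map fun m => mimgB 24 m P) :=
              ⟨H.mul_mem (hgens P hmem).2 hg, by rw [mul_smul, hgx, smul_objF (hgens P hmem).1]⟩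
            refine ih _ _ _ _ h ?_ fun j hj => ?_
            · simp only [List.mem_cons, forall_eq_or_imp]
              exact ⟨⟨_, hv⟩, hst.1, hst.2⟩
            · rw [Nat.testBit_or, Bool.or_eq_true, Nat.one_shiftLeft, Nat.testBit_two_pow,
                decide_eq_true_eq] at hj
              rcases hj with hj | hj
              · exact hacc j hj
              · subst hj
                obtain ⟨u, hu, e⟩ := STree.findC_some t _ _ _ hi
                exact ⟨u, hu, _, hv.1, hv.2.trans e⟩
        · exact absurd h (by simp)

theorem exists_of_coverOK (ht : t.ok n = true) {H : Subgroup (Equiv.Perm GolayPt)} {gens : List ℕ}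
    (hgens : ∀ P ∈ gens, validP P = true ∧ toPerm P ∈ H) {w : List ℕ × ℕ × ℕ × ℕ}
    {sel : List ℕ → Bool} (h : coverOK t gens w sel = true) {u : List ℕ} (hu : u ∈ t.objs)
    (hs : sel u = true) : ∃ g ∈ H, g • objF w.1 = objF u := by
  obtain ⟨⟨u, i⟩, hi, rfl⟩ := List.mem_map.1 hu
  simp only [coverOK, Bool.and_eq_true, List.all_eq_true] at h
  obtain ⟨hw, hcov⟩ := h
  have hbit := hcov _ hi
  simp only at hs hbit
  rw [hs] at hbit
  cases hf : t.find w.1 with
  | none => rw [hf] at hw; simp at hw
  | some j =>
    rw [hf] at hw
    simp only [beq_iff_eq] at hw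
    obtain ⟨u', hu', g, hg, hgx⟩ := walkS_sound hgens _ _ _ _ _ hw
      (x := objF w.1) (fun v hv => ⟨1, one_mem _, by rw [List.mem_singleton.1 hv, one_smul]⟩)
      (fun k hk => by
        rw [Nat.one_shiftLeft, Nat.testBit_two_pow, decide_eq_true_eq] at hk
        subst hk
        obtain ⟨u0, hu0, e⟩ := STree.findC_some t _ _ _ hf
        exact ⟨u0, hu0, 1, one_mem _, by rw [one_smul, e]⟩)
      i (by simpa using hbit)
    obtain rfl := STree.idx_inj ht hi hu'
    exact ⟨g, hg, hgx⟩

end CfsgLib.Golay
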