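import Mathlib.Data.Nat.Notation

/-!
The hexads and the triples of the standard dodecad, in buckets.
-/

set_option autoImplicit false

namespace CfsgLib.Golay

/-- the twelve places of the standard dodecad squeezed together -/
def dodKey (m : ℕ) : ℕ :=
  ((m &&& 63) ||| ((m >>> 3) &&& 64) ||| ((m >>> 4) &&& 384) ||| ((m >>> 6) &&& 1536) |||
    ((m >>> 12) &&& 2048)) >>> 7

/-- the hexads in buckets -/
def hexTab : List (List ℕ) := [[567], [2110, 2575, 2617], [4127, 4651, 4668], [6189, 6195, 6677, 6682, 6694], [32829, 33307, 33326], [34839, 34859, 35356, 35365, 35378], [36903, 36922, 37389, 37398, 37425], [38926, 38937, 38964, 39427, 39464], [65595, 66078, 66093], [67613, 67623, 68115, 68138, 68148], [69678, 69685, 70151, 70169, 70194], [71691, 71702, 71736, 72204, 72225], [98319, 98358, 98837, 98851, 98872], [100378, 100396, 100401, 100870, 100873], [102419, 102428, 102441, 102922, 102948], [104453, 104482, 104976], [8388655, 8389149, 8389178], [8390683, 8390709, 8391190, 8391203, 8391212], [8392758, 8392761, 8393230, 8393235, 8393253], [8394759, 8394780, 8394794, 8395273,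 8395312], [8421406, 8421427, 8421895, 8421929, 8421940], [8423437, 8423462, 8423480, 8423946, 8423953], [8425483, 8425493, 8425516, 8426008, 8426018], [8427538, 8427553, 8428036], [8454167, 8454204, 8454667, 8454694, 8454705], [8456206, 8456233, 8456242, 8456709, 8456728], [8458253, 8458266, 8458275, 8458772, 8458792], [8460305, 8460324, 8460802], [8486937, 8486949, 8486954, 8487436, 8487442], [8488963, 8488980, 8489504], [8491014, 8491056, 8491521], [8493064]]

/-- the triples in buckets -/
def tripTab : List (List ℕ) := [[7, 11, 19, 35, 515, 13, 21, 37, 517, 25, 41, 521, 49, 529, 545, 14, 22, 38, 518, 26, 42, 522, 50, 530, 546, 28, 44, 524, 52, 532, 548, 56, 536, 552, 560], [2051, 2053, 2057, 2065, 2081, 2561, 2054, 2058, 2066, 2082, 2562, 2060, 2068, 2084, 2564, 2072, 2088, 2568, 2096, 2576, 2592], [4099, 4101, 4105, 4113, 4129, 4609, 4102, 4106, 4114, 4130, 4610, 4108, 4116, 4132, 4612, 4120, 4136, 4616, 4144, 4624, 4640], [6145, 6146, 6148, 6152, 6160, 6176, 6656], [32771, 32773, 32777, 32785, 32801, 33281, 32774, 32778, 32786, 32802, 33282, 32780, 32788, 32804, 33284,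 32792, 32808, 33288, 32816, 33296, 33312], [34817, 34818, 34820, 34824, 34832, 34848, 35328], [36865, 36866, 36868, 36872, 36880, 36896, 37376], [38912], [65539, 65541, 65545, 65553, 65569, 66049, 65542, 65546, 65554, 65570, 66050, 65548, 65556, 65572, 66052, 65560, 65576, 66056, 65584, 66064, 66080], [67585, 67586, 67588, 67592, 67600, 67616, 68096], [69633, 69634, 69636, 69640, 69648, 69664, 70144], [71680], [98305, 98306, 98308, 98312, 98320, 98336, 98816], [100352], [102400], [], [8388611, 8388613, 8388617, 8388625, 8388641, 8389121, 8388614, 8388618, 8388626, 8388642, 8389122, 8388620, 8388628, 8388644, 8389124, 8388632, 8388648, 8389128, 8388656, 8389136, 8389152], [8390657, 8390658, 8390660, 8390664, 8390672, 8390688, 8391168], [8392705, 8392706, 8392708, 8392712, 8392720, 8392736, 8393216], [8394752], [8421377, 8421378, 8421380, 8421384, 8421392, 8421408, 8421888], [8423424], [8425472], [], [8454145, 8454146, 8454148, 8454152, 8454160, 8454176, 8454656], [8456192], [8458240], [], [8486912], [], [], []]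

/-- the hexads -/
def hexLit : List ℕ := hexTab.flatten

/-- the triples -/
def tripLit : List ℕ := tripTab.flatten

/-- test for a hexad -/
def hexMem (m : ℕ) : Bool := (hexTab.getD (dodKey m) []).contains m

/-- test for a triple -/
def tripMem (m : ℕ) : Bool := (tripTab.getD (dodKey m) []).contains m

end CfsgLib.Golay
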