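import Cfsg.Agent.Lib.Golay.Systems.Orbits

/-!
Orbits told apart by any invariant, evaluated on the first members of the walks only.
-/

set_option autoImplicit false
set_option maxRecDepth 10000

namespace CfsgLib.Golay

open Cfsg
open scoped Pointwise

/-- one walk with the number of systems met -/
def keyWalkOK (t : STree) (gens : List ℕ) (p : (List ℕ × ℕ × ℕ × ℕ) × ℕ × ℕ) : Bool :=
  (match t.find p.1.1 with
    | none => false
    | some i => walkS gens t p.1.2.1 p.1.2.2.1 [p.1.1] (1 <<< i) == some p.1.2.2.2) &&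
    t.items.countP (fun e => p.1.2.2.2.testBit e.2) == p.2.2

/-- walks with different labels that together meet every system -/
def keyWalksOK (t : STree) (refs : List (List ℕ)) (gens : List ℕ)
    (ps : List ((List ℕ × ℕ × ℕ × ℕ) × ℕ × ℕ)) : Bool :=
  refsOK refs gens && decide (ps.map fun p => p.2.1).Nodup && ps.all (keyWalkOK t gens) &&
    t.items.all fun e => ps.any fun p => p.1.2.2.2.testBit e.2

variable {t : STree} {n : ℕ} {refs : List (List ℕ)} {gens : List ℕ}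
  {ps : List ((List ℕ × ℕ × ℕ × ℕ) × ℕ × ℕ)} {Φ : Finset (Finset GolayPt) → ℕ}

theorem keyWalk_reach (ht : t.ok n = true) (h : keyWalksOK t refs gens ps = true)
    {p : (List ℕ × ℕ × ℕ × ℕ) × ℕ × ℕ} (hp : p ∈ ps) {e : List ℕ × ℕ} (he : e ∈ t.items)
    (hb : p.1.2.2.2.testBit e.2 = true) : ∃ g ∈ fixRefs refs, g • objF p.1.1 = objF e.1 := by
  simp only [keyWalksOK, Bool.and_eq_true, List.all_eq_true] at h
  obtain ⟨⟨⟨hrefs, -⟩, hps⟩, -⟩ := h
  have hp' := hps p hp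
  simp only [keyWalkOK, Bool.and_eq_true] at hp'
  have hw := hp'.1
  cases hf : t.find p.1.1 with
  | none => rw [hf] at hw; simp at hw
  | some j =>
    rw [hf] at hw
    simp only [beq_iff_eq] at hw
    obtain ⟨u, hu, g, hg, hgx⟩ := walkS_sound (refsOK_mem hrefs) _ _ _ _ _ hw
      (x := objF p.1.1) (fun v hv => ⟨1, one_mem _, by rw [List.mem_singleton.1 hv, one_smul]⟩)
      (fun k hk => by
        rw [Nat.one_shiftLeft, Nat.testBit_two_pow, decide_eq_true_eq] at hk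
        subst hk
        obtain ⟨u0, hu0, e⟩ := STree.findC_some t _ _ _ hf
        exact ⟨u0, hu0, 1, one_mem _, by rw [one_smul, e]⟩)
      e.2 hb
    obtain rfl : e.1 = u := STree.idx_inj ht (i := e.2) he hu
    exact ⟨g, hg, hgx⟩

theorem keyWalk_iff (ht : t.ok n = true) (h : keyWalksOK t refs gens ps = true)
    (hΦ : ∀ g ∈ fixRefs refs, ∀ X, Φ (g • X) = Φ X) (hrep : ∀ p ∈ ps, Φ (objF p.1.1) = p.2.1) :
    ∀ p ∈ ps, ∀ e ∈ t.items, (p.1.2.2.2.testBit e.2 = true ↔ Φ (objF e.1) = p.2.1) := by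
  have hsig : ∀ p ∈ ps, ∀ e ∈ t.items, p.1.2.2.2.testBit e.2 = true → Φ (objF e.1) = p.2.1 := by
    intro p hp e he hb
    obtain ⟨g, hg, hgx⟩ := keyWalk_reach ht h hp he hb
    rw [← hgx, hΦ g hg, hrep p hp]
  refine fun p hp e he => ⟨hsig p hp e he, fun hs => ?_⟩
  simp only [keyWalksOK, Bool.and_eq_true, decide_eq_true_eq, List.all_eq_true, List.any_eq_true] at h
  obtain ⟨⟨⟨-, hnd⟩, -⟩, hcov⟩ := h
  obtain ⟨q, hq, hqb⟩ := hcov e he
  obtain rfl : q = p := List.inj_on_of_nodup_map hnd hq hp ((hsig q hq e he hqb).symm.trans hs)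
  exact hqb

theorem keyWalk_mem (ht : t.ok n = true) (h : keyWalksOK t refs gens ps = true)
    (hΦ : ∀ g ∈ fixRefs refs, ∀ X, Φ (g • X) = Φ X) (hrep : ∀ p ∈ ps, Φ (objF p.1.1) = p.2.1)
    {u : List ℕ} (hu : u ∈ t.objs) : Φ (objF u) ∈ ps.map fun p => p.2.1 := by
  obtain ⟨e, he, rfl⟩ := List.mem_map.1 hu
  have h' := h
  simp only [keyWalksOK, Bool.and_eq_true, List.all_eq_true, List.any_eq_true] at h'
  obtain ⟨q, hq, hqb⟩ := h'.2 e he
  exact List.mem_map.2 ⟨q, hq, ((keyWalk_iff ht h hΦ hrep q hq e he).1 hqb).symm⟩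

theorem keyWalk_trans (ht : t.ok n = true) (h : keyWalksOK t refs gens ps = true)
    (hΦ : ∀ g ∈ fixRefs refs, ∀ X, Φ (g • X) = Φ X) (hrep : ∀ p ∈ ps, Φ (objF p.1.1) = p.2.1)
    {u v : List ℕ} (hu : u ∈ t.objs) (hv : v ∈ t.objs) (he : Φ (objF u) = Φ (objF v)) :
    ∃ g ∈ fixRefs refs, g • objF u = objF v := by
  obtain ⟨a, ha, rfl⟩ := List.mem_map.1 hu
  obtain ⟨b, hb, rfl⟩ := List.mem_map.1 hv
  have h' := h
  simp only [keyWalksOK, Bool.and_eq_true, List.all_eq_true, List.any_eq_true] at h'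
  obtain ⟨q, hq, hqa⟩ := h'.2 a ha
  have hqb := (keyWalk_iff ht h hΦ hrep q hq b hb).2 (he.symm.trans ((keyWalk_iff ht h hΦ hrep q hq a ha).1 hqa))
  obtain ⟨g, hg, hga⟩ := keyWalk_reach ht h hq ha hqa
  obtain ⟨k, hk, hkb⟩ := keyWalk_reach ht h hq hb hqb
  exact ⟨k * g⁻¹, mul_mem hk (inv_mem hg), by rw [mul_smul, ← hga, inv_smul_smul, hkb]⟩

theorem keyWalk_count (ht : t.ok n = true) (h : keyWalksOK t refs gens ps = true)
    (hΦ : ∀ g ∈ fixRefs refs, ∀ X, Φ (g • X) = Φ X) (hrep : ∀ p ∈ ps, Φ (objF p.1.1) = p.2.1)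
    {p : (List ℕ × ℕ × ℕ × ℕ) × ℕ × ℕ} (hp : p ∈ ps) :
    {X | (∃ u ∈ t.objs, objF u = X) ∧ Φ X = p.2.1}.ncard = p.2.2 := by
  have h' := h
  simp only [keyWalksOK, keyWalkOK, Bool.and_eq_true, List.all_eq_true, beq_iff_eq] at h'
  have hc : t.objs.countP (fun u => Φ (objF u) == p.2.1) = p.2.2 := by
    rw [STree.objs, List.countP_map, ← (h'.1.2 p hp).2]
    refine List.countP_congr fun e he => ?_
    simp only [Function.comp_apply, beq_iff_eq]
    exact (keyWalk_iff ht h hΦ hrep p hp e he).symm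
  have he : {X | (∃ u ∈ t.objs, objF u = X) ∧ Φ X = p.2.1} =
      objF '' {u | u ∈ t.objs.filter fun u => Φ (objF u) == p.2.1} := by
    ext X
    simp only [Set.mem_setOf_eq, Set.mem_image, List.mem_filter, beq_iff_eq]
    constructor
    · rintro ⟨⟨u, hu, rfl⟩, hq⟩; exact ⟨u, ⟨hu, hq⟩, rfl⟩
    · rintro ⟨u, ⟨hu, hq⟩, rfl⟩; exact ⟨⟨u, hu, rfl⟩, hq⟩
  rw [he, Set.InjOn.ncard_image (s := {u | u ∈ t.objs.filter fun u => Φ (objF u) == p.2.1}) fun a ha b hb e =>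
      STree.objF_inj ht (List.mem_filter.1 ha).1 (List.mem_filter.1 hb).1 e,
    ← hc, List.countP_eq_length_filter,
    ← List.toFinset_card_of_nodup ((STree.objs_nodup ht).filter _), ← Set.ncard_coe_finset]
  congr 1
  ext u
  simp

end CfsgLib.Golay
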