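import Cfsg.Agent.Lib.Golay.OrbitFacts
import Cfsg.Prelude.Def_Spor_Mathieu

/-!
An element exchanging two points induces an outer automorphism of the group fixing both.
-/

set_option autoImplicit false
set_option maxRecDepth 20000

namespace CfsgLib.Golay

open Cfsg
open scoped Pointwise

theorem mem_M22_iff {x : Equiv.Perm GolayPt} :
    x ∈ Cfsg.Spor.M22 ↔ x ∈ M24 ∧ x none = none ∧ x (some 0) = some 0 := by
  simp only [Cfsg.Spor.M22, Cfsg.Spor.M23, Subgroup.mem_inf, MulAction.mem_stabilizer_iff,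
    Equiv.Perm.smul_def, and_assoc]

theorem conj_mem_M22 {g x : Equiv.Perm GolayPt} (hg : g ∈ M24) (h₁ : g none = some 0)
    (h₂ : g (some 0) = none) (hx : x ∈ Cfsg.Spor.M22) : g * x * g⁻¹ ∈ Cfsg.Spor.M22 := by
  obtain ⟨hM, h0, h0'⟩ := mem_M22_iff.1 hx
  exact mem_M22_iff.2 ⟨mul_mem (mul_mem hg hM) (inv_mem hg), conj_point h₂ h0', conj_point h₁ h0⟩

theorem relIndex_M22_pair {g : Equiv.Perm GolayPt} (hg : g ∈ M24) (h₁ : g none = some 0)
    (h₂ : g (some 0) = none) : Cfsg.Spor.M22.relIndex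
      (M24 ⊓ MulAction.stabilizer (Equiv.Perm GolayPt) ({none, some 0} : Finset GolayPt)) = 2 := by
  have hset : g • ({none, some 0} : Finset GolayPt) = {none, some 0} := by
    rw [Finset.smul_finset_insert, Finset.smul_finset_singleton, Equiv.Perm.smul_def,
      Equiv.Perm.smul_def, h₁, h₂, Finset.pair_comm]
  rw [Subgroup.relIndex, Subgroup.index_eq_two_iff]
  refine ⟨⟨g, Subgroup.mem_inf.2 ⟨hg, hset⟩⟩, fun b => ?_⟩
  obtain ⟨b, hb⟩ := b
  obtain ⟨hbM, hbP⟩ := Subgroup.mem_inf.1 hb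
  rw [MulAction.mem_stabilizer_iff] at hbP
  simp only [Subgroup.mem_subgroupOf, Subgroup.coe_mul, mem_M22_iff, Equiv.Perm.mul_apply, h₁, h₂,
    mul_mem hbM hg, hbM, true_and]
  have himg : ∀ p ∈ ({none, some 0} : Finset GolayPt), b p ∈ ({none, some 0} : Finset GolayPt) := by
    intro p hp
    have := Finset.smul_mem_smul_finset (a := b) hp
    rwa [hbP] at this
  have h := himg none (by simp)
  have h' := himg (some 0) (by simp)
  simp only [Finset.mem_insert, Finset.mem_singleton] at h h'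
  have hne : b none ≠ b (some 0) := fun e => by simpa using b.injective e
  rcases h with h | h <;> rcases h' with h' | h'
  · exact absurd (h.trans h'.symm) hne
  · simp [Xor', h, h']
  · simp [Xor', h, h']
  · exact absurd (h.trans h'.symm) hne

theorem exists_M22_move {a b : GolayPt} (ha : a ≠ none ∧ a ≠ some 0) (hb : b ≠ none ∧ b ≠ some 0)
    (hab : b ≠ a) : ∃ x ∈ Cfsg.Spor.M22, x a = a ∧ x b ≠ b := by
  obtain ⟨e, he⟩ : ∃ e : GolayPt, e ∉ [none, some 0, a, b] := by
    by_contra h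
    push Not at h
    have : (Finset.univ : Finset GolayPt) ⊆ [none, some 0, a, b].toFinset :=
      fun p _ => List.mem_toFinset.2 (h p)
    have := (Finset.card_le_card this).trans (List.toFinset_card_le _)
    simp at this
  simp only [List.mem_cons, List.not_mem_nil, or_false, not_or] at he
  obtain ⟨g, hg, hgl⟩ := exists_map_base5 [none, some 0, a, b, e] rfl (by
    simp [ha.1.symm, ha.2.symm, hb.1.symm, hb.2.symm, Ne.symm hab, Ne.symm he.1, Ne.symm he.2.1,
      Ne.symm he.2.2.1, Ne.symm he.2.2.2])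
  obtain ⟨k, hk, hkl⟩ := exists_map_base5 [none, some 0, a, e, b] rfl (by
    simp [ha.1.symm, ha.2.symm, hb.1.symm, hb.2.symm, Ne.symm hab, Ne.symm he.1, Ne.symm he.2.1,
      Ne.symm he.2.2.1, he.2.2.2])
  simp only [base5, List.map_cons, List.map_nil, List.cons.injEq, and_true] at hgl hkl
  obtain ⟨g1, g2, g3, g4, -⟩ := hgl
  obtain ⟨k1, k2, k3, k4, -⟩ := hkl
  have move : ∀ {i : ℕ} {p q : GolayPt}, g (pt i) = p → k (pt i) = q → (k * g⁻¹) p = q := by
    intro i p q hp hq
    rw [Equiv.Perm.mul_apply, Equiv.Perm.inv_eq_iff_eq.2 hp.symm, hq]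
  refine ⟨k * g⁻¹, mem_M22_iff.2 ⟨mul_mem hk (inv_mem hg), move g1 k1, move g2 k2⟩, move g3 k3, ?_⟩
  rw [move g4 k4]
  exact he.2.2.2

theorem not_inner_M22 {g : Equiv.Perm GolayPt} (hg : g ∈ M24) (h₁ : g none = some 0)
    (h₂ : g (some 0) = none) :
    ¬ ∃ h ∈ Cfsg.Spor.M22, ∀ x ∈ Cfsg.Spor.M22, g * x * g⁻¹ = h * x * h⁻¹ := by
  rintro ⟨h, hh, heq⟩
  obtain ⟨hM, h0, h0'⟩ := mem_M22_iff.1 hh
  set c := h⁻¹ * g with hc
  have hcM : c ∈ M24 := mul_mem (inv_mem hM) hg
  have c1 : c none = some 0 := by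
    rw [hc, Equiv.Perm.mul_apply, h₁, Equiv.Perm.inv_eq_iff_eq]; exact h0'.symm
  have c2 : c (some 0) = none := by
    rw [hc, Equiv.Perm.mul_apply, h₂, Equiv.Perm.inv_eq_iff_eq]; exact h0.symm
  have hcomm : ∀ x ∈ Cfsg.Spor.M22, c * x = x * c := by
    intro x hx
    have := heq x hx
    calc c * x = h⁻¹ * (g * x * g⁻¹) * g := by rw [hc]; group
      _ = h⁻¹ * (h * x * h⁻¹) * g := by rw [this]
      _ = x * c := by rw [hc]; group
  have hfix : ∀ a : GolayPt, a ≠ none → a ≠ some 0 → c a = a := by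
    intro a ha ha'
    by_contra hne
    have hb1 : c a ≠ none := fun e => ha' (c.injective (e.trans c2.symm))
    have hb2 : c a ≠ some 0 := fun e => ha (c.injective (e.trans c1.symm))
    obtain ⟨x, hx, hxa, hxb⟩ := exists_M22_move ⟨ha, ha'⟩ ⟨hb1, hb2⟩ hne
    have := congrArg (fun f : Equiv.Perm GolayPt => f a) (hcomm x hx)
    simp only [Equiv.Perm.mul_apply, hxa] at this
    exact hxb this.symm
  obtain ⟨m, hm, h23, h0b⟩ : ∃ m ∈ octLit, m.testBit 23 = true ∧ m.testBit 0 = false := by decide +kernel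
  obtain ⟨hmc, hm8⟩ := mem_octLit_iff.1 hm
  have ho : dec m ∈ octads := dec_mem_octads (inC_iff_mem_codeList.2 hmc) hm8
  have hnone : (none : GolayPt) ∈ dec m := by
    rw [mem_dec, show idx (none : GolayPt) = 23 by decide +kernel]; exact h23
  have hzero : (some 0 : GolayPt) ∉ dec m := by
    rw [mem_dec, show idx (some 0 : GolayPt) = 0 by decide +kernel, h0b]; simp
  have hsub : (dec m).erase none ⊆ c • dec m ∩ dec m := by
    intro p hp
    obtain ⟨hp1, hp2⟩ := Finset.mem_erase.1 hp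
    refine Finset.mem_inter.2 ⟨Finset.mem_smul_finset.2 ⟨p, hp2, ?_⟩, hp2⟩
    exact hfix p hp1 fun e => hzero (e ▸ hp2)
  have hcard := Finset.card_le_card hsub
  rw [Finset.card_erase_of_mem hnone, ho.2] at hcard
  have heq' := octad_eq_of_five (smul_mem_octads hcM ho) ho (by omega)
  refine hzero ?_
  rw [← heq', ← c1]
  exact Finset.smul_mem_smul_finset hnone

end CfsgLib.Golay
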