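import Cfsg.Agent.Lib.Golay.Systems.Orbits

/-!
Orbits told apart by the signatures of their first members: no signature is computed for the others.
-/

set_option autoImplicit false
set_option maxRecDepth 10000

namespace CfsgLib.Golay

open Cfsg
open scoped Pointwise

/-- one walk, the signature of its first member, and the number of systems met -/
def orbitOK (t : STree) (R0 gens : List ℕ) (p : (List ℕ × ℕ × ℕ × ℕ) × ℕ × ℕ) : Bool :=
  decide p.1.1.Nodup && p.1.1.all (fun m => decide (m < 16777216)) && sigL R0 p.1.1 == p.2.1 &&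
    (match t.find p.1.1 with
      | none => false
      | some i => walkS gens t p.1.2.1 p.1.2.2.1 [p.1.1] (1 <<< i) == some p.1.2.2.2) &&
    t.items.countP (fun e => p.1.2.2.2.testBit e.2) == p.2.2 && decide (0 < p.2.2)

/-- walks with different signatures that together meet every system -/
def orbitsOK (t : STree) (R0 gens : List ℕ) (ps : List ((List ℕ × ℕ × ℕ × ℕ) × ℕ × ℕ)) : Bool :=
  decide R0.Nodup && R0.all (fun m => decide (m < 16777216)) && refsOK [R0] gens &&
    decide (ps.map fun p => p.2.1).Nodup && ps.all (orbitOK t R0 gens) &&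
    t.items.all fun e => ps.any fun p => p.1.2.2.2.testBit e.2

theorem classOK_of_orbitsOK {t : STree} {n : ℕ} (ht : t.ok n = true) {R0 gens : List ℕ}
    {ps : List ((List ℕ × ℕ × ℕ × ℕ) × ℕ × ℕ)} (h : orbitsOK t R0 gens ps = true) :
    (∀ p ∈ ps, classOK t R0 gens p.1 p.2.1 p.2.2 = true) ∧
      valsOK t R0 (ps.map fun p => p.2.1) = true := by
  simp only [orbitsOK, Bool.and_eq_true, decide_eq_true_eq, List.all_eq_true, List.any_eq_true] at h
  obtain ⟨⟨⟨⟨⟨hn, hlt⟩, hrefs⟩, hnd⟩, hps⟩, hcov⟩ := h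
  have hlt' : ∀ m ∈ R0, m < 2 ^ 24 := fun m hm => by norm_num; exact hlt m hm
  have hsig : ∀ p ∈ ps, ∀ e ∈ t.items, p.1.2.2.2.testBit e.2 = true → sigL R0 e.1 = p.2.1 := by
    intro p hp e he hb
    have hp' := hps p hp
    simp only [orbitOK, Bool.and_eq_true, decide_eq_true_eq, List.all_eq_true, beq_iff_eq] at hp'
    obtain ⟨⟨⟨⟨⟨hwn, hwlt⟩, hs⟩, hw⟩, -⟩, -⟩ := hp'
    cases hf : t.find p.1.1 with
    | none => rw [hf] at hw; simp at hw
    | some j =>
      rw [hf] at hw
      simp only [beq_iff_eq] at hw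
      obtain ⟨u, hu, g, hg, hgx⟩ := walkS_sound (refsOK_mem hrefs) _ _ _ _ _ hw
        (x := objF p.1.1) (fun v hv => ⟨1, one_mem _, by rw [List.mem_singleton.1 hv, one_smul]⟩)
        (fun k hk => by
          rw [Nat.one_shiftLeft, Nat.testBit_two_pow, decide_eq_true_eq] at hk
          subst hk
          obtain ⟨u0, hu0, e⟩ := STree.findC_some t _ _ _ hf
          exact ⟨u0, hu0, 1, one_mem _, by rw [one_smul, e]⟩)
        e.2 hb
      obtain rfl : e.1 = u := STree.idx_inj ht (i := e.2) he hu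
      rw [← hs, ← sigF_objF hlt' hn (t.items_lt e he) (STree.ok_find ht he).2, ← hgx,
        ← (mem_fixRefs.1 hg).2 R0 List.mem_cons_self, sigF_smul,
        sigF_objF hlt' hn (fun m hm => by norm_num; exact hwlt m hm) hwn]
  have hiff : ∀ p ∈ ps, ∀ e ∈ t.items, (p.1.2.2.2.testBit e.2 = true ↔ sigL R0 e.1 = p.2.1) := by
    refine fun p hp e he => ⟨hsig p hp e he, fun hs => ?_⟩
    obtain ⟨q, hq, hqb⟩ := hcov e he
    obtain rfl : q = p := List.inj_on_of_nodup_map hnd hq hp ((hsig q hq e he hqb).symm.trans hs)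
    exact hqb
  refine ⟨fun p hp => ?_, ?_⟩
  · have hp' := hps p hp
    simp only [orbitOK, Bool.and_eq_true, decide_eq_true_eq, beq_iff_eq] at hp'
    obtain ⟨⟨⟨-, hw⟩, hc⟩, hpos⟩ := hp'
    have hcount : t.objs.countP (fun u => sigL R0 u == p.2.1) = p.2.2 := by
      rw [STree.objs, List.countP_map, ← hc]
      refine List.countP_congr fun e he => ?_
      simp only [Function.comp_apply, beq_iff_eq]
      exact (hiff p hp e he).symm
    simp only [classOK, coverOK, Bool.and_eq_true, decide_eq_true_eq, List.all_eq_true, beq_iff_eq,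
      Bool.or_eq_true, Bool.not_eq_true']
    refine ⟨⟨⟨⟨⟨hn, hlt⟩, hrefs⟩, ⟨hw, fun e he => ?_⟩⟩, hcount⟩, hpos⟩
    by_cases hs : sigL R0 e.1 = p.2.1
    · exact Or.inr ((hiff p hp e he).2 hs)
    · exact Or.inl (beq_eq_false_iff_ne.2 hs)
  · simp only [valsOK, Bool.and_eq_true, decide_eq_true_eq, List.all_eq_true, List.contains_iff_mem,
      List.mem_map]
    refine ⟨⟨hn, hlt⟩, fun u hu => ?_⟩
    obtain ⟨e, he, rfl⟩ := List.mem_map.1 hu
    obtain ⟨q, hq, hqb⟩ := hcov e he
    exact ⟨q, hq, (hsig q hq e he hqb).symm⟩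

end CfsgLib.Golay
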