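import Cfsg.Agent.Lib.Golay.Systems.Quartets
import Cfsg.Agent.Lib.Golay.SylowTwoCert

/-!
The stabilizer of a dodecad and of one of its quartets: an extension of a group of order nine by
the general linear group of degree two over three elements.
-/

set_option autoImplicit false
set_option maxRecDepth 20000

namespace CfsgLib.Golay.QuartetAGL

open Cfsg CfsgLib.Golay CfsgLib.Golay.SylowTwo
open scoped Pointwise

/-- two commuting elements of order three -/
def nA : ℕ := 981609821058341446357009621036041218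

/-- two commuting elements of order three -/
def nB : ℕ := 516038517152443692449089576794327072

/-- generators -/
def hGens : List ℕ := [58989590462821220358906030243070435, 973127918418686708732291768067854505,
  401645292777490871775863431328270337, 26863124709284936207085016073086116]

/-- their matrices on the group of order nine -/
def hMats : Fin 4 → Matrix (Fin 2) (Fin 2) (ZMod 3)
  | 0 => !![0, 1; 1, 2]
  | 1 => !![2, 2; 0, 2]
  | 2 => !![2, 0; 2, 2]
  | 3 => !![0, 1; 2, 1]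

/-- words in the generators giving every invertible matrix -/
def hWords : List (List (Fin 4)) :=
  [[], [0], [0, 0], [0, 0, 0], [0, 2], [0, 2, 0], [0, 2, 0, 0], [0, 2, 1], [0, 2, 1, 0], [0, 2, 2],
    [0, 2, 3], [0, 3], [0, 3, 0], [0, 3, 0, 0], [0, 3, 3], [1], [1, 0], [1, 0, 2], [1, 0, 2, 2],
    [1, 1], [1, 1, 0], [1, 1, 1], [1, 1, 1, 0], [1, 2], [1, 2, 0], [1, 2, 2], [2], [2, 0], [2, 0, 0],
    [2, 1], [2, 1, 0], [2, 2], [2, 2, 0], [2, 2, 0, 0], [2, 2, 3], [2, 3], [3], [3, 0], [3, 0, 0],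
    [3, 1], [3, 1, 0], [3, 1, 1], [3, 1, 1, 0], [3, 1, 2], [3, 3], [3, 3, 0], [3, 3, 1], [3, 3, 1, 0]]

theorem words_cover : ∀ M : Matrix (Fin 2) (Fin 2) (ZMod 3), M.det ≠ 0 →
    ∃ w ∈ hWords, (w.map hMats).prod = M := by decide +kernel

theorem refs_checks : refsOK [[dod0], quart0] ([nA, nB] ++ hGens) = true ∧
    mulP nA nB = mulP nB nA ∧ powP nA 3 = powP nA 0 ∧ powP nB 3 = powP nB 0 := by decide +kernel

theorem indep_check : ((List.range 3).all fun i => (List.range 3).all fun j =>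
    (i == 0 && j == 0) || !eqP (mulP (powP nA i) (powP nB j)) idP) = true := by decide +kernel

theorem conj_check : ∀ k : Fin 4,
    mulP (hGens.getD k.val 0) nA =
      mulP (mulP (powP nA (hMats k 0 0).val) (powP nB (hMats k 1 0).val)) (hGens.getD k.val 0) ∧
    mulP (hGens.getD k.val 0) nB =
      mulP (mulP (powP nA (hMats k 0 1).val) (powP nB (hMats k 1 1).val)) (hGens.getD k.val 0) := by
  decide +kernel

theorem orbit_check : closeUp hGens 12 (2 ^ 0) = dod0 := by decide +kernel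

/-- the stabilizer of the base dodecad and base quartet -/
noncomputable def H0 : Subgroup ↥M24 :=
  MulAction.stabilizer M24 (dec dod0) ⊓ MulAction.stabilizer M24 (objF quart0)

theorem mem_H0_of_refs {g : Equiv.Perm GolayPt} (hg : g ∈ fixRefs [[dod0], quart0]) :
    (⟨g, (mem_fixRefs.1 hg).1⟩ : ↥M24) ∈ H0 :=
  Subgroup.mem_inf.2 ⟨fixed_dod0 hg, (mem_fixRefs.1 hg).2 quart0 (by simp)⟩

theorem natCard_H0 : Nat.card H0 = 432 := by
  classical
  set S := MulAction.stabilizer M24 (dec dod0)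
  have h := Subgroup.card_mul_index (MulAction.stabilizer S (objF quart0))
  have e : Nat.card (MulAction.stabilizer S (objF quart0)) = Nat.card H0 :=
    Nat.card_congr
      { toFun := fun g => ⟨g.1.1, ⟨g.1.2, g.2⟩⟩
        invFun := fun g => ⟨⟨g.1, g.2.1⟩, g.2.2⟩
        left_inv := fun g => rfl
        right_inv := fun g => rfl }
  have horb : MulAction.orbit S (objF quart0) = quartets (dec dod0) := by
    ext X
    constructor
    · rintro ⟨g, rfl⟩
      have hg : ((g : ↥M24) : Equiv.Perm GolayPt) • dec dod0 = dec dod0 := g.2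
      have := smul_mem_quartets (g : ↥M24).2 quart0_mem
      first
      | exact hg ▸ this
      | simpa [hg] using this
    · intro hX
      obtain ⟨k, hk, hkd, hkX⟩ := quart_trans quart0_mem hX
      exact ⟨⟨⟨k, hk⟩, hkd⟩, hkX⟩
  rw [e, MulAction.index_stabilizer, horb, quartets_count dod0_mem, natCard_stab_dod0] at h
  omega

theorem structure_ref : ∃ (N : Subgroup H0) (_ : N.Normal), Nat.card N = 9 ∧
    Nonempty (H0 ⧸ N ≃* GL (Fin 2) (ZMod 3)) := by
  classical
  obtain ⟨hrefs, hcomm, ha3, hb3⟩ := refs_checks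
  have hgen := refsOK_mem hrefs
  let mk : (P : ℕ) → P ∈ [nA, nB] ++ hGens → H0 := fun P hP =>
    ⟨⟨toPerm P, (mem_fixRefs.1 (hgen P hP).2).1⟩, mem_H0_of_refs (hgen P hP).2⟩
  set a := mk nA (by simp) with ha
  set b := mk nB (by simp) with hb
  have hva : validP nA = true := (hgen nA (by simp)).1
  have hvb : validP nB = true := (hgen nB (by simp)).1
  have hpa := toPerm_powP hva
  have hpb := toPerm_powP hvb
  have hext : ∀ {x y : H0}, ((x : ↥M24) : Equiv.Perm GolayPt) = ((y : ↥M24) : Equiv.Perm GolayPt) → x = y :=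
    fun h => Subtype.ext (Subtype.ext h)
  have hab : Commute a b := hext (by
    show toPerm nA * toPerm nB = toPerm nB * toPerm nA
    rw [← toPerm_mulP hva hvb, hcomm, toPerm_mulP hvb hva])
  have ha3' : a ^ 3 = 1 := hext (by
    show toPerm nA ^ 3 = 1
    rw [← (hpa 3).2, ha3, (hpa 0).2, pow_zero])
  have hb3' : b ^ 3 = 1 := hext (by
    show toPerm nB ^ 3 = 1
    rw [← (hpb 3).2, hb3, (hpb 0).2, pow_zero])
  have hpow : ∀ {x : H0}, x ^ 3 = 1 → ∀ i j : ZMod 3, x ^ (i + j).val = x ^ i.val * x ^ j.val := by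
    intro x hx i j
    rw [← pow_add, ZMod.val_add, ← pow_eq_pow_mod (i.val + j.val) hx]
  -- the group of order nine
  let ψ : Multiplicative (Fin 2 → ZMod 3) →* H0 := MonoidHom.mk'
    (fun v => a ^ (v.toAdd 0).val * b ^ (v.toAdd 1).val) fun u v => by
      show a ^ ((u.toAdd + v.toAdd) 0).val * b ^ ((u.toAdd + v.toAdd) 1).val = _
      rw [Pi.add_apply, Pi.add_apply, hpow ha3', hpow hb3']
      exact (hab.pow_pow _ _).mul_mul_mul_comm _ _
  have hψinj : Function.Injective ψ := by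
    rw [← MonoidHom.ker_eq_bot_iff, Subgroup.eq_bot_iff_forall]
    intro v hv
    have h := indep_check
    simp only [List.all_eq_true, List.mem_range, Bool.or_eq_true, Bool.and_eq_true, beq_iff_eq,
      Bool.not_eq_true'] at h
    rcases h _ (ZMod.val_lt (v.toAdd 0)) _ (ZMod.val_lt (v.toAdd 1)) with ⟨h0, h1⟩ | h
    · refine Multiplicative.toAdd.injective (funext fun i => ?_)
      fin_cases i
      · exact (ZMod.val_eq_zero _).1 h0
      · exact (ZMod.val_eq_zero _).1 h1
    · exfalso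
      have e : toPerm nA ^ (v.toAdd 0).val * toPerm nB ^ (v.toAdd 1).val = 1 :=
        congrArg (fun x : H0 => ((x : ↥M24) : Equiv.Perm GolayPt)) (MonoidHom.mem_ker.1 hv)
      rw [← (hpa _).2, ← (hpb _).2, ← toPerm_mulP (hpa _).1 (hpb _).1, ← toPerm_idP] at e
      rw [eqP_of_toPerm_eq (validP_mulP (hpa _).1 (hpb _).1) validP_idP e] at h
      simp at h
  set N := ψ.range with hN
  have hNcard : Nat.card N = 9 := by
    rw [← Nat.card_congr (ψ.ofInjective hψinj).toEquiv, Nat.card_eq_fintype_card]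
    rfl
  -- the matrix of an element
  have hkey : ∀ (w : H0) (M : Matrix (Fin 2) (Fin 2) (ZMod 3)),
      w * a * w⁻¹ = ψ (Multiplicative.ofAdd fun i => M i 0) →
      w * b * w⁻¹ = ψ (Multiplicative.ofAdd fun i => M i 1) →
      ∀ v : Fin 2 → ZMod 3, ψ (Multiplicative.ofAdd (M.mulVec v)) = w * ψ (Multiplicative.ofAdd v) * w⁻¹ := by
    intro w M h0 h1 v
    have e : M.mulVec v = (v 0).val • (fun i => M i 0) + (v 1).val • (fun i => M i 1) := by
      funext i
      rw [Pi.add_apply, Pi.smul_apply, Pi.smul_apply, nsmul_eq_mul, nsmul_eq_mul, ZMod.natCast_zmod_val,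
        ZMod.natCast_zmod_val]
      simp [Matrix.mulVec, dotProduct, Fin.sum_univ_two, mul_comm]
    rw [e, ofAdd_add, ofAdd_nsmul, ofAdd_nsmul, map_mul, map_pow, map_pow, ← h0, ← h1, conj_pow, conj_pow]
    show _ = w * (a ^ (v 0).val * b ^ (v 1).val) * w⁻¹
    group
  set W := Subgroup.normalizer (N : Set H0) with hW
  have hψa : ψ (Multiplicative.ofAdd ![1, 0]) = a := by
    show a ^ (1 : ZMod 3).val * b ^ (0 : ZMod 3).val = a
    rw [show (1 : ZMod 3).val = 1 from rfl, show (0 : ZMod 3).val = 0 from rfl, pow_one, pow_zero, mul_one]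
  have hψb : ψ (Multiplicative.ofAdd ![0, 1]) = b := by
    show a ^ (0 : ZMod 3).val * b ^ (1 : ZMod 3).val = b
    rw [show (1 : ZMod 3).val = 1 from rfl, show (0 : ZMod 3).val = 0 from rfl, pow_one, pow_zero, one_mul]
  have haN : a ∈ N := ⟨_, hψa⟩
  have hbN : b ∈ N := ⟨_, hψb⟩
  have hex : ∀ w : W, ∃ M : Matrix (Fin 2) (Fin 2) (ZMod 3), ∀ v : Fin 2 → ZMod 3,
      ψ (Multiplicative.ofAdd (M.mulVec v)) = w * ψ (Multiplicative.ofAdd v) * (w : H0)⁻¹ := by
    intro w
    obtain ⟨u, hu⟩ := (Subgroup.mem_normalizer_iff.1 w.2 a).1 haN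
    obtain ⟨t, ht⟩ := (Subgroup.mem_normalizer_iff.1 w.2 b).1 hbN
    refine ⟨Matrix.of fun i j => if j = 0 then u.toAdd i else t.toAdd i, hkey _ _ ?_ ?_⟩
    · rw [← hu]; rfl
    · rw [← ht]; rfl
  choose Φ hΦ using hex
  have huniq : ∀ {w : W} {M : Matrix (Fin 2) (Fin 2) (ZMod 3)}, (∀ v : Fin 2 → ZMod 3,
      ψ (Multiplicative.ofAdd (M.mulVec v)) = w * ψ (Multiplicative.ofAdd v) * (w : H0)⁻¹) → Φ w = M :=
    fun {w M} h => Matrix.ext_iff_mulVec.2 fun v =>
      Multiplicative.ofAdd.injective (hψinj ((hΦ w v).trans (h v).symm))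
  let F : W →* Matrix (Fin 2) (Fin 2) (ZMod 3) :=
    { toFun := Φ
      map_one' := huniq fun v => by simp
      map_mul' := fun x y => huniq fun v => by
        rw [← Matrix.mulVec_mulVec, hΦ x, hΦ y]
        simp [mul_assoc] }
  let φ : W →* GL (Fin 2) (ZMod 3) := F.toHomUnits
  -- generators
  have hgmem : ∀ k : Fin 4, hGens.getD k.val 0 ∈ [nA, nB] ++ hGens := by decide
  let G : Fin 4 → H0 := fun k => mk _ (hgmem k)
  have hG : ∀ k, (∀ v : Fin 2 → ZMod 3, ψ (Multiplicative.ofAdd ((hMats k).mulVec v)) =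
      G k * ψ (Multiplicative.ofAdd v) * (G k)⁻¹) := by
    intro k
    obtain ⟨hc1, hc2⟩ := conj_check k
    have hvg := (hgen _ (hgmem k)).1
    refine hkey _ _ ?_ ?_ <;>
      (rw [mul_inv_eq_iff_eq_mul]; refine hext ?_)
    · show toPerm (hGens.getD k.val 0) * toPerm nA =
        toPerm nA ^ (hMats k 0 0).val * toPerm nB ^ (hMats k 1 0).val * toPerm (hGens.getD k.val 0)
      rw [← (hpa _).2, ← (hpb _).2, ← toPerm_mulP (hpa _).1 (hpb _).1,
        ← toPerm_mulP (validP_mulP (hpa _).1 (hpb _).1) hvg, ← toPerm_mulP hvg hva, hc1]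
    · show toPerm (hGens.getD k.val 0) * toPerm nB =
        toPerm nA ^ (hMats k 0 1).val * toPerm nB ^ (hMats k 1 1).val * toPerm (hGens.getD k.val 0)
      rw [← (hpa _).2, ← (hpb _).2, ← toPerm_mulP (hpa _).1 (hpb _).1,
        ← toPerm_mulP (validP_mulP (hpa _).1 (hpb _).1) hvg, ← toPerm_mulP hvg hvb, hc2]
  have hGW : ∀ k, G k ∈ W := by
    intro k
    rw [hW, Subgroup.mem_normalizer_iff_map_conj_eq]
    refine Subgroup.eq_of_le_of_card_ge ?_ (le_of_eq ?_)
    · rintro _ ⟨_, ⟨v, rfl⟩, rfl⟩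
      exact ⟨_, hG k v.toAdd⟩
    · exact (Subgroup.card_map_of_injective (MulAut.conj (G k)).injective).symm
  have hφG : ∀ k, F ⟨G k, hGW k⟩ = hMats k := fun k => huniq (hG k)
  have hsurj : Function.Surjective φ := by
    intro M
    obtain ⟨w, -, hw⟩ := words_cover M.1 (IsUnit.ne_zero ((Matrix.isUnit_iff_isUnit_det _).1 M.isUnit))
    refine ⟨(w.map fun k => (⟨G k, hGW k⟩ : W)).prod, Units.ext ?_⟩
    show F _ = M.1
    rw [map_list_prod, List.map_map, ← hw]
    congr 1
    exact List.map_congr_left fun k _ => hφG k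
  have hNW : N ≤ W := Subgroup.le_normalizer
  have hker : N.subgroupOf W ≤ φ.ker := by
    intro x hx
    obtain ⟨u, hu⟩ := hx
    refine MonoidHom.mem_ker.2 (Units.ext ?_)
    show Φ x = 1
    refine huniq fun v => ?_
    rw [Matrix.one_mulVec, show (x : H0) = ψ u from hu.symm, ← map_mul, ← map_inv, ← map_mul]
    congr 1
    rw [mul_comm u, mul_inv_cancel_right]
  have hcW := φ.ker.card_mul_index
  rw [Subgroup.index_ker, MonoidHom.range_eq_top.2 hsurj, Subgroup.card_top,
    show Nat.card (GL (Fin 2) (ZMod 3)) = 48 by rw [Matrix.card_GL_field]; simp [Fin.prod_univ_two]] at hcW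
  have h9 : 9 ≤ Nat.card φ.ker := by
    rw [← hNcard, ← Nat.card_congr (Subgroup.subgroupOfEquivOfLe hNW).toEquiv]
    exact Subgroup.card_le_of_le hker
  have hWle : Nat.card W ≤ 432 := natCard_H0 ▸ Nat.card_le_card_of_injective _ W.subtype_injective
  have hWtop : W = ⊤ := Subgroup.eq_top_of_card_eq _ (by rw [natCard_H0]; omega)
  haveI hNn : N.Normal := Subgroup.normalizer_eq_top_iff.1 hWtop
  let e : H0 ≃* W := (MulEquiv.subgroupCongr hWtop.symm |> fun f => Subgroup.topEquiv.symm.trans f)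
  let φ' : H0 →* GL (Fin 2) (ZMod 3) := φ.comp e.toMonoidHom
  have hφ' : Function.Surjective φ' := hsurj.comp e.surjective
  have hkereq : N = φ'.ker := by
    refine Subgroup.eq_of_le_of_card_ge (fun x hx => ?_) ?_
    · exact hker (show ((e x : W) : H0) ∈ N from hx)
    · have := φ'.ker.card_mul_index
      rw [Subgroup.index_ker, MonoidHom.range_eq_top.2 hφ', Subgroup.card_top, natCard_H0,
        show Nat.card (GL (Fin 2) (ZMod 3)) = 48 by rw [Matrix.card_GL_field]; simp [Fin.prod_univ_two]] at this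
      omega
  exact ⟨N, hNn, hNcard, ⟨(QuotientGroup.quotientMulEquivOfEq hkereq).trans
    (QuotientGroup.quotientKerEquivOfSurjective φ' hφ')⟩⟩

theorem transitive_ref {p q : GolayPt} (hp : p ∈ dec dod0) (hq : q ∈ dec dod0) :
    ∃ g ∈ H0, ((g : ↥M24) : Equiv.Perm GolayPt) p = q := by
  have hgen := refsOK_mem refs_checks.1
  have hall : ∀ r ∈ dec dod0, ∃ g ∈ fixRefs [[dod0], quart0], g (pt 0) = r := by
    intro r hr
    rw [← orbit_check] at hr
    refine closeUp_subset (fun P hP => (hgen P (List.mem_append_right _ hP)).1)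
      (fun P hP => (hgen P (List.mem_append_right _ hP)).2) 12 (2 ^ 0) ?_ r hr
    intro t ht
    rw [dec_two_pow (by norm_num), Finset.mem_singleton] at ht
    exact ⟨1, one_mem _, by rw [ht]; rfl⟩
  obtain ⟨g, hg, hgp⟩ := hall p hp
  obtain ⟨h, hh, hhq⟩ := hall q hq
  have hm := mul_mem hh (inv_mem hg)
  refine ⟨_, mem_H0_of_refs hm, ?_⟩
  show (h * g⁻¹) p = q
  rw [← hgp, Equiv.Perm.mul_apply, show g⁻¹ (g (pt 0)) = pt 0 by simp, hhq]

theorem quartet_stabilizer {d : Finset GolayPt} (hd : d ∈ dodecads) {Q : Finset (Finset GolayPt)}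
    (hQ : Q ∈ quartets d) :
    Nat.card ↥(MulAction.stabilizer M24 d ⊓ MulAction.stabilizer M24 Q) = 432 ∧
    (∃ (N : Subgroup ↥(MulAction.stabilizer M24 d ⊓ MulAction.stabilizer M24 Q)) (_ : N.Normal),
      Nat.card N = 9 ∧
        Nonempty (↥(MulAction.stabilizer M24 d ⊓ MulAction.stabilizer M24 Q) ⧸ N ≃* GL (Fin 2) (ZMod 3))) ∧
    ∀ p ∈ d, ∀ q ∈ d, ∃ g ∈ (MulAction.stabilizer M24 d ⊓ MulAction.stabilizer M24 Q),
      ((g : ↥M24) : Equiv.Perm GolayPt) p = q := by
  obtain ⟨g, hg, rfl, rfl, -⟩ := quartet_stabilizer_orbits hd hQ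
  set k : ↥M24 := ⟨g, hg⟩ with hk
  have hmap : MulAction.stabilizer M24 (g • dec dod0) ⊓ MulAction.stabilizer M24 (g • objF quart0) =
      H0.map (MulAut.conj k).toMonoidHom := by
    rw [H0, Subgroup.map_inf _ _ _ (MulAut.conj k).injective,
      ← MulAction.stabilizer_smul_eq_stabilizer_map_conj, ← MulAction.stabilizer_smul_eq_stabilizer_map_conj]
    rfl
  let e : H0 ≃* ↥(MulAction.stabilizer M24 (g • dec dod0) ⊓ MulAction.stabilizer M24 (g • objF quart0)) :=
    (Subgroup.equivMapOfInjective _ _ (MulAut.conj k).injective).trans (MulEquiv.subgroupCongr hmap.symm)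
  refine ⟨(Nat.card_congr e.toEquiv).symm.trans natCard_H0, ?_, ?_⟩
  · obtain ⟨N, hN, hc, ⟨f⟩⟩ := structure_ref
    haveI := hN
    haveI hN' : (N.map e.toMonoidHom).Normal := hN.map _ e.surjective
    exact ⟨_, hN', by rw [Subgroup.card_map_of_injective e.injective, hc],
      ⟨(QuotientGroup.congr N (N.map e.toMonoidHom) e rfl).symm.trans f⟩⟩
  · intro p hp q hq
    obtain ⟨p', hp', rfl⟩ := Finset.mem_smul_finset.1 hp
    obtain ⟨q', hq', rfl⟩ := Finset.mem_smul_finset.1 hq
    obtain ⟨x, hx, hxp⟩ := transitive_ref hp' hq'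
    refine ⟨_, (e ⟨x, hx⟩).2, ?_⟩
    show (g * ((x : ↥M24) : Equiv.Perm GolayPt) * g⁻¹) (g p') = g q'
    rw [Equiv.Perm.mul_apply, Equiv.Perm.mul_apply, show g⁻¹ (g p') = p' by simp, hxp]

end CfsgLib.Golay.QuartetAGL
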