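import Cfsg.Agent.Lib.Golay.Systems.Orbits
import Cfsg.Agent.Lib.Golay.Systems.QuartetData
import Cfsg.Agent.Lib.Golay.Systems.QuartetWalks
import Cfsg.Agent.Lib.Golay.Systems.HexadData
import Cfsg.Agent.Lib.Golay.CodeLists

/-!
Kernel checks of the list of quartets and of the orbit walks on it.
-/

set_option autoImplicit false
-- the checks run one after another, which keeps the peak memory low
set_option Elab.async false
set_option maxRecDepth 20000

namespace CfsgLib.Golay

/-- checks of one packed quartet -/
def quartOK (u : List ℕ) : Bool :=
  u.length == 4 && u.all (fun a => pop 24 a == 3 && a &&& dod0 == a) &&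
    u.all fun a => u.all fun b => a == b || hexMem (a ||| b)

/-- every quartet with a triple through `p` is listed -/
def quartCover (t : STree) (p : ℕ) : Bool :=
  (tripLit.filter fun a => a.testBit p).all fun a =>
    let cs := tripLit.filter fun b => a &&& b == 0 && hexMem (a ||| b)
    cs.all fun b => cs.all fun c => !hexMem (b ||| c) ||
      (t.find [a, b, c, dod0 ^^^ (a ||| b ||| c)]).isSome

theorem quartTree_ok : quartTree.ok 220 = true := by decide +kernel

theorem quartTree_items : quartTree.items.all (fun e => quartOK e.1) = true := by decide +kernel

theorem quartTree_cover : quartCover quartTree 0 = true := by decide +kernel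

theorem hexLit_sound : hexLit.all (fun m => pop 24 m == 6 && decide (m < 16777216) &&
    octLit.any fun o => o &&& dod0 == m) = true := by decide +kernel

theorem hexLit_complete : octLit.all (fun o => pop 24 (o &&& dod0) != 6 ||
    hexMem (o &&& dod0)) = true := by decide +kernel

theorem tripLit_complete : (List.range 24).all (fun i => !dod0.testBit i ||
    (List.range 24).all fun j => !dod0.testBit j || i == j ||
      (List.range 24).all fun k => !dod0.testBit k || i == k || j == k ||
        tripMem (2 ^ i ||| 2 ^ j ||| 2 ^ k)) = true := by decide +kernel

theorem quart_walk : refsOK [[dod0]] quartGens = true ∧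
    coverOK quartTree quartGens quartW (fun _ => true) = true ∧
    quartTree.items.length = 220 := by decide +kernel

theorem qq_walks : refsOK [[dod0], quart0] qqGens = true ∧
    coverOK quartTree qqGens qqW0 (fun u => sigL quart0 u == 1060900) = true ∧
    coverOK quartTree qqGens qqW1 (fun u => sigL quart0 u == 267100) = true ∧
    coverOK quartTree qqGens qqW2 (fun u => sigL quart0 u == 21904) = true ∧
    coverOK quartTree qqGens qqW3 (fun u => sigL quart0 u == 17053) = true ∧
    coverOK quartTree qqGens qqW4 (fun u => sigL quart0 u == 7351) = true := by decide +kernel

theorem qq_counts : quartTree.objs.countP (fun u => sigL quart0 u == 1060900) = 1 ∧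
    quartTree.objs.countP (fun u => sigL quart0 u == 267100) = 12 ∧
    quartTree.objs.countP (fun u => sigL quart0 u == 21904) = 27 ∧
    quartTree.objs.countP (fun u => sigL quart0 u == 17053) = 72 ∧
    quartTree.objs.countP (fun u => sigL quart0 u == 7351) = 108 ∧
    quartTree.objs.all (fun u => [1060900, 267100, 21904, 17053, 7351].contains (sigL quart0 u)) = true ∧
    quart0.all (fun m => decide (m < 16777216)) = true ∧ quart0.Nodup ∧
    (quartTree.find quart0).isSome = true := by decide +kernel

theorem three_checks : threeGens.all (fun P => inM24 P && mimgB 24 dod0 P == dod0 &&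
      threePts.all fun i => ap P i == i) = true ∧
    (List.range 24).all (fun i => dod0.testBit i || threeGens.any fun P => ap P 6 == i) = true ∧
    threePts.all (fun i => decide (i < 24) && dod0.testBit i) = true ∧
    threePts.Nodup ∧ dod0.testBit 6 = false ∧ dod0.testBit 0 = true := by decide +kernel

end CfsgLib.Golay
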