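import Cfsg.Agent.Lib.Golay.Systems.Quartets

/-!
Two disjoint triples making a hexad lie in exactly one quartet.
-/

set_option autoImplicit false
set_option maxRecDepth 20000

namespace CfsgLib.Golay

open Cfsg
open scoped Pointwise

/-- each admissible pair of triples is in exactly one listed quartet -/
def pairUniq (t : STree) : Bool :=
  tripLit.all fun a =>
    let A := t.objs.filter fun u => u.contains a
    tripLit.all fun b => !(a &&& b == 0 && hexMem (a ||| b)) ||
      (A.filter fun u => u.contains b).length == 1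

theorem quartTree_pairs : pairUniq quartTree = true := by decide +kernel

attribute [local irreducible] quartTree

theorem quartet_pair_unique {d : Finset GolayPt} (hd : d ∈ dodecads) {t u : Finset GolayPt}
    (ht : t.card = 3) (hu : u.card = 3) (htu : Disjoint t u) (hh : t ∪ u ∈ hexadsOn d) :
    ∃! Q : Finset (Finset GolayPt), Q ∈ quartets d ∧ t ∈ Q ∧ u ∈ Q := by
  obtain ⟨g, hg, rfl⟩ := exists_smul_dod0 hd
  have hh0 : g⁻¹ • (t ∪ u) ∈ hexadsOn (dec dod0) := by
    have := smul_mem_hexadsOn (inv_mem hg) hh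
    rwa [inv_smul_smul] at this
  have hsub : g⁻¹ • (t ∪ u) ⊆ dec dod0 := by
    obtain ⟨-, o, -, ho⟩ := hh0
    rw [← ho]
    exact Finset.inter_subset_right
  rw [Finset.smul_finset_union] at hh0 hsub
  obtain ⟨a, ha, halt, hae⟩ := triple_mask (by rw [Finset.card_smul_finset, ht])
    (Finset.union_subset_left hsub)
  obtain ⟨b, hb, hblt, hbe⟩ := triple_mask (by rw [Finset.card_smul_finset, hu])
    (Finset.union_subset_right hsub)
  have hdis : a &&& b = 0 := by
    refine dec_inj (lt_of_le_of_lt Nat.and_le_left halt) (by norm_num) ?_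
    rw [dec_and, hae, hbe, ← Finset.smul_finset_inter, Finset.disjoint_iff_inter_eq_empty.1 htu,
      Finset.smul_finset_empty]
    exact (Finset.card_eq_zero.1 (by rw [card_dec_eq_pop]; rfl)).symm
  have hhex : hexMem (a ||| b) = true :=
    hexMem_of_hexad (Nat.or_lt_two_pow halt hblt) (by rw [dec_or, hae, hbe]; exact hh0)
  have hchk := quartTree_pairs
  simp only [pairUniq, List.all_eq_true, Bool.or_eq_true, Bool.not_eq_true', beq_iff_eq] at hchk
  have h1 := (hchk a ha b hb).resolve_left (by simp [hdis, hhex])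
  obtain ⟨v, hv⟩ := List.length_eq_one_iff.1 h1
  have hvm : v ∈ (quartTree.objs.filter fun u => u.contains a).filter fun u => u.contains b := by
    rw [hv]; exact List.mem_cons_self
  simp only [List.mem_filter, List.contains_iff_mem] at hvm
  have hobj : ∀ m, m < 2 ^ 24 → ∀ w ∈ quartTree.objs, dec m ∈ objF w → m ∈ w := by
    intro m hm w hw h
    obtain ⟨e, he, rfl⟩ := List.mem_map.1 hw
    simp only [objF, List.mem_toFinset, List.mem_map] at h
    obtain ⟨n, hn, hne⟩ := h
    rwa [← dec_inj (quartTree.items_lt e he n hn) hm hne]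
  have hmem : ∀ m w, m ∈ w → dec m ∈ objF w := fun m w h => by
    simp only [objF, List.mem_toFinset, List.mem_map]
    exact ⟨m, h, rfl⟩
  refine ⟨g • objF v, ⟨smul_mem_quartets hg (objF_mem_quartets hvm.1.1), ?_, ?_⟩, ?_⟩
  · rw [← Finset.inv_smul_mem_iff, ← hae]; exact hmem a v hvm.1.2
  · rw [← Finset.inv_smul_mem_iff, ← hbe]; exact hmem b v hvm.2
  · rintro Q ⟨hQ, htQ, huQ⟩
    rw [quartets_smul hg] at hQ
    obtain ⟨X, hX, rfl⟩ := hQ
    obtain ⟨w, hw, rfl⟩ := exists_listed_quartet hX
    have hwa : a ∈ w := hobj a halt w hw (by rw [hae]; exact Finset.inv_smul_mem_iff.2 htQ)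
    have hwb : b ∈ w := hobj b hblt w hw (by rw [hbe]; exact Finset.inv_smul_mem_iff.2 huQ)
    have hm : w ∈ (quartTree.objs.filter fun u => u.contains a).filter fun u => u.contains b := by
      simp [List.mem_filter, hw, hwa, hwb]
    rw [hv, List.mem_singleton] at hm
    rw [hm]

end CfsgLib.Golay
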