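import Cfsg.Agent.Lib.Golay.Systems.QuartetChecks
import Cfsg.Agent.Lib.Golay.Systems.Families

/-!
The quartets of a dodecad and the orbits of its stabilizer on them.
-/

set_option autoImplicit false
set_option maxRecDepth 20000

namespace CfsgLib.Golay

open Cfsg
open scoped Pointwise

attribute [local irreducible] quartTree trioTree sextTree

theorem smul_mem_hexadsOn {g : Equiv.Perm GolayPt} (hg : g ∈ M24) {d h : Finset GolayPt}
    (hh : h ∈ hexadsOn d) : g • h ∈ hexadsOn (g • d) := by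
  obtain ⟨h6, o, ho, rfl⟩ := hh
  exact ⟨by rw [Finset.card_smul_finset]; exact h6, g • o, smul_mem_octads hg ho,
    (Finset.smul_finset_inter).symm⟩

theorem smul_mem_quartets {g : Equiv.Perm GolayPt} (hg : g ∈ M24) {d : Finset GolayPt}
    {Q : Finset (Finset GolayPt)} (hQ : Q ∈ quartets d) : g • Q ∈ quartets (g • d) := by
  refine ⟨by rw [Finset.card_smul_finset]; exact hQ.1, fun t ht => ?_, fun t ht u hu hne => ?_⟩
  · obtain ⟨t', ht', rfl⟩ := Finset.mem_smul_finset.1 ht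
    exact ⟨by rw [Finset.card_smul_finset]; exact (hQ.2.1 t' ht').1,
      Finset.smul_finset_subset_smul_finset (hQ.2.1 t' ht').2⟩
  · obtain ⟨t', ht', rfl⟩ := Finset.mem_smul_finset.1 ht
    obtain ⟨u', hu', rfl⟩ := Finset.mem_smul_finset.1 hu
    rw [← Finset.smul_finset_union]
    exact smul_mem_hexadsOn hg (hQ.2.2 t' ht' u' hu' fun e => hne (by rw [e]))

theorem quartets_smul {g : Equiv.Perm GolayPt} (hg : g ∈ M24) (d : Finset GolayPt) :
    quartets (g • d) = (fun Q => g • Q) '' quartets d := by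
  ext Q
  constructor
  · intro hQ
    refine ⟨g⁻¹ • Q, ?_, smul_inv_smul g Q⟩
    have := smul_mem_quartets (inv_mem hg) hQ
    rwa [inv_smul_smul] at this
  · rintro ⟨X, hX, rfl⟩
    exact smul_mem_quartets hg hX

theorem hexMem_mem {m : ℕ} (h : hexMem m = true) : m ∈ hexLit := by
  simp only [hexMem, List.contains_iff_mem] at h
  rcases Nat.lt_or_ge (dodKey m) hexTab.length with hl | hl
  · rw [List.getD_eq_getElem _ _ hl] at h
    exact List.mem_flatten.2 ⟨_, List.getElem_mem hl, h⟩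
  · rw [List.getD_eq_default _ _ hl] at h
    simp at h

theorem hexad_of_hexMem {m : ℕ} (h : hexMem m = true) : dec m ∈ hexadsOn (dec dod0) := by
  have hs := List.all_eq_true.1 hexLit_sound m (hexMem_mem h)
  simp only [Bool.and_eq_true, beq_iff_eq, decide_eq_true_eq, List.any_eq_true] at hs
  obtain ⟨⟨h6, -⟩, o, ho, e⟩ := hs
  refine ⟨by rw [card_dec_eq_pop, h6], dec o, ?_, by rw [← dec_and, e]⟩
  obtain ⟨hc, h8⟩ := mem_octLit_iff.1 ho
  exact dec_mem_octads (inC_iff_mem_codeList.2 hc) h8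

theorem hexMem_of_hexad {m : ℕ} (hm : m < 2 ^ 24) (h : dec m ∈ hexadsOn (dec dod0)) :
    hexMem m = true := by
  obtain ⟨h6, o, ho, he⟩ := h
  obtain ⟨om, hom, -, rfl⟩ := octad_mask ho
  have hlt : om &&& dod0 < 2 ^ 24 := lt_of_le_of_lt Nat.and_le_right (by decide +kernel)
  obtain rfl : om &&& dod0 = m := dec_inj hlt hm (by rw [dec_and, he])
  have hc := List.all_eq_true.1 hexLit_complete om hom
  simp only [Bool.or_eq_true, bne_iff_ne] at hc
  exact hc.resolve_left fun h' => h' (by rw [← card_dec_eq_pop, h6])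

theorem quartet_disjoint {d : Finset GolayPt} {Q : Finset (Finset GolayPt)} (hQ : Q ∈ quartets d)
    {t u : Finset GolayPt} (ht : t ∈ Q) (hu : u ∈ Q) (hne : t ≠ u) : Disjoint t u := by
  rw [← Finset.card_union_eq_card_add_card, (hQ.2.2 t ht u hu hne).1, (hQ.2.1 t ht).1, (hQ.2.1 u hu).1]

theorem objF_mem_quartets {u : List ℕ} (hu : u ∈ quartTree.objs) : objF u ∈ quartets (dec dod0) := by
  obtain ⟨e, he, rfl⟩ := List.mem_map.1 hu
  have hlt := quartTree.items_lt e he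
  have hnd := (STree.ok_find quartTree_ok he).2
  have h := List.all_eq_true.1 quartTree_items e he
  simp only [quartOK, Bool.and_eq_true, beq_iff_eq, List.all_eq_true, Bool.or_eq_true] at h
  obtain ⟨⟨hlen, ha⟩, hpair⟩ := h
  refine ⟨?_, ?_, ?_⟩
  · rw [objF, List.toFinset_card_of_nodup (objF_inj_on hlt hnd), List.length_map, hlen]
  · intro t ht
    simp only [objF, List.mem_toFinset, List.mem_map] at ht
    obtain ⟨a, haQ, rfl⟩ := ht
    exact ⟨by rw [card_dec_eq_pop, (ha a haQ).1],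
      Finset.inter_eq_left.1 (by rw [← dec_and, (ha a haQ).2])⟩
  · intro t ht s hs hne
    simp only [objF, List.mem_toFinset, List.mem_map] at ht hs
    obtain ⟨a, haQ, rfl⟩ := ht
    obtain ⟨b, hbQ, rfl⟩ := hs
    rcases hpair a haQ b hbQ with hab | hab
    · exact absurd (by rw [hab]) hne
    · rw [← dec_or]; exact hexad_of_hexMem hab

theorem tripMem_mem {m : ℕ} (h : tripMem m = true) : m ∈ tripLit := by
  simp only [tripMem, List.contains_iff_mem] at h
  rcases Nat.lt_or_ge (dodKey m) tripTab.length with hl | hl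
  · rw [List.getD_eq_getElem _ _ hl] at h
    exact List.mem_flatten.2 ⟨_, List.getElem_mem hl, h⟩
  · rw [List.getD_eq_default _ _ hl] at h
    simp at h

theorem triple_mask {t : Finset GolayPt} (h3 : t.card = 3) (hsub : t ⊆ dec dod0) :
    ∃ m ∈ tripLit, m < 2 ^ 24 ∧ dec m = t := by
  obtain ⟨a, b, c, hab, hac, hbc, rfl⟩ := Finset.card_eq_three.1 h3
  simp only [Finset.insert_subset_iff, Finset.singleton_subset_iff, mem_dec] at hsub
  have hc := tripLit_complete
  simp only [List.all_eq_true, List.mem_range, Bool.or_eq_true, Bool.not_eq_true', beq_iff_eq] at hc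
  have := ((((hc _ (idx_lt a)).resolve_left (by simp [hsub.1])) _ (idx_lt b)).resolve_left
    (by simp [hsub.2.1, idx_injective.eq_iff, hab]))
  have := (this _ (idx_lt c)).resolve_left
    (by simp [hsub.2.2, idx_injective.eq_iff, hac, hbc])
  refine ⟨_, tripMem_mem this, ?_, ?_⟩
  · refine Nat.or_lt_two_pow (Nat.or_lt_two_pow ?_ ?_) ?_ <;>
      exact Nat.pow_lt_pow_right (by norm_num) (idx_lt _)
  · simp only [dec_or, dec_two_pow (idx_lt _), pt_idx]
    ext x
    simp [or_assoc]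

theorem exists_listed_quartet {Q : Finset (Finset GolayPt)} (hQ : Q ∈ quartets (dec dod0)) :
    ∃ u ∈ quartTree.objs, objF u = Q := by
  classical
  have hcov : Q.biUnion id = dec dod0 := by
    refine Finset.eq_of_subset_of_card_le (Finset.biUnion_subset.2 fun t ht => (hQ.2.1 t ht).2) ?_
    rw [Finset.card_biUnion (s := Q) (t := id) (fun t ht u hu hne => quartet_disjoint hQ ht hu hne)]
    simp only [id]
    rw [Finset.sum_congr rfl (fun t ht => (hQ.2.1 t ht).1), Finset.sum_const, hQ.1, card_dec_eq_pop]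
    decide +kernel
  obtain ⟨o, hoQ, h0⟩ : ∃ t ∈ Q, pt 0 ∈ t := by
    have : pt 0 ∈ Q.biUnion id := by rw [hcov, mem_dec]; decide +kernel
    simpa using this
  have h3 : (Q.erase o).card = 3 := by rw [Finset.card_erase_of_mem hoQ, hQ.1]
  obtain ⟨a, b, c, hab, hac, hbc, he⟩ := Finset.card_eq_three.1 h3
  have mem : ∀ x, x = a ∨ x = b ∨ x = c → x ∈ Q ∧ x ≠ o := fun x hx => by
    have : x ∈ Q.erase o := by rw [he]; simpa using hx
    exact ⟨(Finset.mem_erase.1 this).2, (Finset.mem_erase.1 this).1⟩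
  obtain ⟨haQ, hao⟩ := mem a (Or.inl rfl)
  obtain ⟨hbQ, hbo⟩ := mem b (Or.inr (Or.inl rfl))
  obtain ⟨hcQ, hco⟩ := mem c (Or.inr (Or.inr rfl))
  have hQe : Q = {o, a, b, c} := by rw [← Finset.insert_erase hoQ, he]
  obtain ⟨om, hom, homl, rfl⟩ := triple_mask (hQ.2.1 o hoQ).1 (hQ.2.1 o hoQ).2
  obtain ⟨am, ham, haml, rfl⟩ := triple_mask (hQ.2.1 a haQ).1 (hQ.2.1 a haQ).2
  obtain ⟨bm, hbm, hbml, rfl⟩ := triple_mask (hQ.2.1 b hbQ).1 (hQ.2.1 b hbQ).2
  have hc : c = dec (dod0 ^^^ (om ||| am ||| bm)) := by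
    ext p
    have hsub := fun (h : p ∈ c) => (hQ.2.1 c hcQ).2 h
    have d1 := fun (h : p ∈ c) => Finset.disjoint_left.1 (quartet_disjoint hQ hcQ hoQ hco) h
    have d2 := fun (h : p ∈ c) => Finset.disjoint_left.1 (quartet_disjoint hQ hcQ haQ (Ne.symm hac)) h
    have d3 := fun (h : p ∈ c) => Finset.disjoint_left.1 (quartet_disjoint hQ hcQ hbQ (Ne.symm hbc)) h
    have s1 := fun (h : p ∈ dec om) => (hQ.2.1 _ hoQ).2 h
    have s2 := fun (h : p ∈ dec am) => (hQ.2.1 _ haQ).2 h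
    have s3 := fun (h : p ∈ dec bm) => (hQ.2.1 _ hbQ).2 h
    have hall : p ∈ dec dod0 → p ∈ dec om ∨ p ∈ dec am ∨ p ∈ dec bm ∨ p ∈ c := fun h => by
      rw [← hcov, hQe] at h
      simpa using h
    simp only [mem_dec] at *
    rw [Nat.testBit_xor, Nat.testBit_or, Nat.testBit_or]
    by_cases hd : dod0.testBit (idx p) = true <;> by_cases hpc : p ∈ c <;>
      cases h1 : om.testBit (idx p) <;> cases h2 : am.testBit (idx p) <;>
        cases h3 : bm.testBit (idx p) <;> simp_all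
  have hdis : ∀ {x y : ℕ}, x < 2 ^ 24 → Disjoint (dec x) (dec y) → x &&& y = 0 := by
    intro x y hx h
    refine dec_inj (lt_of_le_of_lt Nat.and_le_left hx) (by norm_num) ?_
    rw [dec_and, Finset.disjoint_iff_inter_eq_empty.1 h]
    exact (Finset.card_eq_zero.1 (by rw [card_dec_eq_pop]; rfl)).symm
  have hhex : ∀ {x y : ℕ}, x < 2 ^ 24 → y < 2 ^ 24 → dec x ∈ Q → dec y ∈ Q → dec x ≠ dec y →
      hexMem (x ||| y) = true := fun hx hy hxQ hyQ hne =>
    hexMem_of_hexad (Nat.or_lt_two_pow hx hy) (by rw [dec_or]; exact hQ.2.2 _ hxQ _ hyQ hne)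
  have hchk := quartTree_cover
  simp only [quartCover, List.all_eq_true, List.mem_filter, Bool.and_eq_true, beq_iff_eq,
    Bool.or_eq_true, Bool.not_eq_true'] at hchk
  have hbit : om.testBit 0 = true := by
    have := h0
    rw [mem_dec, idx_pt 0 (by norm_num)] at this
    exact this
  have h := (hchk om ⟨hom, hbit⟩ am
    ⟨ham, hdis homl (quartet_disjoint hQ hoQ haQ (Ne.symm hao)), hhex homl haml hoQ haQ (Ne.symm hao)⟩
    bm ⟨hbm, hdis homl (quartet_disjoint hQ hoQ hbQ (Ne.symm hbo)), hhex homl hbml hoQ hbQ (Ne.symm hbo)⟩).resolve_left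
      (by simp [hhex haml hbml haQ hbQ hab])
  obtain ⟨u, hu, hue⟩ := find_mem h
  refine ⟨u, hu, ?_⟩
  rw [hue, hQe, hc]
  simp [objF]

theorem mem_quartets_iff {Q : Finset (Finset GolayPt)} :
    Q ∈ quartets (dec dod0) ↔ ∃ u ∈ quartTree.objs, objF u = Q :=
  ⟨exists_listed_quartet, fun ⟨_, hu, e⟩ => e ▸ objF_mem_quartets hu⟩

theorem ncard_quartets_filter {q : Finset (Finset GolayPt) → Prop} (f : List ℕ → Bool)
    (h : ∀ u ∈ quartTree.objs, q (objF u) ↔ f u = true) :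
    {X | X ∈ quartets (dec dod0) ∧ q X}.ncard = quartTree.objs.countP f := by
  have he : {X | X ∈ quartets (dec dod0) ∧ q X} = objF '' {u | u ∈ quartTree.objs.filter f} := by
    ext X
    simp only [Set.mem_setOf_eq, Set.mem_image, mem_quartets_iff, List.mem_filter]
    constructor
    · rintro ⟨⟨u, hu, rfl⟩, hq⟩; exact ⟨u, ⟨hu, (h u hu).1 hq⟩, rfl⟩
    · rintro ⟨u, ⟨hu, hf⟩, rfl⟩; exact ⟨⟨u, hu, rfl⟩, (h u hu).2 hf⟩
  rw [he, Set.InjOn.ncard_image (s := {u | u ∈ quartTree.objs.filter f}) fun a ha b hb e =>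
      STree.objF_inj quartTree_ok (List.mem_filter.1 ha).1 (List.mem_filter.1 hb).1 e,
    List.countP_eq_length_filter,
    ← List.toFinset_card_of_nodup ((STree.objs_nodup quartTree_ok).filter f), ← Set.ncard_coe_finset]
  congr 1
  ext u
  simp

theorem fixed_dod0 {g : Equiv.Perm GolayPt} {Rs : List (List ℕ)} (hg : g ∈ fixRefs ([dod0] :: Rs)) :
    g • dec dod0 = dec dod0 := by
  have := (mem_fixRefs.1 hg).2 [dod0] List.mem_cons_self
  rw [objF_singleton, Finset.smul_finset_singleton] at this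
  exact Finset.singleton_injective this

theorem quart_trans {X Y : Finset (Finset GolayPt)} (hX : X ∈ quartets (dec dod0))
    (hY : Y ∈ quartets (dec dod0)) : ∃ k ∈ M24, k • dec dod0 = dec dod0 ∧ k • X = Y := by
  obtain ⟨u, hu, rfl⟩ := mem_quartets_iff.1 hX
  obtain ⟨v, hv, rfl⟩ := mem_quartets_iff.1 hY
  obtain ⟨a, ha, hau⟩ := exists_of_coverOK quartTree_ok (refsOK_mem quart_walk.1) quart_walk.2.1 hu rfl
  obtain ⟨b, hb, hbv⟩ := exists_of_coverOK quartTree_ok (refsOK_mem quart_walk.1) quart_walk.2.1 hv rfl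
  have hk := mul_mem hb (inv_mem ha)
  exact ⟨b * a⁻¹, (mem_fixRefs.1 hk).1, fixed_dod0 hk, by rw [mul_smul, ← hau, inv_smul_smul, hbv]⟩

theorem quartets_count {d : Finset GolayPt} (hd : d ∈ dodecads) : (quartets d).ncard = 220 := by
  obtain ⟨g, hg, rfl⟩ := exists_smul_dod0 hd
  rw [quartets_smul hg, Set.ncard_image_of_injective _ (MulAction.injective g)]
  have h := ncard_quartets_filter (q := fun _ => True) (fun _ => true) (by simp)
  simp only [and_true, Set.setOf_mem_eq, List.countP_true, STree.objs, List.length_map,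
    quart_walk.2.2] at h
  exact h

theorem quartets_transitive {d : Finset GolayPt} (hd : d ∈ dodecads)
    {Q Q' : Finset (Finset GolayPt)} (hQ : Q ∈ quartets d) (hQ' : Q' ∈ quartets d) :
    ∃ g : Equiv.Perm GolayPt, g ∈ M24 ∧ g • d = d ∧ g • Q = Q' := by
  obtain ⟨g, hg, rfl⟩ := exists_smul_dod0 hd
  rw [quartets_smul hg] at hQ hQ'
  obtain ⟨X, hX, rfl⟩ := hQ
  obtain ⟨Y, hY, rfl⟩ := hQ'
  obtain ⟨k, hk, hkd, hkX⟩ := quart_trans hX hY
  refine ⟨g * k * g⁻¹, mul_mem (mul_mem hg hk) (inv_mem hg), ?_, ?_⟩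
  · rw [mul_smul, inv_smul_smul, mul_smul, hkd]
  · show _ • g • X = g • Y
    rw [mul_smul, inv_smul_smul, mul_smul, hkX]

/-- the quartets with a given signature against the base quartet, carried by `g` -/
def qClass (g : Equiv.Perm GolayPt) (c : ℕ) : Set (Finset (Finset GolayPt)) :=
  {X | X ∈ quartets (g • dec dod0) ∧ sigF (g • objF quart0) X = c}

theorem quart0_nodup : quart0.Nodup := qq_counts.2.2.2.2.2.2.2.1

theorem quart0_lt : ∀ m ∈ quart0, m < 2 ^ 24 := fun m hm => by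
  have := List.all_eq_true.1 qq_counts.2.2.2.2.2.2.1 m hm
  norm_num
  simpa using this

theorem sig_quart {u : List ℕ} (hu : u ∈ quartTree.objs) :
    sigF (objF quart0) (objF u) = sigL quart0 u := by
  refine sigF_objF quart0_lt quart0_nodup (STree.objs_lt hu) ?_
  obtain ⟨e, he, rfl⟩ := List.mem_map.1 hu
  exact (STree.ok_find quartTree_ok he).2

theorem qClass_eq {g : Equiv.Perm GolayPt} (hg : g ∈ M24) (c : ℕ) :
    qClass g c = (fun X => g • X) '' {X | X ∈ quartets (dec dod0) ∧ sigF (objF quart0) X = c} := by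
  ext X
  simp only [qClass, quartets_smul hg, Set.mem_setOf_eq, Set.mem_image]
  constructor
  · rintro ⟨⟨Y, hY, rfl⟩, hc⟩
    exact ⟨Y, ⟨hY, by rw [← hc, sigF_smul]⟩, rfl⟩
  · rintro ⟨Y, ⟨hY, hc⟩, rfl⟩
    exact ⟨⟨Y, hY, rfl⟩, by rw [sigF_smul, hc]⟩

theorem ncard_qClass {g : Equiv.Perm GolayPt} (hg : g ∈ M24) {c n : ℕ}
    (hn : quartTree.objs.countP (fun u => sigL quart0 u == c) = n) : (qClass g c).ncard = n := by
  rw [qClass_eq hg, Set.ncard_image_of_injective _ (MulAction.injective g),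
    ncard_quartets_filter (fun u => sigL quart0 u == c) fun u hu => by rw [sig_quart hu, beq_iff_eq], hn]

theorem orbit_qClass {g : Equiv.Perm GolayPt} (hg : g ∈ M24) {c : ℕ} {w : List ℕ × ℕ × ℕ × ℕ}
    (hw : coverOK quartTree qqGens w (fun u => sigL quart0 u == c) = true)
    {X : Finset (Finset GolayPt)} (hX : X ∈ qClass g c) :
    MulAction.orbit ↥(MulAction.stabilizer M24 (g • dec dod0) ⊓ MulAction.stabilizer M24 (g • objF quart0)) X =
      qClass g c := by
  ext Y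
  constructor
  · rintro ⟨⟨k, hk⟩, rfl⟩
    obtain ⟨hkd, hkQ⟩ := Subgroup.mem_inf.1 hk
    have hkd' : (k : Equiv.Perm GolayPt) • (g • dec dod0) = g • dec dod0 := hkd
    have hkQ' : (k : Equiv.Perm GolayPt) • (g • objF quart0) = g • objF quart0 := hkQ
    refine ⟨?_, ?_⟩
    · have := smul_mem_quartets k.2 hX.1
      rw [hkd'] at this
      exact this
    · have := sigF_smul (k : Equiv.Perm GolayPt) (g • objF quart0) X
      rw [hkQ', hX.2] at this
      exact this
  · intro hY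
    rw [qClass_eq hg] at hX hY
    obtain ⟨X', ⟨hX', hXc⟩, rfl⟩ := hX
    obtain ⟨Y', ⟨hY', hYc⟩, rfl⟩ := hY
    obtain ⟨u, hu, rfl⟩ := mem_quartets_iff.1 hX'
    obtain ⟨v, hv, rfl⟩ := mem_quartets_iff.1 hY'
    rw [sig_quart hu] at hXc
    rw [sig_quart hv] at hYc
    obtain ⟨a, ha, hau⟩ := exists_of_coverOK quartTree_ok (refsOK_mem qq_walks.1) hw hu (by simpa using hXc)
    obtain ⟨b, hb, hbv⟩ := exists_of_coverOK quartTree_ok (refsOK_mem qq_walks.1) hw hv (by simpa using hYc)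
    have hk := mul_mem hb (inv_mem ha)
    have hab := mem_fixRefs.1 hk
    have hM : g * (b * a⁻¹) * g⁻¹ ∈ M24 := mul_mem (mul_mem hg hab.1) (inv_mem hg)
    refine ⟨⟨⟨_, hM⟩, Subgroup.mem_inf.2 ⟨?_, ?_⟩⟩, ?_⟩
    · show (g * (b * a⁻¹) * g⁻¹) • (g • dec dod0) = g • dec dod0
      rw [mul_smul, inv_smul_smul, mul_smul, fixed_dod0 hk]
    · show (g * (b * a⁻¹) * g⁻¹) • (g • objF quart0) = g • objF quart0
      rw [mul_smul, inv_smul_smul, mul_smul, hab.2 quart0 (by simp)]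
    · show (g * (b * a⁻¹) * g⁻¹) • g • objF u = g • objF v
      rw [mul_smul, inv_smul_smul, mul_smul, mul_smul, ← hau, inv_smul_smul, hbv]

theorem quart0_mem : objF quart0 ∈ quartets (dec dod0) := by
  obtain ⟨u, hu, e⟩ := find_mem qq_counts.2.2.2.2.2.2.2.2
  exact e ▸ objF_mem_quartets hu

theorem quartet_stabilizer_orbits {d : Finset GolayPt} (hd : d ∈ dodecads)
    {Q : Finset (Finset GolayPt)} (hQ : Q ∈ quartets d) :
    ∃ g ∈ M24, g • dec dod0 = d ∧ g • objF quart0 = Q ∧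
      (qClass g 1060900).ncard = 1 ∧ (qClass g 267100).ncard = 12 ∧ (qClass g 21904).ncard = 27 ∧
      (qClass g 17053).ncard = 72 ∧ (qClass g 7351).ncard = 108 ∧
      quartets d = qClass g 1060900 ∪ qClass g 267100 ∪ qClass g 21904 ∪ qClass g 17053 ∪ qClass g 7351 ∧
      qClass g 1060900 = {Q} := by
  obtain ⟨g, hg, rfl⟩ := exists_smul_dod0 hd
  have hQ0 := smul_mem_quartets hg quart0_mem
  obtain ⟨k, hk, hkd, hkQ⟩ := quartets_transitive hd hQ0 hQ
  have hkg : k * g ∈ M24 := mul_mem hk hg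
  have hd' : (k * g) • dec dod0 = g • dec dod0 := by rw [mul_smul, hkd]
  have hQ' : (k * g) • objF quart0 = Q := by rw [mul_smul, hkQ]
  obtain ⟨c1, c2, c3, c4, c5, hvals, -⟩ := qq_counts
  refine ⟨k * g, hkg, hd', hQ', ncard_qClass hkg c1, ncard_qClass hkg c2, ncard_qClass hkg c3,
    ncard_qClass hkg c4, ncard_qClass hkg c5, ?_, ?_⟩
  · rw [← hd', quartets_smul hkg]
    ext X
    simp only [qClass_eq hkg, Set.mem_union, Set.mem_image, Set.mem_setOf_eq]
    constructor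
    · rintro ⟨Y, hY, rfl⟩
      obtain ⟨u, hu, rfl⟩ := mem_quartets_iff.1 hY
      have := List.all_eq_true.1 hvals u hu
      simp only [List.contains_iff_mem, List.mem_cons, List.not_mem_nil, or_false] at this
      rcases this with h | h | h | h | h <;> rw [← sig_quart hu] at h
      exacts [Or.inl (Or.inl (Or.inl (Or.inl ⟨_, ⟨hY, h⟩, rfl⟩))),
        Or.inl (Or.inl (Or.inl (Or.inr ⟨_, ⟨hY, h⟩, rfl⟩))), Or.inl (Or.inl (Or.inr ⟨_, ⟨hY, h⟩, rfl⟩)),
        Or.inl (Or.inr ⟨_, ⟨hY, h⟩, rfl⟩), Or.inr ⟨_, ⟨hY, h⟩, rfl⟩]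
    · rintro ((((⟨Y, ⟨hY, -⟩, rfl⟩ | ⟨Y, ⟨hY, -⟩, rfl⟩) | ⟨Y, ⟨hY, -⟩, rfl⟩) | ⟨Y, ⟨hY, -⟩, rfl⟩) |
        ⟨Y, ⟨hY, -⟩, rfl⟩) <;> exact ⟨Y, hY, rfl⟩
  · obtain ⟨a, ha⟩ := Set.ncard_eq_one.1 (ncard_qClass hkg c1)
    have hmem : Q ∈ qClass (k * g) 1060900 := by
      refine ⟨by rw [hd']; exact hQ, ?_⟩
      obtain ⟨u, hu, e⟩ := mem_quartets_iff.1 quart0_mem
      rw [← hQ', sigF_smul, sigF_objF quart0_lt quart0_nodup quart0_lt quart0_nodup]
      decide +kernel
    rw [ha] at hmem ⊢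
    rw [Set.mem_singleton_iff.1 hmem]

end CfsgLib.Golay
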