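import Cfsg.Agent.Lib.Golay.Systems.Bundles
import Cfsg.Agent.Lib.Golay.Systems.Coatom
import Cfsg.Agent.Lib.Golay.Systems.SelfWalk.SxSx
import Cfsg.Agent.Lib.Golay.Systems.SelfWalk.TrTr

/-!
Orbits of the stabilizer of a sextet on sextets and of a trio on trios; both stabilizers are maximal.
-/

set_option autoImplicit false
set_option maxRecDepth 20000

namespace CfsgLib.Golay

open Cfsg
open scoped Pointwise

attribute [local irreducible] octTree dodTree trioTree sextTree

theorem Family.ncard_class_one (F : Family) {R0 : List ℕ} {G : List ℕ} {w : List ℕ × ℕ × ℕ × ℕ} {c : ℕ}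
    (h : classOK F.tree R0 G w c 1 = true) {g : Equiv.Perm GolayPt} (hg : g ∈ M24)
    (hR : g • objF R0 ∈ F.sets) (hc : sigF (g • objF R0) (g • objF R0) = c) :
    setS F.sets (g • objF R0) c = {g • objF R0} := by
  obtain ⟨x, hx⟩ := Set.ncard_eq_one.1 (F.ncard_class h hg)
  have hm : g • objF R0 ∈ setS F.sets (g • objF R0) c := ⟨hR, hc⟩
  rw [hx] at hm ⊢
  rw [hm]

theorem Family.coatom_of_classes (F : Family) {R0 : List ℕ} {cs : List ℕ} {n : ℕ → ℕ}
    (hv : valsOK F.tree R0 cs = true) (hnd : cs.Nodup)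
    (hcl : ∀ c ∈ cs, ∃ G w, classOK F.tree R0 G w c (n c) = true) {N : ℕ} (hN : F.sets.ncard = N) (h1 : 1 < N)
    (horb : MulAction.orbit M24 (objF R0) = F.sets) {c0 : ℕ} (hc0 : sigF (objF R0) (objF R0) = c0)
    (hchk : ∀ C ∈ cs.sublists, c0 ∈ C → N % (C.map n).sum = 0 → (C.map n).sum = 1 ∨ (C.map n).sum = N)
    {g : Equiv.Perm GolayPt} (hg : g ∈ M24) : IsCoatom (MulAction.stabilizer M24 (g • objF R0)) := by
  refine isCoatom_stabilizer_smul (x := objF R0) (⟨g, hg⟩ : ↥M24) ?_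
  have e1 : (1 : Equiv.Perm GolayPt) • objF R0 = objF R0 := one_smul _ _
  refine isCoatom_stabilizer_of_classes (N := N) (objF R0) horb (Set.toFinite _) (fun X => sigF (objF R0) X) cs n
    hnd (fun X hX => ?_) hN h1 (fun c hc => ?_) (fun y hy z hz e => ?_) fun C hC hx => hchk C hC (hc0 ▸ hx)
  · obtain ⟨c, hc, -, hXc⟩ := F.sig_mem hv (one_mem M24) hX
    rw [e1] at hXc
    show sigF (objF R0) X ∈ cs
    rw [hXc]; exact hc
  · obtain ⟨G, w, hG⟩ := hcl c hc
    have h := F.ncard_class hG (one_mem M24)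
    rw [e1] at h
    exact h
  · obtain ⟨c, hc, hyc⟩ := F.sig_mem hv (one_mem M24) hy
    obtain ⟨G, w, hG⟩ := hcl c hc
    have hzc : z ∈ setS F.sets ((1 : Equiv.Perm GolayPt) • objF R0) c := ⟨hz, by
      rw [e1]
      have := hyc.2
      rw [e1] at this
      exact e.symm.trans this⟩
    obtain ⟨k, hk, hkR, hky⟩ := F.trans_class hG (one_mem M24) hyc hzc
    rw [e1] at hkR
    exact ⟨⟨k, hk⟩, hkR, hky⟩

theorem sxSx_ref : sxSxRef = sxOctRef := by decide +kernel

theorem trTr_ref : trTrRef = trOctRef := by decide +kernel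

theorem self_sigs : sigL sxSxRef sxSxRef = 100909206 ∧ sxSxRef.Nodup ∧
    sigL trTrRef trTrRef = 844425131458572 ∧ trTrRef.Nodup ∧
    sxSxRef.all (fun m => decide (m < 16777216)) = true ∧ trTrRef.all (fun m => decide (m < 16777216)) = true ∧
    sextTree.objs.length = 1771 ∧ trioTree.objs.length = 3795 := by decide +kernel

theorem orbit_sextets : MulAction.orbit M24 (objF sxSxRef) = sextFam.sets := by
  ext X
  constructor
  · rintro ⟨g, rfl⟩; exact sextFam.smul_mem g.1 g.2 _ (sxSx_ref ▸ ref_sextet.1)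
  · intro hX
    obtain ⟨g, hg, rfl⟩ := exists_smul_ref_sextet hX
    exact ⟨⟨g, hg⟩, by rw [sxSx_ref]; rfl⟩

theorem orbit_trios : MulAction.orbit M24 (objF trTrRef) = trioFam.sets := by
  ext X
  constructor
  · rintro ⟨g, rfl⟩; exact trioFam.smul_mem g.1 g.2 _ (trTr_ref ▸ ref_trio.1)
  · intro hX
    obtain ⟨g, hg, rfl⟩ := exists_smul_ref_trio hX
    exact ⟨⟨g, hg⟩, by rw [trTr_ref]; rfl⟩

theorem sextet_self_orbits {S : Finset (Finset GolayPt)} (hS : S ∈ sextets) :
    ∃ X₁ ∈ sextets, ∃ X₂ ∈ sextets, ∃ X₃ ∈ sextets,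
      (MulAction.orbit ↥(MulAction.stabilizer M24 S) X₁).ncard = 90 ∧
      (MulAction.orbit ↥(MulAction.stabilizer M24 S) X₂).ncard = 240 ∧
      (MulAction.orbit ↥(MulAction.stabilizer M24 S) X₃).ncard = 1440 ∧
      sextets = {S} ∪ MulAction.orbit ↥(MulAction.stabilizer M24 S) X₁ ∪
        MulAction.orbit ↥(MulAction.stabilizer M24 S) X₂ ∪ MulAction.orbit ↥(MulAction.stabilizer M24 S) X₃ ∧
      IsCoatom (MulAction.stabilizer M24 S) := by
  obtain ⟨h0, h1, h2, h3, hv⟩ := sxSx_ok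
  obtain ⟨g, hg, hgS⟩ := exists_smul_ref_sextet hS
  rw [← sxSx_ref] at hgS
  subst hgS
  obtain ⟨X1, hX1⟩ := sextFam.exists_mem_class h1 hg
  obtain ⟨X2, hX2⟩ := sextFam.exists_mem_class h2 hg
  obtain ⟨X3, hX3⟩ := sextFam.exists_mem_class h3 hg
  have hlt : ∀ m ∈ sxSxRef, m < 2 ^ 24 := fun m hm => by
    have := List.all_eq_true.1 self_sigs.2.2.2.2.1 m hm
    rw [decide_eq_true_eq] at this
    exact this
  have hself : sigF (objF sxSxRef) (objF sxSxRef) = 100909206 :=
    (sigF_objF hlt self_sigs.2.1 hlt self_sigs.2.1).trans self_sigs.1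
  refine ⟨X1, hX1.1, X2, hX2.1, X3, hX3.1, ?_⟩
  simp only [sextFam.orbit_class h1 hg hX1, sextFam.orbit_class h2 hg hX2, sextFam.orbit_class h3 hg hX3,
    sextFam.ncard_class h1 hg, sextFam.ncard_class h2 hg, sextFam.ncard_class h3 hg, true_and]
  have hone := sextFam.ncard_class_one h0 hg hS (by rw [sigF_smul, hself])
  refine ⟨?_, ?_⟩
  · ext X
    constructor
    · intro hX
      obtain ⟨c, hc, hXc⟩ := sextFam.sig_mem hv hg hX
      simp only [List.mem_cons, List.not_mem_nil, or_false] at hc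
      rcases hc with rfl | rfl | rfl | rfl
      · exact Or.inl (Or.inl (Or.inl (hone ▸ hXc)))
      · exact Or.inl (Or.inl (Or.inr hXc))
      · exact Or.inl (Or.inr hXc)
      · exact Or.inr hXc
    · rintro (((hX | hX) | hX) | hX)
      · rw [Set.mem_singleton_iff.1 hX]; exact hS
      all_goals exact hX.1
  · refine sextFam.coatom_of_classes (n := fun c => if c = 100909206 then 1 else if c = 104544 then 90 else
      if c = 553776 then 240 else 1440) hv (by decide) ?_ ((Family.ncard_sets sextFam).trans self_sigs.2.2.2.2.2.2.1)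
      (by norm_num) orbit_sextets hself ?_ hg
    · intro c hc
      simp only [List.mem_cons, List.not_mem_nil, or_false] at hc
      rcases hc with rfl | rfl | rfl | rfl
      exacts [⟨_, _, h0⟩, ⟨_, _, h1⟩, ⟨_, _, h2⟩, ⟨_, _, h3⟩]
    · decide +kernel

theorem trio_self_orbits {T : Finset (Finset GolayPt)} (hT : T ∈ trios) :
    ∃ X₁ ∈ trios, ∃ X₂ ∈ trios, ∃ X₃ ∈ trios, ∃ X₄ ∈ trios,
      (MulAction.orbit ↥(MulAction.stabilizer M24 T) X₁).ncard = 42 ∧
      (MulAction.orbit ↥(MulAction.stabilizer M24 T) X₂).ncard = 56 ∧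
      (MulAction.orbit ↥(MulAction.stabilizer M24 T) X₃).ncard = 1008 ∧
      (MulAction.orbit ↥(MulAction.stabilizer M24 T) X₄).ncard = 2688 ∧
      trios = {T} ∪ MulAction.orbit ↥(MulAction.stabilizer M24 T) X₁ ∪
        MulAction.orbit ↥(MulAction.stabilizer M24 T) X₂ ∪ MulAction.orbit ↥(MulAction.stabilizer M24 T) X₃ ∪
        MulAction.orbit ↥(MulAction.stabilizer M24 T) X₄ ∧
      IsCoatom (MulAction.stabilizer M24 T) := by
  obtain ⟨h0, h1, h2, h3, h4, hv⟩ := trTr_ok
  obtain ⟨g, hg, hgT⟩ := exists_smul_ref_trio hT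
  rw [← trTr_ref] at hgT
  subst hgT
  obtain ⟨X1, hX1⟩ := trioFam.exists_mem_class h1 hg
  obtain ⟨X2, hX2⟩ := trioFam.exists_mem_class h2 hg
  obtain ⟨X3, hX3⟩ := trioFam.exists_mem_class h3 hg
  obtain ⟨X4, hX4⟩ := trioFam.exists_mem_class h4 hg
  have hlt : ∀ m ∈ trTrRef, m < 2 ^ 24 := fun m hm => by
    have := List.all_eq_true.1 self_sigs.2.2.2.2.2.1 m hm
    rw [decide_eq_true_eq] at this
    exact this
  have hself : sigF (objF trTrRef) (objF trTrRef) = 844425131458572 :=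
    (sigF_objF hlt self_sigs.2.2.2.1 hlt self_sigs.2.2.2.1).trans self_sigs.2.2.1
  refine ⟨X1, hX1.1, X2, hX2.1, X3, hX3.1, X4, hX4.1, ?_⟩
  simp only [trioFam.orbit_class h1 hg hX1, trioFam.orbit_class h2 hg hX2, trioFam.orbit_class h3 hg hX3,
    trioFam.orbit_class h4 hg hX4, trioFam.ncard_class h1 hg, trioFam.ncard_class h2 hg,
    trioFam.ncard_class h3 hg, trioFam.ncard_class h4 hg, true_and]
  have hone := trioFam.ncard_class_one h0 hg hT (by rw [sigF_smul, hself])
  refine ⟨?_, ?_⟩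
  · ext X
    constructor
    · intro hX
      obtain ⟨c, hc, hXc⟩ := trioFam.sig_mem hv hg hX
      simp only [List.mem_cons, List.not_mem_nil, or_false] at hc
      rcases hc with rfl | rfl | rfl | rfl | rfl
      · exact Or.inl (Or.inl (Or.inl (Or.inl (hone ▸ hXc))))
      · exact Or.inl (Or.inl (Or.inl (Or.inr hXc)))
      · exact Or.inl (Or.inl (Or.inr hXc))
      · exact Or.inl (Or.inr hXc)
      · exact Or.inr hXc
    · rintro ((((hX | hX) | hX) | hX) | hX)
      · rw [Set.mem_singleton_iff.1 hX]; exact hT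
      all_goals exact hX.1
  · refine trioFam.coatom_of_classes (n := fun c => if c = 844425131458572 then 1 else if c = 281475178070022 then 42
      else if c = 201375747 then 56 else if c = 102809601 then 1008 else 2688) hv (by decide) ?_
      ((Family.ncard_sets trioFam).trans self_sigs.2.2.2.2.2.2.2) (by norm_num) orbit_trios hself ?_ hg
    · intro c hc
      simp only [List.mem_cons, List.not_mem_nil, or_false] at hc
      rcases hc with rfl | rfl | rfl | rfl | rfl
      exacts [⟨_, _, h0⟩, ⟨_, _, h1⟩, ⟨_, _, h2⟩, ⟨_, _, h3⟩, ⟨_, _, h4⟩]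
    · decide +kernel

end CfsgLib.Golay
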