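import Cfsg.Agent.Lib.Golay.Systems.Bundles
import Cfsg.Agent.Lib.Golay.SylowTwoCert

/-!
The action of a stabilizer on the members of a system; transport to the reference systems.
-/

set_option autoImplicit false
set_option maxRecDepth 20000

namespace CfsgLib.Golay

open Cfsg CfsgLib.Golay.SylowTwo
open scoped Pointwise

theorem smul_stab_mem {S : Finset (Finset GolayPt)} (g : ↥(MulAction.stabilizer M24 S)) {t : Finset GolayPt}
    (ht : t ∈ S) : ((g : ↥M24) : Equiv.Perm GolayPt) • t ∈ S := by
  have h : ((g : ↥M24) : Equiv.Perm GolayPt) • S = S := g.2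
  have := Finset.smul_mem_smul_finset (a := ((g : ↥M24) : Equiv.Perm GolayPt)) ht
  rwa [h] at this

/-- the action of a stabilizer on the members -/
noncomputable def permOn (S : Finset (Finset GolayPt)) : ↥(MulAction.stabilizer M24 S) →* Equiv.Perm ↥S where
  toFun g :=
    { toFun := fun t => ⟨_, smul_stab_mem g t.2⟩
      invFun := fun t => ⟨_, smul_stab_mem g⁻¹ t.2⟩
      left_inv := fun t => Subtype.ext (inv_smul_smul ((g : ↥M24) : Equiv.Perm GolayPt) _)
      right_inv := fun t => Subtype.ext (smul_inv_smul ((g : ↥M24) : Equiv.Perm GolayPt) _) }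
  map_one' := Equiv.ext fun _ => Subtype.ext (one_smul _ _)
  map_mul' a b := Equiv.ext fun _ => Subtype.ext (mul_smul _ _ _)

theorem permOn_apply {S : Finset (Finset GolayPt)} (g : ↥(MulAction.stabilizer M24 S)) (t : ↥S) :
    ((permOn S g t : ↥S) : Finset GolayPt) = ((g : ↥M24) : Equiv.Perm GolayPt) • (t : Finset GolayPt) := rfl

/-- conjugation between the stabilizers -/
noncomputable def stabConj (k : ↥M24) (R : Finset (Finset GolayPt)) :
    ↥(MulAction.stabilizer M24 R) ≃* ↥(MulAction.stabilizer M24 (k • R)) :=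
  ((MulAut.conj k).subgroupMap _).trans
    (MulEquiv.subgroupCongr (MulAction.stabilizer_smul_eq_stabilizer_map_conj k R).symm)

theorem stabConj_coe (k : ↥M24) (R : Finset (Finset GolayPt)) (g : ↥(MulAction.stabilizer M24 R)) :
    ((stabConj k R g : ↥M24)) = k * (g : ↥M24) * k⁻¹ := rfl

theorem permOn_surjective_smul {R : Finset (Finset GolayPt)} (h : Function.Surjective (permOn R)) (k : ↥M24) :
    Function.Surjective (permOn (k • R)) := by
  intro e
  have hb : ∀ x, x ∈ R ↔ (k : Equiv.Perm GolayPt) • x ∈ k • R := fun x =>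
    (Finset.smul_mem_smul_finset_iff (k : Equiv.Perm GolayPt)).symm
  let b : ↥R ≃ ↥(k • R) :=
    { toFun := fun x => ⟨(k : Equiv.Perm GolayPt) • x.1, (hb _).1 x.2⟩
      invFun := fun y => ⟨(k : Equiv.Perm GolayPt)⁻¹ • y.1, (hb _).2 (by rw [smul_inv_smul]; exact y.2)⟩
      left_inv := fun x => Subtype.ext (inv_smul_smul _ _)
      right_inv := fun y => Subtype.ext (smul_inv_smul _ _) }
  obtain ⟨g, hg⟩ := h ((b.trans e).trans b.symm)
  refine ⟨stabConj k R g, Equiv.ext fun t => Subtype.ext ?_⟩
  have h1 := congrArg Subtype.val (congrArg b (Equiv.congr_fun hg (b.symm t)))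
  simp only [Equiv.trans_apply, Equiv.apply_symm_apply] at h1
  rw [← h1, permOn_apply, stabConj_coe]
  show (((k * (g : ↥M24) * k⁻¹ : ↥M24)) : Equiv.Perm GolayPt) • (t : Finset GolayPt) =
    (k : Equiv.Perm GolayPt) • ((g : ↥M24) : Equiv.Perm GolayPt) • ((k : Equiv.Perm GolayPt)⁻¹ • (t : Finset GolayPt))
  rw [Subgroup.coe_mul, Subgroup.coe_mul, Subgroup.coe_inv, mul_smul, mul_smul]

section

attribute [local irreducible] toPerm refsOK validP

/-- an element given by a packed permutation fixing the system -/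
noncomputable def stabElt {R : List ℕ} {P : ℕ} (h : refsOK [R] [P] = true) :
    ↥(MulAction.stabilizer M24 (objF R)) :=
  ⟨⟨toPerm P, (mem_fixRefs.1 (refsOK_mem h P List.mem_cons_self).2).1⟩,
    (mem_fixRefs.1 (refsOK_mem h P List.mem_cons_self).2).2 R List.mem_cons_self⟩

theorem stabElt_coe {R : List ℕ} {P : ℕ} (h : refsOK [R] [P] = true) :
    ((stabElt h : ↥M24) : Equiv.Perm GolayPt) = toPerm P := rfl

end

theorem validP_of_refsOK {R : List ℕ} {P : ℕ} (h : refsOK [R] [P] = true) : validP P = true :=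
  (refsOK_mem h P List.mem_cons_self).1

theorem stabElt_smul_dec {R : List ℕ} {P : ℕ} (h : refsOK [R] [P] = true) (m : ℕ) :
    ((stabElt h : ↥M24) : Equiv.Perm GolayPt) • dec m = dec (mimgB 24 m P) := by
  rw [stabElt_coe, smul_dec (validP_of_refsOK h), mimg, mimgB_eq]

/-- pairwise different packed permutations give a finset of the same size -/
theorem elts_inj {R : List ℕ} {P Q : ℕ} (hP : refsOK [R] [P] = true) (hQ : refsOK [R] [Q] = true)
    (e : stabElt hP = stabElt hQ) : eqP P Q = true := by
  refine eqP_of_toPerm_eq (validP_of_refsOK hP) (validP_of_refsOK hQ) ?_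
  rw [← stabElt_coe hP, ← stabElt_coe hQ, e]

theorem map_ap_of_eqP {P Q : ℕ} (e : eqP P Q = true) :
    (List.range 24).map (ap P) = (List.range 24).map (ap Q) := by
  rw [eqP, List.all_eq_true] at e
  exact List.map_congr_left fun i hi => beq_iff_eq.1 (e i hi)

theorem card_elts {R : List ℕ} (l : List ℕ) (h : ∀ P ∈ l, refsOK [R] [P] = true)
    (hd : (l.map fun P => (List.range 24).map (ap P)).Nodup) :
    (l.attach.map fun P => stabElt (h P.1 P.2)).Nodup := by
  refine (List.nodup_attach.2 (List.Nodup.of_map _ hd)).map_on fun P _ Q _ e => Subtype.ext ?_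
  exact List.inj_on_of_nodup_map (f := fun P => (List.range 24).map (ap P)) hd P.2 Q.2
    (map_ap_of_eqP (elts_inj (h P.1 P.2) (h Q.1 Q.2) e))

theorem index_stab_ref {R : Finset (Finset GolayPt)} {U : Set (Finset (Finset GolayPt))} {n : ℕ}
    (h : MulAction.orbit M24 R = U) (hn : U.ncard = n) :
    Nat.card ↥(MulAction.stabilizer M24 R) * n = 244823040 := by
  rw [← hn, ← h, ← MulAction.index_stabilizer, Subgroup.card_mul_index, natCard_M24]

end CfsgLib.Golay
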