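import Cfsg.Agent.Lib.Golay.Systems.StructureBasic
import Cfsg.Agent.Lib.Golay.Systems.SelfOrbits
import Cfsg.Agent.Lib.Golay.Systems.StructureData

/-!
The stabilizer of a sextet: all permutations of the tetrads, kernel of order 192, normal subgroup of order 64.
-/

set_option autoImplicit false
set_option maxRecDepth 20000

namespace CfsgLib.Golay

open Cfsg CfsgLib.Golay.SylowTwo
open scoped Pointwise

attribute [local irreducible] octTree dodTree trioTree sextTree toPerm refsOK

theorem sext_swap_checks : sextSwaps.length = 5 ∧ sxSxRef.length = 6 ∧ (sxSxRef.Nodup) ∧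
    (∀ j : Fin 5, refsOK [sxSxRef] [sextSwaps.getD j.val 0] = true ∧ ∀ i : Fin 6,
      mimgB 24 (sxSxRef.getD i.val 0) (sextSwaps.getD j.val 0) =
        sxSxRef.getD (Equiv.swap j.castSucc j.succ i).val 0) ∧
    (∀ i k : Fin 6, sxSxRef.getD i.val 0 = sxSxRef.getD k.val 0 → i = k) ∧
    (∀ m ∈ sxSxRef, m < 2 ^ 24) ∧
    (∀ m ∈ sxSxRef, ∃ i : Fin 6, sxSxRef.getD i.val 0 = m) ∧ ∀ i : Fin 6, sxSxRef.getD i.val 0 ∈ sxSxRef := by
  decide +kernel

theorem sext_ker_checks : (sextKer.all fun P => refsOK [sxSxRef] [P] && sxSxRef.all fun m => mimgB 24 m P == m) = true ∧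
    (sextKer.map fun P => (List.range 24).map (ap P)).Nodup ∧ sextKer.length = 192 ∧
    sextTwo.length = 64 ∧ (sextTwo.map fun P => (List.range 24).map (ap P)).Nodup ∧
    (sextTwo.all fun P => refsOK [sxSxRef] [P] && sextKer.contains P && eqP (mulP P P) idP) = true ∧
    (sextKer.all fun P => sextTwo.contains P || !eqP (mulP P P) idP) = true := by decide +kernel

theorem sext_two_closed : (sextTwo.all fun P => sextTwo.all fun Q => sextTwo.contains (mulP P Q)) = true := by
  decide +kernel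

theorem sext_ref_surjective : Function.Surjective (permOn (objF sxSxRef)) := by
  obtain ⟨-, -, -, hsw, hinj, hlt, hcov, hin⟩ := sext_swap_checks
  have hmem : ∀ i : Fin 6, dec (sxSxRef.getD i.val 0) ∈ objF sxSxRef := fun i => by
    simp only [objF, List.mem_toFinset]; exact List.mem_map_of_mem (hin i)
  let enum : Fin 6 ≃ ↥(objF sxSxRef) := Equiv.ofBijective (fun i => ⟨_, hmem i⟩) ⟨fun i k e =>
    hinj i k (dec_inj (hlt _ (hin i)) (hlt _ (hin k)) (congrArg Subtype.val e)), fun t => by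
      obtain ⟨t, ht⟩ := t
      simp only [objF, List.mem_toFinset, List.mem_map] at ht
      obtain ⟨m, hm, rfl⟩ := ht
      obtain ⟨i, hi⟩ := hcov m hm
      exact ⟨i, Subtype.ext (congrArg dec hi)⟩⟩
  let W : Submonoid (Equiv.Perm (Fin 6)) :=
    { carrier := {e | ∃ g, ∀ i, permOn (objF sxSxRef) g (enum i) = enum (e i)}
      one_mem' := ⟨1, fun i => by rw [map_one]; rfl⟩
      mul_mem' := fun {a b} ⟨g, hg⟩ ⟨g', hg'⟩ => ⟨g * g', fun i => by
        rw [map_mul, Equiv.Perm.mul_apply, hg', hg]; rfl⟩ }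
  have hW : ∀ e, e ∈ W := by
    intro e
    have hle : Submonoid.closure (Set.range fun i : Fin 5 => Equiv.swap i.castSucc i.succ) ≤ W := by
      refine Submonoid.closure_le.2 ?_
      rintro _ ⟨j, rfl⟩
      refine ⟨stabElt (hsw j).1, fun i => Subtype.ext ?_⟩
      rw [permOn_apply]
      show ((stabElt (hsw j).1 : ↥M24) : Equiv.Perm GolayPt) • dec (sxSxRef.getD i.val 0) = _
      rw [stabElt_smul_dec, (hsw j).2 i]
      rfl
    rw [Equiv.Perm.mclosure_swap_castSucc_succ] at hle
    exact hle trivial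
  intro e
  obtain ⟨g, hg⟩ := hW ((enum.trans e).trans enum.symm)
  refine ⟨g, Equiv.ext fun t => ?_⟩
  obtain ⟨i, rfl⟩ := enum.surjective t
  rw [hg i]
  simp

theorem card_stab_sextet {S : Finset (Finset GolayPt)} (hS : S ∈ sextets) :
    Nat.card ↥(MulAction.stabilizer M24 S) = 138240 := by
  obtain ⟨k, hk, rfl⟩ := exists_smul_ref_sextet hS
  have h := index_stab_ref orbit_sextets ((Family.ncard_sets sextFam).trans self_sigs.2.2.2.2.2.2.1)
  have e := Nat.card_congr (stabConj ⟨k, hk⟩ (objF sxSxRef)).toEquiv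
  rw [sxSx_ref] at h e
  show Nat.card ↥(MulAction.stabilizer M24 ((⟨k, hk⟩ : ↥M24) • objF sxOctRef)) = _
  rw [← e]
  omega

theorem sext_surjective {S : Finset (Finset GolayPt)} (hS : S ∈ sextets) : Function.Surjective (permOn S) := by
  obtain ⟨k, hk, rfl⟩ := exists_smul_ref_sextet hS
  exact permOn_surjective_smul (sxSx_ref ▸ sext_ref_surjective) (⟨k, hk⟩ : ↥M24)

theorem card_ker_sextet {S : Finset (Finset GolayPt)} (hS : S ∈ sextets) :
    Nat.card (permOn S).ker = 192 := by
  have h := (permOn S).ker.card_mul_index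
  rw [Subgroup.index_ker, MonoidHom.range_eq_top.2 (sext_surjective hS), Subgroup.card_top, Nat.card_perm,
    Nat.card_eq_fintype_card (α := ↥S), Fintype.card_coe, hS.1, card_stab_sextet hS,
    show Nat.factorial 6 = 720 from rfl] at h
  omega

theorem card_pointwise_sextet {S : Finset (Finset GolayPt)} (hS : S ∈ sextets) :
    Nat.card {g : ↥(MulAction.stabilizer M24 S) //
      ∀ t ∈ S, ((g : M24) : Equiv.Perm GolayPt) • t = t} = 192 := by
  rw [← card_ker_sextet hS]
  exact Nat.card_congr (Equiv.subtypeEquivRight fun g =>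
    ⟨fun h => MonoidHom.mem_ker.2 (Equiv.ext fun t => Subtype.ext (h t.1 t.2)),
      fun h t ht => congrArg Subtype.val (Equiv.congr_fun (MonoidHom.mem_ker.1 h) ⟨t, ht⟩)⟩)

theorem sext_normal_ref : ∃ N : Subgroup ↥(MulAction.stabilizer M24 (objF sxSxRef)),
    N.Normal ∧ Nat.card N = 64 ∧ ∀ x ∈ N, x * x = 1 := by
  classical
  obtain ⟨hk, hknd, hklen, h2len, h2nd, h2, hother⟩ := sext_ker_checks
  simp only [List.all_eq_true, Bool.and_eq_true, beq_iff_eq, List.contains_iff_mem, Bool.or_eq_true,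
    Bool.not_eq_true'] at hk h2 hother
  have hfix : ∀ P (hP : P ∈ sextKer), stabElt (hk P hP).1 ∈ (permOn (objF sxSxRef)).ker := by
    intro P hP
    refine MonoidHom.mem_ker.2 (Equiv.ext fun t => Subtype.ext ?_)
    obtain ⟨t, ht⟩ := t
    simp only [objF, List.mem_toFinset, List.mem_map] at ht
    obtain ⟨m, hm, rfl⟩ := ht
    rw [permOn_apply, stabElt_smul_dec, (hk P hP).2 m hm]
    rfl
  set L := sextKer.attach.map fun P => stabElt (hk P.1 P.2).1 with hL
  have hLset : (L.toFinset : Set ↥(MulAction.stabilizer M24 (objF sxSxRef))) = ((permOn (objF sxSxRef)).ker : Set ↥(MulAction.stabilizer M24 (objF sxSxRef))) := by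
    refine Set.eq_of_subset_of_ncard_le ?_ ?_
    · intro x hx
      simp only [Finset.mem_coe, hL, List.mem_toFinset, List.mem_map] at hx
      obtain ⟨P, -, rfl⟩ := hx
      exact hfix P.1 P.2
    · rw [Set.ncard_coe_finset, hL, List.toFinset_card_of_nodup (card_elts sextKer (fun P hP => (hk P hP).1) hknd),
        List.length_map, List.length_attach, hklen, ← Nat.card_coe_set_eq]
      exact (card_ker_sextet (sxSx_ref ▸ ref_sextet.1)).le
  set L2 := sextTwo.attach.map fun P => stabElt (h2 P.1 P.2).1.1 with hL2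
  have hval : ∀ P ∈ sextTwo, validP P = true := fun P hP => validP_of_refsOK (h2 P hP).1.1
  have hsq : ∀ x, x ∈ L2 ↔ x ∈ (permOn (objF sxSxRef)).ker ∧ x * x = 1 := by
    intro x
    constructor
    · intro hx
      simp only [hL2, List.mem_map] at hx
      obtain ⟨⟨P, hP⟩, -, rfl⟩ := hx
      refine ⟨hfix P (h2 P hP).1.2, Subtype.ext (Subtype.ext ?_)⟩
      show toPerm P * toPerm P = 1
      rw [← toPerm_mulP (hval P hP) (hval P hP), ← toPerm_idP]
      exact toPerm_eq_of_eqP (validP_mulP (hval P hP) (hval P hP)) validP_idP (h2 P hP).2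
    · rintro ⟨hx, hxx⟩
      have hx' : x ∈ (L.toFinset : Set ↥(MulAction.stabilizer M24 (objF sxSxRef))) := hLset ▸ hx
      simp only [Finset.mem_coe, hL, List.mem_toFinset, List.mem_map] at hx'
      obtain ⟨⟨P, hP⟩, -, rfl⟩ := hx'
      have hv := validP_of_refsOK (hk P hP).1
      have he : eqP (mulP P P) idP = true := eqP_of_toPerm_eq (validP_mulP hv hv) validP_idP (by
        rw [toPerm_mulP hv hv, toPerm_idP]
        exact congrArg (fun y : ↥(MulAction.stabilizer M24 (objF sxSxRef)) => ((y : ↥M24) : Equiv.Perm GolayPt)) hxx)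
      have hP2 : P ∈ sextTwo := (hother P hP).resolve_right (by rw [he]; simp)
      simp only [hL2, List.mem_map]
      exact ⟨⟨P, hP2⟩, List.mem_attach _ _, rfl⟩
  let N : Subgroup ↥(MulAction.stabilizer M24 (objF sxSxRef)) :=
    { carrier := {x | x ∈ L2}
      one_mem' := (hsq 1).2 ⟨one_mem _, one_mul 1⟩
      mul_mem' := fun {a b} ha hb => by
        simp only [Set.mem_setOf_eq, hL2, List.mem_map] at ha hb ⊢
        obtain ⟨⟨P, hP⟩, -, rfl⟩ := ha
        obtain ⟨⟨Q, hQ⟩, -, rfl⟩ := hb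
        have hPQ := List.contains_iff_mem.1 (List.all_eq_true.1 (List.all_eq_true.1 sext_two_closed P hP) Q hQ)
        exact ⟨⟨_, hPQ⟩, List.mem_attach _ _, Subtype.ext (Subtype.ext (toPerm_mulP (hval P hP) (hval Q hQ)))⟩
      inv_mem' := fun {a} ha => by
        show a⁻¹ ∈ L2
        rw [inv_eq_of_mul_eq_one_right ((hsq a).1 ha).2]
        exact ha }
  refine ⟨N, ⟨fun x hx g => (hsq _).2 ⟨?_, ?_⟩⟩, ?_, fun x hx => ((hsq x).1 hx).2⟩
  · exact (MonoidHom.normal_ker _).conj_mem x ((hsq x).1 hx).1 g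
  · rw [show g * x * g⁻¹ * (g * x * g⁻¹) = g * (x * x) * g⁻¹ by group, ((hsq x).1 hx).2]
    group
  · show Nat.card {x // x ∈ L2} = 64
    rw [Nat.card_congr (Equiv.subtypeEquivRight (fun x => (List.mem_toFinset (l := L2)).symm)),
      Nat.card_eq_fintype_card, Fintype.card_coe, hL2,
      List.toFinset_card_of_nodup (card_elts sextTwo (fun P hP => (h2 P hP).1.1) h2nd), List.length_map,
      List.length_attach, h2len]

theorem sext_normal {S : Finset (Finset GolayPt)} (hS : S ∈ sextets) :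
    ∃ N : Subgroup ↥(MulAction.stabilizer M24 S), N.Normal ∧ Nat.card N = 64 ∧ ∀ x ∈ N, x * x = 1 := by
  obtain ⟨k, hk, rfl⟩ := exists_smul_ref_sextet hS
  obtain ⟨N, hn, hc, hx⟩ := sext_normal_ref
  rw [← sxSx_ref]
  let e := stabConj (⟨k, hk⟩ : ↥M24) (objF sxSxRef)
  refine ⟨N.map e.toMonoidHom, hn.map _ e.surjective, ?_, ?_⟩
  · exact (Subgroup.card_map_of_injective (K := N) (f := e.toMonoidHom) e.injective).trans hc
  · rintro _ ⟨y, hy, rfl⟩
    rw [← map_mul, hx y hy, map_one]

end CfsgLib.Golay
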