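import Cfsg.Agent.Lib.Golay.Systems.StructureBasic
import Cfsg.Agent.Lib.Golay.Systems.SelfOrbits
import Cfsg.Agent.Lib.Golay.Systems.StructureData
import Cfsg.Agent.Lib.Golay.Systems.OrbitWalk.TrSx

/-!
Checks for the stabilizer of a trio.
-/

set_option autoImplicit false
set_option maxRecDepth 20000

namespace CfsgLib.Golay

open Cfsg CfsgLib.Golay.SylowTwo
open scoped Pointwise

/-- one of the seven sextets -/
def sevenAt (i : Fin 7) : List ℕ := trioSeven.getD i.val []

/-- the vector attached to one of the seven sextets -/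
def vecAt (i : Fin 7) : Fin 3 → ZMod 2 := fun r => if (trioLabels.getD i.val 0).testBit r.val then 1 else 0

/-- the sextets attached to the unit vectors -/
def unitAt : Fin 3 → Fin 7 := ![0, 1, 2]

/-- the images of the unit positions -/
def unitAt' (l : List ℕ) : List ℕ := [l.getD (unitAt 0).val 0, l.getD (unitAt 1).val 0, l.getD (unitAt 2).val 0]

/-- three systems forming a line -/
def Coll (X Y Z : Finset (Finset GolayPt)) : Prop := ∀ a ∈ X, ∀ b ∈ Y, ∀ c ∈ Z, (a ∩ b ∩ c).card ≠ 1

theorem coll_smul (g : Equiv.Perm GolayPt) {X Y Z : Finset (Finset GolayPt)} (h : Coll X Y Z) :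
    Coll (g • X) (g • Y) (g • Z) := by
  intro a ha b hb c hc
  obtain ⟨a, ha', rfl⟩ := Finset.mem_smul_finset.1 ha
  obtain ⟨b, hb', rfl⟩ := Finset.mem_smul_finset.1 hb
  obtain ⟨c, hc', rfl⟩ := Finset.mem_smul_finset.1 hc
  rw [← Finset.smul_finset_inter, ← Finset.smul_finset_inter, Finset.card_smul_finset]
  exact h a ha' b hb' c hc'

theorem trio_ref_eq : trTrRef = trSxRef := by decide +kernel

theorem seven_cover : ∀ u ∈ sextTree.objs, sigL trSxRef u = 201523248 → ∃ i : Fin 7, setEq u (sevenAt i) = true := by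
  decide +kernel

theorem seven_coll : ∀ i j k : Fin 7, i ≠ j → i ≠ k → j ≠ k →
    ((∀ a ∈ sevenAt i, ∀ b ∈ sevenAt j, ∀ c ∈ sevenAt k, pop 24 (a &&& b &&& c) ≠ 1) ↔
      vecAt i + vecAt j + vecAt k = 0) := by decide +kernel

theorem vec_facts : (∀ i j : Fin 7, vecAt i = vecAt j → i = j) ∧
    (∀ k r : Fin 3, vecAt (unitAt k) r = if r = k then 1 else 0) := by decide +kernel

theorem trio_wit_checks :
    trioLin.length = 168 ∧ (trioLin.map fun z => unitAt' z.2).Nodup ∧
    (trioLin.all fun z => refsOK [trTrRef] [z.1] && trTrRef.all (fun m => mimgB 24 m z.1 == m) &&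
      (List.finRange 7).all fun i => decide (z.2.getD i.val 0 < 7) &&
        setEq ((sevenAt i).map fun m => mimgB 24 m z.1) (trioSeven.getD (z.2.getD i.val 0) [])) = true ∧
    trioThree.length = 6 ∧ (trioThree.map fun z => z.2.map id).Nodup ∧
    (trioThree.all fun z => refsOK [trTrRef] [z.1] && (z.2.length == 3) &&
      ((List.finRange 7).all fun i => setEq ((sevenAt i).map fun m => mimgB 24 m z.1) (sevenAt i)) &&
      (List.finRange 3).all fun i => decide (z.2.getD i.val 0 < 3) &&
        mimgB 24 (trTrRef.getD i.val 0) z.1 == trTrRef.getD (z.2.getD i.val 0) 0) = true ∧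
    trioKer.length = 64 ∧ (trioKer.map fun P => (List.range 24).map (ap P)).Nodup ∧
    (trioKer.all fun P => refsOK [trTrRef] [P] && trTrRef.all (fun m => mimgB 24 m P == m) &&
      ((List.finRange 7).all fun i => setEq ((sevenAt i).map fun m => mimgB 24 m P) (sevenAt i)) &&
      eqP (mulP P P) idP) = true := by decide +kernel

theorem trio_ref_checks : (∀ i k : Fin 3, trTrRef.getD i.val 0 = trTrRef.getD k.val 0 → i = k) ∧
    (∀ m ∈ trTrRef, m < 2 ^ 24) ∧ (∀ m ∈ trTrRef, ∃ i : Fin 3, trTrRef.getD i.val 0 = m) ∧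
    ∀ i : Fin 3, trTrRef.getD i.val 0 ∈ trTrRef := by decide +kernel

end CfsgLib.Golay
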