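import Cfsg.Agent.Lib.Golay.Systems.StructureBasic
import Cfsg.Agent.Lib.Golay.Systems.SelfOrbits
import Cfsg.Agent.Lib.Golay.Systems.StructureTrioChecks
import Cfsg.Agent.Lib.Golay.Systems.OrbitWalk.TrSx
import Mathlib.LinearAlgebra.Matrix.GeneralLinearGroup.Card

/-!
The stabilizer of a trio: 2^6 extended by GL(3,2) × S3.
-/

set_option autoImplicit false
set_option maxRecDepth 20000

namespace CfsgLib.Golay

open Cfsg CfsgLib.Golay.SylowTwo
open scoped Pointwise

attribute [local irreducible] octTree dodTree trioTree sextTree toPerm refsOK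

/-- the class of the seven refining sextets -/
noncomputable def sevenClass : Set (Finset (Finset GolayPt)) := setS sextFam.sets (objF trTrRef) 201523248

theorem ncard_sevenClass : sevenClass.ncard = 7 := by
  have h := sextFam.ncard_class trSx_ok.2.1 (one_mem M24)
  rw [one_smul] at h
  rw [sevenClass, trio_ref_eq]
  exact h

theorem seven_bij : sevenClass = Set.range (fun i => objF (sevenAt i)) ∧
    Function.Injective (fun i => objF (sevenAt i)) := by
  classical
  have hn : trSxRef.Nodup := by decide +kernel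
  have hlt : ∀ m ∈ trSxRef, m < 2 ^ 24 := trio_ref_eq ▸ trio_ref_checks.2.1
  have hsub : sevenClass ⊆ Set.range (fun i => objF (sevenAt i)) := by
    rintro X ⟨hX, hc⟩
    obtain ⟨u, hu, rfl⟩ := (sextFam.mem_iff X).1 hX
    rw [trio_ref_eq, sextFam.sig_eq hn hlt hu] at hc
    obtain ⟨i, hi⟩ := seven_cover u hu hc
    exact ⟨i, (setEq_objF hi).symm⟩
  have hle : (Set.range fun i => objF (sevenAt i)).ncard ≤ 7 := by
    rw [← Set.image_univ]
    exact (Set.ncard_image_le).trans (by simp)
  have he : sevenClass = Set.range fun i => objF (sevenAt i) :=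
    Set.eq_of_subset_of_ncard_le hsub (by rw [ncard_sevenClass]; exact hle)
  refine ⟨he, fun i j e => ?_⟩
  have hinj : Set.InjOn (fun i => objF (sevenAt i)) (Set.univ : Set (Fin 7)) :=
    (Set.ncard_image_iff (Set.toFinite _)).1 (by rw [Set.image_univ, ← he, ncard_sevenClass]; simp)
  exact hinj trivial trivial e

theorem seven_move (g : ↥(MulAction.stabilizer M24 (objF trTrRef))) (i : Fin 7) :
    ∃ j, ((g : ↥M24) : Equiv.Perm GolayPt) • objF (sevenAt i) = objF (sevenAt j) := by
  obtain ⟨hX, hc⟩ : objF (sevenAt i) ∈ sevenClass := seven_bij.1 ▸ ⟨i, rfl⟩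
  have hg : ((g : ↥M24) : Equiv.Perm GolayPt) • objF trTrRef = objF trTrRef := g.2
  have : ((g : ↥M24) : Equiv.Perm GolayPt) • objF (sevenAt i) ∈ sevenClass := by
    refine ⟨sextFam.smul_mem _ (g : ↥M24).2 _ hX, ?_⟩
    have := sigF_smul ((g : ↥M24) : Equiv.Perm GolayPt) (objF trTrRef) (objF (sevenAt i))
    rw [hg, hc] at this
    exact this
  rw [seven_bij.1] at this
  obtain ⟨j, hj⟩ := this
  exact ⟨j, hj.symm⟩

/-- the action on the seven indices -/
noncomputable def sevenIdx (g : ↥(MulAction.stabilizer M24 (objF trTrRef))) (i : Fin 7) : Fin 7 :=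
  (seven_move g i).choose

theorem sevenIdx_eq {g : ↥(MulAction.stabilizer M24 (objF trTrRef))} {i j : Fin 7}
    (h : ((g : ↥M24) : Equiv.Perm GolayPt) • objF (sevenAt i) = objF (sevenAt j)) : sevenIdx g i = j :=
  seven_bij.2 ((seven_move g i).choose_spec.symm.trans h)

theorem sevenIdx_spec (g : ↥(MulAction.stabilizer M24 (objF trTrRef))) (i : Fin 7) :
    ((g : ↥M24) : Equiv.Perm GolayPt) • objF (sevenAt i) = objF (sevenAt (sevenIdx g i)) :=
  (seven_move g i).choose_spec

theorem coll_iff {i j k : Fin 7} (h1 : i ≠ j) (h2 : i ≠ k) (h3 : j ≠ k) :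
    Coll (objF (sevenAt i)) (objF (sevenAt j)) (objF (sevenAt k)) ↔ vecAt i + vecAt j + vecAt k = 0 := by
  rw [← seven_coll i j k h1 h2 h3]
  simp only [Coll, objF, List.mem_toFinset, List.mem_map, forall_exists_index, and_imp, forall_apply_eq_imp_iff₂,
    ← dec_and, card_dec_eq_pop]

/-- the matrix of an element -/
noncomputable def sevenMat (g : ↥(MulAction.stabilizer M24 (objF trTrRef))) : Matrix (Fin 3) (Fin 3) (ZMod 2) :=
  Matrix.of fun r k => vecAt (sevenIdx g (unitAt k)) r

theorem zmod2_solve : ∀ a b c : Fin 3 → ZMod 2, a + b + c = 0 → c = a + b := by decide +kernel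

theorem sevenMat_spec (g : ↥(MulAction.stabilizer M24 (objF trTrRef))) (i : Fin 7) :
    (sevenMat g).mulVec (vecAt i) = vecAt (sevenIdx g i) := by
  have hinj : ∀ a b, sevenIdx g a = sevenIdx g b → a = b := fun a b e => seven_bij.2
    (MulAction.injective ((g : ↥M24) : Equiv.Perm GolayPt)
      ((sevenIdx_spec g a).trans ((congrArg (fun z => objF (sevenAt z)) e).trans (sevenIdx_spec g b).symm)))
  have hline : ∀ a b c : Fin 7, a ≠ b → a ≠ c → b ≠ c → vecAt a + vecAt b + vecAt c = 0 →
      (sevenMat g).mulVec (vecAt a) = vecAt (sevenIdx g a) → (sevenMat g).mulVec (vecAt b) = vecAt (sevenIdx g b) →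
      (sevenMat g).mulVec (vecAt c) = vecAt (sevenIdx g c) := by
    intro a b c hab hac hbc h ha hb
    have h' := coll_smul ((g : ↥M24) : Equiv.Perm GolayPt) ((coll_iff hab hac hbc).2 h)
    rw [sevenIdx_spec, sevenIdx_spec, sevenIdx_spec,
      coll_iff (fun e => hab (hinj _ _ e)) (fun e => hac (hinj _ _ e)) (fun e => hbc (hinj _ _ e))] at h'
    rw [zmod2_solve _ _ _ h, zmod2_solve _ _ _ h', Matrix.mulVec_add, ha, hb]
  have hu : ∀ k : Fin 3, (sevenMat g).mulVec (vecAt (unitAt k)) = vecAt (sevenIdx g (unitAt k)) := by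
    intro k
    funext r
    simp [Matrix.mulVec, dotProduct, sevenMat, vec_facts.2]
  have h3 := hline 1 2 3 (by decide) (by decide) (by decide) (by decide +kernel) (hu 1) (hu 2)
  fin_cases i
  · exact hu 0
  · exact hu 1
  · exact hu 2
  · exact h3
  · exact hline 0 1 4 (by decide) (by decide) (by decide) (by decide +kernel) (hu 0) (hu 1)
  · exact hline 0 3 5 (by decide) (by decide) (by decide) (by decide +kernel) (hu 0) h3
  · exact hline 0 2 6 (by decide) (by decide) (by decide) (by decide +kernel) (hu 0) (hu 2)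

/-- the representation on the seven -/
noncomputable def sevenRep : ↥(MulAction.stabilizer M24 (objF trTrRef)) →* GL (Fin 3) (ZMod 2) :=
  ({ toFun := sevenMat
     map_one' := by
      ext r k
      have h : sevenIdx (1 : ↥(MulAction.stabilizer M24 (objF trTrRef))) (unitAt k) = unitAt k :=
        sevenIdx_eq (one_smul _ _)
      simp [sevenMat, h, vec_facts.2, Matrix.one_apply]
     map_mul' := fun a b => by
      ext r k
      have h : sevenIdx (a * b) (unitAt k) = sevenIdx a (sevenIdx b (unitAt k)) :=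
        sevenIdx_eq (by rw [Subgroup.coe_mul, Subgroup.coe_mul, mul_smul, sevenIdx_spec b, sevenIdx_spec a])
      show vecAt (sevenIdx (a * b) (unitAt k)) r = _
      rw [h, ← sevenMat_spec]
      rfl } : ↥(MulAction.stabilizer M24 (objF trTrRef)) →* Matrix (Fin 3) (Fin 3) (ZMod 2)).toHomUnits

theorem trio_mem (i : Fin 3) : dec (trTrRef.getD i.val 0) ∈ objF trTrRef := by
  simp only [objF, List.mem_toFinset]; exact List.mem_map_of_mem (trio_ref_checks.2.2.2 i)

/-- the three octads by position -/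
noncomputable def threeEnum : Fin 3 ≃ ↥(objF trTrRef) :=
  Equiv.ofBijective (fun i => ⟨_, trio_mem i⟩) ⟨fun i k e => trio_ref_checks.1 i k
    (dec_inj (trio_ref_checks.2.1 _ (trio_ref_checks.2.2.2 i)) (trio_ref_checks.2.1 _ (trio_ref_checks.2.2.2 k))
      (congrArg Subtype.val e)), fun t => by
    obtain ⟨t, ht⟩ := t
    simp only [objF, List.mem_toFinset, List.mem_map] at ht
    obtain ⟨m, hm, rfl⟩ := ht
    obtain ⟨i, hi⟩ := trio_ref_checks.2.2.1 m hm
    exact ⟨i, Subtype.ext (congrArg dec hi)⟩⟩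

/-- the representation on seven and three -/
noncomputable def trioRep : ↥(MulAction.stabilizer M24 (objF trTrRef)) →* GL (Fin 3) (ZMod 2) × Equiv.Perm (Fin 3) :=
  sevenRep.prod (threeEnum.symm.permCongrHom.toMonoidHom.comp (permOn (objF trTrRef)))

theorem sevenIdx_wit {P : ℕ} (h : refsOK [trTrRef] [P] = true) {i j : Fin 7}
    (he : setEq ((sevenAt i).map fun m => mimgB 24 m P) (sevenAt j) = true) : sevenIdx (stabElt h) i = j :=
  sevenIdx_eq (by rw [stabElt_coe, smul_objF (validP_of_refsOK h), setEq_objF he])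

theorem three_wit {P : ℕ} (h : refsOK [trTrRef] [P] = true) {i j : Fin 3}
    (he : mimgB 24 (trTrRef.getD i.val 0) P = trTrRef.getD j.val 0) : (trioRep (stabElt h)).2 i = j := by
  show threeEnum.symm (permOn (objF trTrRef) (stabElt h) (threeEnum i)) = j
  rw [Equiv.symm_apply_eq]
  refine Subtype.ext ?_
  rw [permOn_apply]
  show _ • dec (trTrRef.getD i.val 0) = dec (trTrRef.getD j.val 0)
  rw [stabElt_smul_dec, he]

theorem card_GL32 : Nat.card (GL (Fin 3) (ZMod 2)) = 168 := by
  rw [Matrix.card_GL_field]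
  simp [Fin.prod_univ_three]

theorem trioRep_surjective : Function.Surjective trioRep := by
  classical
  obtain ⟨hl, hlnd, hlin, h3l, h3nd, hthree, -⟩ := trio_wit_checks
  simp only [List.all_eq_true, Bool.and_eq_true, beq_iff_eq, decide_eq_true_eq, List.mem_finRange, forall_true_left,
    forall_const] at hlin hthree
  have key7 : ∀ z (hz : z ∈ trioLin) (i : Fin 7), (sevenIdx (stabElt (hlin z hz).1.1) i).val = z.2.getD i.val 0 := by
    intro z hz i
    obtain ⟨hlt, he⟩ := (hlin z hz).2 i
    rw [sevenIdx_wit (hlin z hz).1.1 (j := ⟨_, hlt⟩) he]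
  set fa : {z // z ∈ trioLin} → GL (Fin 3) (ZMod 2) := fun z => (trioRep (stabElt (hlin z.1 z.2).1.1)).1
  have hfa1 : ∀ z : {z // z ∈ trioLin}, (trioRep (stabElt (hlin z.1 z.2).1.1)).2 = 1 := fun z =>
    Equiv.ext fun i => three_wit _ ((hlin z.1 z.2).1.2 _ (trio_ref_checks.2.2.2 i))
  have hfa : Function.Injective fa := by
    intro z w e
    refine Subtype.ext (List.inj_on_of_nodup_map hlnd z.2 w.2 ?_)
    have hk : ∀ k : Fin 3, sevenIdx (stabElt (hlin z.1 z.2).1.1) (unitAt k) =
        sevenIdx (stabElt (hlin w.1 w.2).1.1) (unitAt k) := fun k => vec_facts.1 _ _ (funext fun r =>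
      congrArg (fun M : Matrix (Fin 3) (Fin 3) (ZMod 2) => M r k) (congrArg Units.val e))
    show unitAt' z.1.2 = unitAt' w.1.2
    simp only [unitAt', List.cons.injEq, and_true]
    refine ⟨?_, ?_, ?_⟩
    · exact ((key7 _ z.2 (unitAt 0)).symm.trans (congrArg Fin.val (hk 0))).trans (key7 _ w.2 (unitAt 0))
    · exact ((key7 _ z.2 (unitAt 1)).symm.trans (congrArg Fin.val (hk 1))).trans (key7 _ w.2 (unitAt 1))
    · exact ((key7 _ z.2 (unitAt 2)).symm.trans (congrArg Fin.val (hk 2))).trans (key7 _ w.2 (unitAt 2))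
  have hndA : trioLin.Nodup := List.Nodup.of_map _ hlnd
  have hcardA : Nat.card {z // z ∈ trioLin} = 168 := by
    rw [Nat.card_congr (Equiv.subtypeEquivRight fun z => (List.mem_toFinset (l := trioLin)).symm),
      Nat.card_eq_fintype_card, Fintype.card_coe, List.toFinset_card_of_nodup hndA, hl]
  have hGL : Nat.card (GL (Fin 3) (ZMod 2)) = 168 := by
    rw [Matrix.card_GL_field]
    simp [Fin.prod_univ_three]
  have hA : Function.Surjective fa :=
    (hfa.bijective_of_nat_card_le (by rw [hGL, hcardA])).2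
  set fb : {z // z ∈ trioThree} → Equiv.Perm (Fin 3) := fun z => (trioRep (stabElt (hthree z.1 z.2).1.1.1)).2
  have hfb1 : ∀ z : {z // z ∈ trioThree}, (trioRep (stabElt (hthree z.1 z.2).1.1.1)).1 = 1 := by
    intro z
    refine Units.ext (Matrix.ext fun r k => ?_)
    show vecAt (sevenIdx (stabElt (hthree z.1 z.2).1.1.1) (unitAt k)) r = _
    rw [sevenIdx_wit (hthree z.1 z.2).1.1.1 ((hthree z.1 z.2).1.2 (unitAt k)), vec_facts.2, Units.val_one,
      Matrix.one_apply]
  have key3 : ∀ z : {z // z ∈ trioThree}, ∀ i : Fin 3, ((fb z) i).val = z.1.2.getD i.val 0 := by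
    intro z i
    obtain ⟨hlt, he⟩ := (hthree z.1 z.2).2 i
    show ((trioRep (stabElt (hthree z.1 z.2).1.1.1)).2 i).val = _
    rw [three_wit (hthree z.1 z.2).1.1.1 (j := ⟨_, hlt⟩) he]
  have hfb : Function.Injective fb := by
    intro z w e
    refine Subtype.ext (List.inj_on_of_nodup_map h3nd z.2 w.2 ?_)
    show z.1.2.map id = w.1.2.map id
    rw [List.map_id, List.map_id]
    refine List.ext_getElem ((hthree z.1 z.2).1.1.2.trans (hthree w.1 w.2).1.1.2.symm) fun i h1 h2 => ?_
    have hi : i < 3 := (hthree z.1 z.2).1.1.2 ▸ h1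
    have := key3 z ⟨i, hi⟩
    rw [e, key3 w ⟨i, hi⟩] at this
    rw [List.getD_eq_getElem _ _ h1, List.getD_eq_getElem _ _ h2] at this
    exact this.symm
  have hndB : trioThree.Nodup := List.Nodup.of_map _ h3nd
  have hB : Function.Surjective fb :=
    (hfb.bijective_of_nat_card_le (by
      rw [Nat.card_perm, Nat.card_eq_fintype_card, Fintype.card_fin,
        Nat.card_congr (Equiv.subtypeEquivRight fun z => (List.mem_toFinset (l := trioThree)).symm),
        Nat.card_eq_fintype_card, Fintype.card_coe, List.toFinset_card_of_nodup hndB, h3l]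
      decide)).2
  rintro ⟨A, σ⟩
  obtain ⟨z, hz⟩ := hA A
  obtain ⟨w, hw⟩ := hB σ
  refine ⟨stabElt (hlin z.1 z.2).1.1 * stabElt (hthree w.1 w.2).1.1.1, ?_⟩
  rw [map_mul]
  refine Prod.ext ?_ ?_
  · rw [Prod.fst_mul, hfb1, mul_one]; exact hz
  · rw [Prod.snd_mul, hfa1, one_mul]; exact hw

theorem card_stab_trio_ref : Nat.card ↥(MulAction.stabilizer M24 (objF trTrRef)) = 64512 := by
  have h := index_stab_ref orbit_trios ((Family.ncard_sets trioFam).trans self_sigs.2.2.2.2.2.2.2)
  omega

theorem trio_ker_ref : Nat.card trioRep.ker = 64 ∧ ∀ x ∈ trioRep.ker, x * x = 1 := by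
  classical
  obtain ⟨-, -, -, -, -, -, hlen, hnd, hker⟩ := trio_wit_checks
  simp only [List.all_eq_true, Bool.and_eq_true, beq_iff_eq, List.mem_finRange, forall_true_left,
    forall_const] at hker
  have hcard : Nat.card trioRep.ker = 64 := by
    have h := trioRep.ker.card_mul_index
    rw [Subgroup.index_ker, MonoidHom.range_eq_top.2 trioRep_surjective, Subgroup.card_top, Nat.card_prod,
      Nat.card_perm, card_GL32, card_stab_trio_ref, Nat.card_fin, show Nat.factorial 3 = 6 from rfl] at h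
    omega
  refine ⟨hcard, ?_⟩
  set L := trioKer.attach.map fun P => stabElt (hker P.1 P.2).1.1.1 with hL
  have hfix : ∀ P (hP : P ∈ trioKer), stabElt (hker P hP).1.1.1 ∈ trioRep.ker := by
    intro P hP
    refine MonoidHom.mem_ker.2 (Prod.ext ?_ (Equiv.ext fun i => three_wit _ ((hker P hP).1.1.2 _ (trio_ref_checks.2.2.2 i))))
    refine Units.ext (Matrix.ext fun r k => ?_)
    show vecAt (sevenIdx (stabElt (hker P hP).1.1.1) (unitAt k)) r = _
    rw [sevenIdx_wit (hker P hP).1.1.1 ((hker P hP).1.2 (unitAt k)), vec_facts.2]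
    simp [Matrix.one_apply]
  have hLset : (L.toFinset : Set ↥(MulAction.stabilizer M24 (objF trTrRef))) =
      (trioRep.ker : Set ↥(MulAction.stabilizer M24 (objF trTrRef))) := by
    refine Set.eq_of_subset_of_ncard_le ?_ ?_
    · intro x hx
      simp only [Finset.mem_coe, hL, List.mem_toFinset, List.mem_map] at hx
      obtain ⟨P, -, rfl⟩ := hx
      exact hfix P.1 P.2
    · rw [Set.ncard_coe_finset, hL, List.toFinset_card_of_nodup (card_elts trioKer (fun P hP => (hker P hP).1.1.1) hnd),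
        List.length_map, List.length_attach, hlen, ← Nat.card_coe_set_eq]
      exact hcard.le
  intro x hx
  have hx' : x ∈ (L.toFinset : Set ↥(MulAction.stabilizer M24 (objF trTrRef))) := hLset ▸ hx
  simp only [Finset.mem_coe, hL, List.mem_toFinset, List.mem_map] at hx'
  obtain ⟨⟨P, hP⟩, -, rfl⟩ := hx'
  have hv := validP_of_refsOK (hker P hP).1.1.1
  refine Subtype.ext (Subtype.ext ?_)
  show ((stabElt (hker P hP).1.1.1 : ↥M24) : Equiv.Perm GolayPt) * ((stabElt (hker P hP).1.1.1 : ↥M24) : Equiv.Perm GolayPt) = 1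
  rw [stabElt_coe, ← toPerm_mulP hv hv, ← toPerm_idP]
  exact toPerm_eq_of_eqP (validP_mulP hv hv) validP_idP (hker P hP).2

theorem structure_transport {R T : Finset (Finset GolayPt)} {X : Type} [Group X]
    (φ : ↥(MulAction.stabilizer M24 R) →* X) (hφ : Function.Surjective φ)
    (hperm : Function.Surjective (permOn R)) {n : ℕ} (hn : Nat.card φ.ker = n)
    (hsq : ∀ x ∈ φ.ker, x * x = 1) (k : ↥M24) (hT : k • R = T) :
    Function.Surjective (permOn T) ∧
    ∃ (N : Subgroup ↥(MulAction.stabilizer M24 T)) (_ : N.Normal), Nat.card N = n ∧ (∀ x ∈ N, x * x = 1) ∧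
      Nonempty (↥(MulAction.stabilizer M24 T) ⧸ N ≃* X) := by
  subst hT
  refine ⟨permOn_surjective_smul hperm k, ?_⟩
  let e := stabConj k R
  have hψ : Function.Surjective (φ.comp e.symm.toMonoidHom) := hφ.comp e.symm.surjective
  have hker : (φ.comp e.symm.toMonoidHom).ker = φ.ker.map e.toMonoidHom := by
    ext x
    rw [MonoidHom.mem_ker, Subgroup.mem_map]
    exact ⟨fun h => ⟨e.symm x, h, e.apply_symm_apply x⟩, fun ⟨y, hy, hyx⟩ => by
      rw [← hyx]; show φ (e.symm (e y)) = 1; rw [e.symm_apply_apply]; exact hy⟩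
  refine ⟨(φ.comp e.symm.toMonoidHom).ker, inferInstance, ?_, ?_,
    ⟨QuotientGroup.quotientKerEquivOfSurjective _ hψ⟩⟩
  · rw [hker]
    exact (Subgroup.card_map_of_injective (K := φ.ker) (f := e.toMonoidHom) e.injective).trans hn
  · intro x hx
    apply e.symm.injective
    rw [map_mul, map_one]
    exact hsq _ hx

theorem trio_structure {T : Finset (Finset GolayPt)} (hT : T ∈ trios) :
    (∀ e : Equiv.Perm ↥T, ∃ g, permOn T g = e) ∧
    ∃ (N : Subgroup ↥(MulAction.stabilizer M24 T)) (_ : N.Normal), Nat.card N = 64 ∧ (∀ x ∈ N, x * x = 1) ∧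
      Nonempty (↥(MulAction.stabilizer M24 T) ⧸ N ≃* GL (Fin 3) (ZMod 2) × Equiv.Perm (Fin 3)) := by
  obtain ⟨k, hk, hkT⟩ := exists_smul_ref_trio hT
  rw [← trTr_ref] at hkT
  refine structure_transport trioRep trioRep_surjective ?_ trio_ker_ref.1 trio_ker_ref.2 ⟨k, hk⟩ hkT
  intro e
  obtain ⟨g, hg⟩ := trioRep_surjective (1, threeEnum.symm.permCongrHom e)
  exact ⟨g, threeEnum.symm.permCongrHom.injective (congrArg Prod.snd hg)⟩

end CfsgLib.Golay
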