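import Cfsg.Agent.Lib.Golay.Systems.QuartetChecks
import Cfsg.Agent.Lib.Golay.Systems.FixLists

/-!
The stabilizer of a dodecad and three of its points.
-/

set_option autoImplicit false
set_option maxRecDepth 20000

namespace CfsgLib.Golay

open Cfsg
open scoped Pointwise

theorem apply_mem_of_stab {g : Equiv.Perm GolayPt} {d : Finset GolayPt} (hg : g • d = d)
    {x : GolayPt} (hx : x ∈ d) : g x ∈ d := by
  rw [← hg]
  exact Finset.smul_mem_smul_finset hx

theorem apply_not_mem_of_stab {g : Equiv.Perm GolayPt} {d : Finset GolayPt} (hg : g • d = d)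
    {x : GolayPt} (hx : x ∉ d) : g x ∉ d := fun h => hx (by
  rw [← hg] at h
  exact (Finset.smul_mem_smul_finset_iff g).1 h)

theorem natCard_three_points {d : Finset GolayPt} (hd : d ∈ dodecads) {p q r : GolayPt}
    (hp : p ∈ d) (hq : q ∈ d) (hr : r ∈ d) (hpq : p ≠ q) (hpr : p ≠ r) (hqr : q ≠ r) :
    Nat.card ↥(MulAction.stabilizer M24 d ⊓ MulAction.stabilizer M24 p ⊓ MulAction.stabilizer M24 q ⊓
      MulAction.stabilizer M24 r) = 72 := by
  classical
  set H := MulAction.stabilizer M24 d ⊓ MulAction.stabilizer M24 p ⊓ MulAction.stabilizer M24 q ⊓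
      MulAction.stabilizer M24 r with hH
  set A := d \ {p, q, r} with hA
  have hA9 : A.card = 9 := by
    rw [hA, Finset.card_sdiff_of_subset (by simp [Finset.insert_subset_iff, hp, hq, hr]), hd.2]
    rw [Finset.card_insert_of_notMem (by simp [hpq, hpr]), Finset.card_insert_of_notMem (by simp [hqr]),
      Finset.card_singleton]
  have hmemA : ∀ {x}, x ∈ A → x ∈ d ∧ x ≠ p ∧ x ≠ q ∧ x ≠ r := fun hx => by simpa [hA] using hx
  obtain ⟨s, hs, t, ht, hst⟩ := Finset.one_lt_card.1 (by omega : 1 < A.card)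
  obtain ⟨hsd, hsp, hsq, hsr⟩ := hmemA hs
  obtain ⟨htd, htp, htq, htr⟩ := hmemA ht
  have five : ∀ a b : GolayPt, a ∈ A → b ∈ A → a ≠ b → Function.Injective ![p, q, r, a, b] := by
    intro a b ha hb hab
    obtain ⟨-, h1, h2, h3⟩ := hmemA ha
    obtain ⟨-, h4, h5, h6⟩ := hmemA hb
    rw [← List.nodup_ofFn]
    simp [List.ofFn_succ, hpq, hpr, hqr, hab, h1.symm, h2.symm, h3.symm, h4.symm, h5.symm, h6.symm]
  have hall : ∀ a b : GolayPt, a ∈ A → b ∈ A → ∀ i : Fin 5, ![p, q, r, a, b] i ∈ d := by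
    intro a b ha hb i
    fin_cases i <;> simp [hp, hq, hr, (hmemA ha).1, (hmemA hb).1]
  have hfix : ∀ g : H, ((g : M24) : Equiv.Perm GolayPt) • d = d ∧ ((g : M24) : Equiv.Perm GolayPt) p = p ∧
      ((g : M24) : Equiv.Perm GolayPt) q = q ∧ ((g : M24) : Equiv.Perm GolayPt) r = r := by
    rintro ⟨g, hg⟩
    simp only [hH, Subgroup.mem_inf] at hg
    exact ⟨hg.1.1.1, hg.1.1.2, hg.1.2, hg.2⟩
  have himg : ∀ (g : H) {x : GolayPt}, x ∈ A → ((g : M24) : Equiv.Perm GolayPt) x ∈ A := by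
    intro g x hx
    obtain ⟨hgd, hgp, hgq, hgr⟩ := hfix g
    obtain ⟨hxd, hxp, hxq, hxr⟩ := hmemA hx
    simp only [hA, Finset.mem_sdiff, Finset.mem_insert, Finset.mem_singleton, not_or]
    exact ⟨apply_mem_of_stab hgd hxd, fun e => hxp (Equiv.injective _ (e.trans hgp.symm)),
      fun e => hxq (Equiv.injective _ (e.trans hgq.symm)), fun e => hxr (Equiv.injective _ (e.trans hgr.symm))⟩
  let f : H → A.offDiag := fun g => ⟨(((g : M24) : Equiv.Perm GolayPt) s, ((g : M24) : Equiv.Perm GolayPt) t),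
    Finset.mem_offDiag.2 ⟨himg g hs, himg g ht, fun e => hst (Equiv.injective _ e)⟩⟩
  let x : Fin 5 ↪ GolayPt := ⟨_, five s t hs ht hst⟩
  have hbij : Function.Bijective f := by
    constructor
    · intro g k he
      have h1 := congrArg (fun z : A.offDiag => z.1.1) he
      have h2 := congrArg (fun z : A.offDiag => z.1.2) he
      simp only [f] at h1 h2
      obtain ⟨hgd, hgp, hgq, hgr⟩ := hfix g
      obtain ⟨hkd, hkp, hkq, hkr⟩ := hfix k
      let y : Fin 5 ↪ GolayPt :=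
        ⟨fun i => ((g : M24) : Equiv.Perm GolayPt) (x i), (Equiv.injective _).comp x.injective⟩
      have hy : ∀ i, y i ∈ d := fun i => apply_mem_of_stab hgd (hall s t hs ht i)
      obtain ⟨m, -, hm⟩ := sharply_five hd x y (hall s t hs ht) hy
      have e1 := hm ⟨(g : M24), (Subgroup.mem_inf.1 (Subgroup.mem_inf.1 (Subgroup.mem_inf.1 g.2).1).1).1⟩
        fun i => rfl
      have e2 := hm ⟨(k : M24), (Subgroup.mem_inf.1 (Subgroup.mem_inf.1 (Subgroup.mem_inf.1 k.2).1).1).1⟩ fun i => by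
        fin_cases i <;> simp [x, y, hgp, hgq, hgr, hkp, hkq, hkr, h1, h2]
      exact Subtype.ext (by simpa using Subtype.ext_iff.1 (e1.trans e2.symm))
    · rintro ⟨⟨a, b⟩, hab⟩
      obtain ⟨ha, hb, hne⟩ := Finset.mem_offDiag.1 hab
      obtain ⟨m, hm, -⟩ := sharply_five hd x ⟨_, five a b ha hb hne⟩ (hall s t hs ht) (hall a b ha hb)
      refine ⟨⟨(m : M24), ?_⟩, ?_⟩
      · simp only [hH, Subgroup.mem_inf]
        exact ⟨⟨⟨m.2, mem_stab_point.2 (by simpa [x] using hm 0)⟩, mem_stab_point.2 (by simpa [x] using hm 1)⟩,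
          mem_stab_point.2 (by simpa [x] using hm 2)⟩
      · apply Subtype.ext
        simpa [f, x, Prod.ext_iff] using And.intro (hm 3) (hm 4)
  rw [Nat.card_eq_of_bijective f hbij, Nat.card_eq_fintype_card, Fintype.card_coe, Finset.offDiag_card, hA9]

theorem three_points_transitive {d : Finset GolayPt} (hd : d ∈ dodecads) {p q r : GolayPt}
    (hp : p ∈ d) (hq : q ∈ d) (hr : r ∈ d) (hpq : p ≠ q) (hpr : p ≠ r) (hqr : q ≠ r)
    {x y : GolayPt} (hx : x ∉ d) (hy : y ∉ d) :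
    ∃ g ∈ (MulAction.stabilizer M24 d ⊓ MulAction.stabilizer M24 p ⊓ MulAction.stabilizer M24 q ⊓
      MulAction.stabilizer M24 r), ((g : M24) : Equiv.Perm GolayPt) x = y := by
  classical
  obtain ⟨g, hg, rfl⟩ := exists_smul_dod0 hd
  obtain ⟨hchk, hcov, hpts, hnd, h6, -⟩ := three_checks
  simp only [List.all_eq_true, Bool.and_eq_true, beq_iff_eq, decide_eq_true_eq] at hchk hpts
  -- a fixed standard point set outside is reached by the listed elements
  obtain ⟨s, hs, t, ht, hst⟩ : ∃ s ∈ (g • dec dod0) \ {p, q, r}, ∃ t ∈ (g • dec dod0) \ {p, q, r}, s ≠ t := by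
    refine Finset.one_lt_card.1 ?_
    have h12 : (g • dec dod0).card = 12 := by
      rw [Finset.card_smul_finset]; exact dod0_mem.2
    have := Finset.le_card_sdiff {p, q, r} (g • dec dod0)
    have h3 : ({p, q, r} : Finset GolayPt).card ≤ 3 := Finset.card_le_three
    omega
  simp only [Finset.mem_sdiff, Finset.mem_insert, Finset.mem_singleton, not_or] at hs ht
  -- five standard points of the dodecad
  have hex : ∃ u v : ℕ, u < 24 ∧ v < 24 ∧ dod0.testBit u = true ∧ dod0.testBit v = true ∧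
      (threePts ++ [u, v]).Nodup := ⟨3, 4, by decide +kernel⟩
  obtain ⟨u, v, hu, hv, hud, hvd, hnd5⟩ := hex
  have hlen : (threePts ++ [u, v]).length = 5 := rfl
  have hlt : ∀ i ∈ threePts ++ [u, v], i < 24 ∧ dod0.testBit i = true := by
    intro i hi
    simp only [List.mem_append, List.mem_cons, List.not_mem_nil, or_false] at hi
    rcases hi with hi | rfl | rfl
    exacts [hpts i hi, ⟨hu, hud⟩, ⟨hv, hvd⟩]
  let X : Fin 5 ↪ GolayPt := ⟨fun i => g (pt ((threePts ++ [u, v])[i.val]'(by omega))), fun a b h => by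
    have := pt_injOn (hlt _ (List.getElem_mem _)).1 (hlt _ (List.getElem_mem _)).1 (g.injective h)
    exact Fin.ext ((hnd5.getElem_inj_iff).1 this)⟩
  have hX : ∀ i, X i ∈ g • dec dod0 := fun i => by
    refine Finset.smul_mem_smul_finset ?_
    rw [mem_dec, idx_pt _ (hlt _ (List.getElem_mem _)).1]
    exact (hlt _ (List.getElem_mem _)).2
  have hinj : Function.Injective ![p, q, r, s, t] := by
    rw [← List.nodup_ofFn]
    simp [List.ofFn_succ, hpq, hpr, hqr, hst, Ne.symm hs.2.1, Ne.symm hs.2.2.1, Ne.symm hs.2.2.2,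
      Ne.symm ht.2.1, Ne.symm ht.2.2.1, Ne.symm ht.2.2.2]
  obtain ⟨m, hm, -⟩ := sharply_five hd X ⟨_, hinj⟩ hX
    (fun i => by fin_cases i <;> simp [hp, hq, hr, hs.1, ht.1])
  set k : Equiv.Perm GolayPt := ((m : M24) : Equiv.Perm GolayPt) * g with hk
  have hkM : k ∈ M24 := mul_mem (m : M24).2 hg
  have hkd : k • dec dod0 = g • dec dod0 := by rw [hk, mul_smul]; exact m.2
  have hk3 : k (pt 0) = p ∧ k (pt 1) = q ∧ k (pt 2) = r := by
    have h : ∀ i : Fin 5, k (pt ((threePts ++ [u, v])[i.val]'(by omega))) = ![p, q, r, s, t] i := hm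
    exact ⟨h 0, h 1, h 2⟩
  have hout : ∀ z : GolayPt, z ∉ g • dec dod0 →
      ∃ P ∈ threeGens, k (toPerm P (pt 6)) = z := by
    intro z hz
    have hz' : k⁻¹ z ∉ dec dod0 := fun h => hz (by
      rw [← hkd]
      have := Finset.smul_mem_smul_finset (a := k) h
      rwa [Equiv.Perm.smul_def, perm_apply_inv] at this)
    have hb := List.all_eq_true.1 hcov _ (List.mem_range.2 (idx_lt (k⁻¹ z)))
    simp only [Bool.or_eq_true, List.any_eq_true, beq_iff_eq] at hb
    obtain ⟨P, hP, hPi⟩ := hb.resolve_left (fun h => hz' (mem_dec.2 h))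
    have hv : validP P = true := by
      have := (hchk P hP).1.1
      simp only [inM24, Bool.and_eq_true] at this
      exact this.1
    refine ⟨P, hP, ?_⟩
    rw [toPerm_apply hv, idx_pt 6 (by norm_num), hPi, pt_idx, perm_apply_inv]
  obtain ⟨P, hP, hPx⟩ := hout x hx
  obtain ⟨Q, hQ, hQy⟩ := hout y hy
  have good : ∀ R ∈ threeGens, toPerm R ∈ M24 ∧ toPerm R • dec dod0 = dec dod0 ∧
      ∀ i ∈ threePts, toPerm R (pt i) = pt i := by
    intro R hR
    obtain ⟨⟨hM, hd0⟩, hf⟩ := hchk R hR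
    have hv : validP R = true := by simp only [inM24, Bool.and_eq_true] at hM; exact hM.1
    refine ⟨toPerm_mem_M24 hM, ?_, fun i hi => ?_⟩
    · rw [smul_dec hv, mimg, ← mimgB_eq, hd0]
    · rw [toPerm_apply hv, idx_pt _ (hpts i hi).1, hf i hi]
  obtain ⟨hP1, hP2, hP3⟩ := good P hP
  obtain ⟨hQ1, hQ2, hQ3⟩ := good Q hQ
  set w := toPerm Q * (toPerm P)⁻¹ with hw
  have hwfix : ∀ i ∈ threePts, w (pt i) = pt i := fun i hi => by
    rw [hw, Equiv.Perm.mul_apply, Equiv.Perm.inv_eq_iff_eq.2 (hP3 i hi).symm, hQ3 i hi]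
  have hM : k * w * k⁻¹ ∈ M24 := mul_mem (mul_mem hkM (mul_mem hQ1 (inv_mem hP1))) (inv_mem hkM)
  refine ⟨⟨_, hM⟩, ?_, ?_⟩
  · simp only [Subgroup.mem_inf]
    refine ⟨⟨⟨?_, ?_⟩, ?_⟩, ?_⟩
    · have hwd : w • dec dod0 = dec dod0 := by
        rw [hw, mul_smul, inv_smul_eq_iff.2 hP2.symm, hQ2]
      show (k * w * k⁻¹) • (g • dec dod0) = g • dec dod0
      exact conj_set hkd hkd hwd
    · exact conj_point hk3.1 (hwfix 0 (by decide +kernel))
    · exact conj_point hk3.2.1 (hwfix 1 (by decide +kernel))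
    · exact conj_point hk3.2.2 (hwfix 2 (by decide +kernel))
  · show (k * w * k⁻¹) x = y
    rw [← hPx, ← hQy]
    simp [hw, Equiv.Perm.mul_apply]

end CfsgLib.Golay
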