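import Cfsg.Agent.Lib.Golay.Systems.InvariantWalks
import Cfsg.Agent.Lib.Golay.Systems.TriadData
import Cfsg.Agent.Lib.Golay.Systems.TriadWalks
import Cfsg.Agent.Lib.Golay.CodeLists

/-!
Kernel checks of the triads.
-/

set_option autoImplicit false
-- the checks run one after another, which keeps the peak memory low
set_option Elab.async false
set_option maxRecDepth 20000

namespace CfsgLib.Golay

/-- the walks on triads, labelled -/
def triadPs : List ((List ℕ × ℕ × ℕ × ℕ) × ℕ × ℕ) :=
  [(triadW0, 0, 1120), (triadW1, 1, 210), (triadW2, 2, 630), (triadW4, 4, 63), (triadW6, 6, 1)]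

/-- the label of a triad against the base triad -/
def triadKey (m : ℕ) : ℕ :=
  2 * pop 24 (8388611 &&& m) +
    if pop 24 (8388611 &&& m) == 0 && triadOcts.any (fun o => o &&& m == m) then 1 else 0

theorem triadOcts_eq : (octLit.filter fun o => o &&& 8388611 == 8388611).Perm triadOcts := by decide +kernel

theorem triadTree_ok : triadTree.ok 2024 = true := by decide +kernel

theorem triadTree_items : triadTree.items.all (fun e => e.1.length == 1 &&
    e.1.all fun m => pop 24 m == 3) = true := by decide +kernel

theorem triadTree_cover : (List.range 24).all (fun i => (List.range i).all fun j => (List.range j).all fun k =>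
    (triadTree.find [2 ^ i ||| 2 ^ j ||| 2 ^ k]).isSome) = true := by decide +kernel

theorem triad_walks : keyWalksOK triadTree [[8388611]] triadGens triadPs = true := by decide +kernel

theorem triad_reps : triadPs.all (fun p => p.1.1.length == 1 &&
    p.1.1.all fun m => decide (m < 16777216) && triadKey m == p.2.1) = true := by decide +kernel

end CfsgLib.Golay
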